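import Cfsg.Agent.Lib.EqualOrder2.PslFacts
import Cfsg.Agent.Lib.Bender.Consumers.PslFacts
import Cfsg.Agent.Lib.Classical.GL2Sylow

/-!
# The two families `PSL(2, q)` of the list: Sylow `2`-subgroups and involution centralizers
-/

set_option autoImplicit false
set_option linter.unusedSectionVars false
set_option linter.style.haveILetI false

namespace CfsgLib.Walter.Rank.Factor

open Subgroup Matrix CfsgLib.AutPSL
open CfsgLib.MinNonCA (uT)
open CfsgLib.EqualOrder2 (rootU mem_rootU)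

variable {F : Type} [Field F] [Fintype F]

local notation "SL2" => Matrix.SpecialLinearGroup (Fin 2) F
local notation "PSL2" => Matrix.ProjectiveSpecialLinearGroup (Fin 2) F
local notation "π" => QuotientGroup.mk' (Subgroup.center (Matrix.SpecialLinearGroup (Fin 2) F))
local notation:max "↟" A:max => ((A : Matrix.SpecialLinearGroup (Fin 2) F) : Matrix (Fin 2) (Fin 2) F)

variable [CharP F 2]

theorem rootU_sq (x : PSL2) (hx : x ∈ (rootU : Subgroup PSL2)) : x * x = 1 := by
  obtain ⟨t, rfl⟩ := mem_rootU.1 hx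
  rw [← sq]
  exact MinNonCA.pi_uT_pow 2 t

theorem isPGroup_rootU : IsPGroup 2 (rootU : Subgroup PSL2) := fun x =>
  ⟨1, Subtype.ext (by rw [pow_one, Subgroup.coe_pow, sq]; exact rootU_sq _ x.2)⟩

/-- The unipotent subgroup as a Sylow subgroup. -/
noncomputable def rootSylow : Sylow 2 PSL2 :=
  (isPGroup_rootU (F := F)).toSylow (EqualOrder2.not_dvd_index_rootU 2)

theorem coe_rootSylow : ((rootSylow : Sylow 2 PSL2) : Subgroup PSL2) = rootU := rfl

/-- Centralizers of involutions in even characteristic. -/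
theorem cent_rootU {a : F} (ha : a ≠ 0) {x : PSL2} (hx : x * π (uT a) = π (uT a) * x) :
    x ∈ (rootU : Subgroup PSL2) := by
  obtain ⟨M, rfl⟩ := QuotientGroup.mk'_surjective _ x
  rw [← map_mul, ← map_mul] at hx
  have e : ↟(M * uT a) = ↟(uT a * M) := by
    rcases MinNonCA.pi_eq_cases hx with h | h
    · exact h.symm
    · rw [h]
      ext i j
      simp [CharTwo.neg_eq]
  rw [MinNonCA.sl2_val_mul, MinNonCA.sl2_val_mul] at e
  have e00 := congrFun₂ e 0 0
  have e01 := congrFun₂ e 0 1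
  simp [uT, Matrix.mul_apply, Fin.sum_univ_two] at e00 e01
  have h10 : ↟M 1 0 = 0 := e00.resolve_left ha
  have hd : ↟M 0 0 = ↟M 1 1 := by
    refine mul_right_cancel₀ ha (?_ : ↟M 0 0 * a = ↟M 1 1 * a)
    linear_combination e01
  have hdet := M.det_coe
  rw [Matrix.det_fin_two, h10, mul_zero, sub_zero, ← hd] at hdet
  have h1 : ↟M 0 0 = 1 := by
    rcases mul_self_eq_one_iff.1 hdet with h | h
    · exact h
    · rwa [CharTwo.neg_eq] at h
  refine mem_rootU.2 ⟨↟M 0 1, congrArg π (Subtype.ext ?_)⟩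
  ext i j
  fin_cases i <;> fin_cases j <;> simp [uT, h1, h10, ← hd]

theorem centralizer_le_rootU {u : PSL2} (hu : u ∈ (rootU : Subgroup PSL2)) (h1 : u ≠ 1) :
    centralizer ({u} : Set PSL2) ≤ rootU := by
  obtain ⟨a, rfl⟩ := mem_rootU.1 hu
  refine fun x hx => cent_rootU (fun ha => h1 ?_) (mem_centralizer_singleton_iff.1 hx)
  subst ha
  refine (QuotientGroup.eq_one_iff _).2 ?_
  rw [show uT (0 : F) = 1 from Subtype.ext (by ext i j; fin_cases i <;> fin_cases j <;> simp [uT])]
  exact one_mem _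

/-- The diagonal torus. -/
def diagElt (g : Fˣ) : SL2 := ⟨!![(g : F), 0; 0, (↑g⁻¹ : F)], by simp [Matrix.det_fin_two]⟩

omit [Fintype F] [CharP F 2] in
theorem diag_conj (g : Fˣ) (b : F) : diagElt g * uT b = uT ((g : F) * g * b) * diagElt g := by
  refine Subtype.ext ?_
  rw [MinNonCA.sl2_val_mul, MinNonCA.sl2_val_mul]
  ext i j
  fin_cases i <;> fin_cases j <;> simp [diagElt, uT, Matrix.mul_apply, Fin.sum_univ_two] <;> field_simp

omit [Fintype F] [CharP F 2] in
theorem diag_conj_proj (g : Fˣ) (b : F) :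
    π (diagElt g) * π (uT b) * (π (diagElt g))⁻¹ = π (uT ((g : F) * g * b)) := by
  rw [← map_mul, diag_conj, map_mul, mul_inv_cancel_right]

/-- A torus permuting the involutions of `rootU` transitively. -/
theorem exists_torus_rootU : ∃ k ∈ normalizer ((rootU : Subgroup PSL2) : Set PSL2),
    ∀ v ∈ (rootU : Subgroup PSL2), v ≠ 1 → ∀ w ∈ (rootU : Subgroup PSL2), w ≠ 1 →
      ∃ i : ℕ, k ^ i * v * (k ^ i)⁻¹ = w := by
  classical
  obtain ⟨g, hg⟩ := IsCyclic.exists_generator (α := Fˣ)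
  refine ⟨π (diagElt g), mem_normalizer_fintype fun x hx => ?_, ?_⟩
  · obtain ⟨b, rfl⟩ := mem_rootU.1 hx
    rw [diag_conj_proj]
    exact mem_rootU.2 ⟨_, rfl⟩
  intro v hv hv1 w hw hw1
  obtain ⟨b, rfl⟩ := mem_rootU.1 hv
  obtain ⟨c, rfl⟩ := mem_rootU.1 hw
  have hne : ∀ b : F, π (uT b) ≠ 1 → b ≠ 0 := fun b h hb => h (by
    subst hb
    rw [show uT (0 : F) = 1 from Subtype.ext (by ext i j; fin_cases i <;> fin_cases j <;> simp [uT]), map_one])
  have hpow : ∀ (i : ℕ) (b : F),
      π (diagElt g) ^ i * π (uT b) * (π (diagElt g) ^ i)⁻¹ = π (uT (((g : F) * g) ^ i * b)) := by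
    intro i
    induction i with
    | zero => intro b; simp
    | succ i ih =>
      intro b
      rw [pow_succ, show π (diagElt g) ^ i * π (diagElt g) * π (uT b) * (π (diagElt g) ^ i * π (diagElt g))⁻¹ =
        π (diagElt g) ^ i * (π (diagElt g) * π (uT b) * (π (diagElt g))⁻¹) * (π (diagElt g) ^ i)⁻¹ by group,
        diag_conj_proj, ih, pow_succ]
      congr 2; ring
  have hsurj : Function.Surjective (fun y : F => y * y) := fun y => by
    obtain ⟨r, hr⟩ := FiniteField.isSquare_of_char_two (ringChar.eq F 2) y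
    exact ⟨r, hr.symm⟩
  obtain ⟨y, hy : y * y = c / b⟩ := hsurj (c / b)
  have hy0 : y ≠ 0 := fun h => div_ne_zero (hne c hw1) (hne b hv1) (by rw [← hy, h, mul_zero])
  obtain ⟨i, hi⟩ := (mem_powers_iff_mem_zpowers.2 (hg (Units.mk0 y hy0)))
  refine ⟨i, ?_⟩
  rw [hpow, mul_pow, ← Units.val_pow_eq_pow_val, show g ^ i = Units.mk0 y hy0 from hi, Units.val_mk0, hy,
    div_mul_cancel₀ _ (hne b hv1)]

/-- An automorphism fixing the unipotent subgroup pointwise squares to one. -/
theorem aut_sq_of_fix (β : MulAut PSL2) (hβ : ∀ u ∈ (rootU : Subgroup PSL2), β u = u) : β * β = 1 := by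
  obtain ⟨σ, g, rfl⟩ := GW.exists_ind β
  have key : ∀ b : F, g.1 * ↟(uT (σ b)) = ↟(uT b) * g.1 := by
    intro b
    have h := hβ _ (mem_rootU.2 ⟨b, rfl⟩)
    have e : ind g σ (π (uT b)) = π (slConj g (slField σ (uT b))) := rfl
    rw [e, MinNonCA.slField_uT] at h
    have h' : (slConj g (uT (σ b))).1 = ↟(uT b) := by
      rcases MinNonCA.pi_eq_cases h with h | h
      · exact h.symm
      · rw [h]
        ext i j
        simp [CharTwo.neg_eq]
    rw [slConj_val] at h'
    rw [← h', mul_assoc _ (g⁻¹).1, Units.inv_mul, mul_one]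
  have e1 := key 1
  rw [map_one] at e1
  have a00 := congrFun₂ e1 0 0
  have a01 := congrFun₂ e1 0 1
  simp [uT, Matrix.mul_apply, Fin.sum_univ_two] at a00 a01
  have hd : g.1 0 0 = g.1 1 1 := by linear_combination a01
  have h00 : g.1 0 0 ≠ 0 := fun h => by
    have := (g.isUnit.map Matrix.detMonoidHom).ne_zero
    simp [Matrix.det_fin_two, h, a00] at this
  have hσ : σ = 1 := RingEquiv.ext fun b => by
    have e2 := congrFun₂ (key b) 0 1
    simp [uT, Matrix.mul_apply, Fin.sum_univ_two, ← hd] at e2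
    have : g.1 0 0 * σ b = b * g.1 0 0 := by linear_combination e2
    rw [mul_comm b] at this
    exact mul_left_cancel₀ h00 this
  subst hσ
  rw [← indHom_apply, ← map_mul]
  refine indHom_scalar le_rfl (c := g.1 0 0 * g.1 0 0) ?_
  rw [Units.val_mul]
  ext i j
  fin_cases i <;> fin_cases j <;>
    simp [Matrix.mul_apply, Fin.sum_univ_two, a00, ← hd, mul_comm (g.1 0 1), CharTwo.add_self_eq_zero]

omit [CharP F 2] in
/-- `|PSL(2, q)|` is four times odd for `q ≡ 3, 5 (mod 8)`. -/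
theorem factorization_two_odd (h8 : Fintype.card F % 8 = 3 ∨ Fintype.card F % 8 = 5) :
    (Nat.card PSL2).factorization 2 = 2 := by
  haveI := Fact.mk Nat.prime_two
  have h := Classical.card_psl2 (F := F)
  have hodd : Fintype.card F % 2 = 1 := by omega
  have hg : Nat.gcd 2 (Fintype.card F - 1) = 2 :=
    Nat.gcd_eq_left ⟨(Fintype.card F - 1) / 2, by omega⟩
  rw [hg] at h
  obtain ⟨r, hr2, hr⟩ : ∃ r, ¬ 2 ∣ r ∧ (Fintype.card F - 1) * (Fintype.card F + 1) = 8 * r := by
    rcases h8 with e | e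
    · obtain ⟨k, hk⟩ : ∃ k, Fintype.card F = 8 * k + 3 := ⟨Fintype.card F / 8, by omega⟩
      refine ⟨(4 * k + 1) * (2 * k + 1), fun h' => ?_, by rw [hk, show 8 * k + 3 - 1 = 8 * k + 2 by omega]; ring⟩
      rcases Nat.prime_two.dvd_mul.1 h' with h' | h' <;> omega
    · obtain ⟨k, hk⟩ : ∃ k, Fintype.card F = 8 * k + 5 := ⟨Fintype.card F / 8, by omega⟩
      refine ⟨(2 * k + 1) * (4 * k + 3), fun h' => ?_, by rw [hk, show 8 * k + 5 - 1 = 8 * k + 4 by omega]; ring⟩
      rcases Nat.prime_two.dvd_mul.1 h' with h' | h' <;> omega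
  have hX : Nat.card PSL2 = 2 ^ 2 * (Fintype.card F * r) := by
    have h' : 2 * Nat.card PSL2 = 2 * (2 ^ 2 * (Fintype.card F * r)) := by rw [h, hr]; ring
    omega
  rw [hX]
  refine Classical.factorization_of_coprime (hr := fun h' => ?_)
  rcases Nat.prime_two.dvd_mul.1 h' with h' | h'
  · omega
  · exact hr2 h'

omit [CharP F 2] in
/-- Sylow `2`-subgroups for `q ≡ 3, 5 (mod 8)` are four groups. -/
theorem sylow_four (h8 : Fintype.card F % 8 = 3 ∨ Fintype.card F % 8 = 5) (P : Sylow 2 PSL2) :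
    Nat.card (P : Subgroup PSL2) = 4 ∧ ∀ x ∈ (P : Subgroup PSL2), x * x = 1 := by
  haveI := Fact.mk Nat.prime_two
  have hc : Nat.card (P : Subgroup PSL2) = 4 := by
    rw [P.card_eq_multiplicity, factorization_two_odd h8]; norm_num
  refine ⟨hc, ?_⟩
  obtain ⟨a, b, ha, hb, ha2, hb2, hne, hab⟩ := PslMax.exists_four_mem (Nat.odd_iff.2 (by omega)) P
  haveI hK := Invol.isKleinFour_closure_pair ha2 hb2 hne hab
  have hle : closure ({a, b} : Set PSL2) ≤ (P : Subgroup PSL2) := by
    rw [closure_le]; rintro x (rfl | rfl) <;> assumption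
  have heq := eq_of_le_of_card_ge hle (by rw [hc, hK.card_four])
  intro x hx
  rw [← heq] at hx
  exact congrArg Subtype.val (IsKleinFour.mul_self (⟨x, hx⟩ : closure ({a, b} : Set PSL2)))

end CfsgLib.Walter.Rank.Factor
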