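import Cfsg.Agent.Lib.Walter.Rank.Setup
import Cfsg.Agent.Lib.Walter.Rank.FactorModel
import Cfsg.Agent.Lib.EqualOrder2.Small
import Cfsg.Agent.Lib.NormPSL.Central
import Cfsg.Agent.Lib.Perm.Dickson.Minimal
import Cfsg.Agent.S1245

/-!
# Facts on the groups of the list

`PSL(2, 2 ^ n)`, `PSL(2, q)` with `q ≡ 3, 5 (mod 8)`, and the groups of type Janko or Ree: Sylow subgroup,
torus, odd cores and shape of involution centralizers, rigidity.
-/

set_option autoImplicit false
set_option linter.unusedSectionVars false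
set_option linter.style.haveILetI false

namespace CfsgLib.Walter.Rank

open Subgroup

universe u

variable {K : Type u} [Group K] [Finite K]

namespace Factor

/-- An isomorphism with `PSL(2, 2 ^ n)` carrying the given Sylow subgroup to the unipotent subgroup. -/
theorem exists_even_iso {F : Type} [Field F] [Fintype F] [CharP F 2]
    (e : K ≃* Matrix.ProjectiveSpecialLinearGroup (Fin 2) F) (P : Sylow 2 K) :
    ∃ e' : K ≃* Matrix.ProjectiveSpecialLinearGroup (Fin 2) F,
      ∀ x : K, e' x ∈ (EqualOrder2.rootU : Subgroup (Matrix.ProjectiveSpecialLinearGroup (Fin 2) F)) ↔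
        x ∈ (P : Subgroup K) := by
  haveI := Fact.mk Nat.prime_two
  set Q := P.mapSurjective (f := e.toMonoidHom) e.surjective with hQ
  obtain ⟨g, hg⟩ := MulAction.exists_smul_eq (Matrix.ProjectiveSpecialLinearGroup (Fin 2) F) Q rootSylow
  refine ⟨e.trans (MulAut.conj g), fun x => ?_⟩
  rw [← coe_rootSylow, ← hg, Sylow.coe_subgroup_smul,
    show (Q : Subgroup (Matrix.ProjectiveSpecialLinearGroup (Fin 2) F)) = (P : Subgroup K).map e.toMonoidHom from rfl]
  constructor
  · rintro ⟨_, ⟨y, hy, rfl⟩, h⟩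
    exact e.injective ((MulAut.conj g).injective h) ▸ hy
  · exact fun hx => ⟨e x, ⟨x, hx, rfl⟩, rfl⟩

/-- The centralizers of conjugate elements are isomorphic. -/
theorem centralizer_equiv (g t : K) :
    Nonempty (centralizer ({t} : Set K) ≃* centralizer ({g * t * g⁻¹} : Set K)) := by
  refine ⟨((MulAut.conj g).subgroupMap (centralizer ({t} : Set K))).trans (MulEquiv.subgroupCongr ?_)⟩
  ext x
  constructor
  · rintro ⟨y, hy, rfl⟩
    exact mem_centralizer_singleton_iff.2
      ((show Commute y t from mem_centralizer_singleton_iff.1 hy).map (MulAut.conj g).toMonoidHom).eq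
  · intro hx
    refine ⟨g⁻¹ * x * g, mem_centralizer_singleton_iff.2 ?_, by simp [mul_assoc]⟩
    have h := mem_centralizer_singleton_iff.1 hx
    calc g⁻¹ * x * g * t = g⁻¹ * (x * (g * t * g⁻¹)) * g := by group
      _ = g⁻¹ * (g * t * g⁻¹ * x) * g := by rw [h]
      _ = t * (g⁻¹ * x * g) := by group

end Factor

open Factor

theorem sylow_elementary (hs : IsSimpleGroup K) (hc : CentForm K) (P : Sylow 2 K) :
    4 ≤ Nat.card (P : Subgroup K) ∧ ∀ x ∈ (P : Subgroup K), x * x = 1 := by
  haveI := Fact.mk Nat.prime_two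
  rcases hc with ⟨F, iF, iF', ⟨n, hn2, hn⟩ | ⟨-, h8⟩, ⟨e⟩⟩ | ⟨h8, -⟩
  · haveI : CharP F 2 := charP_of_card_eq_prime_pow hn
    obtain ⟨e', he'⟩ := exists_even_iso e P
    refine ⟨?_, fun x hx => e'.injective (by rw [map_mul, map_one]; exact rootU_sq _ ((he' x).2 hx))⟩
    rw [Nat.card_congr (Equiv.subtypeEquiv e'.toEquiv (fun x => (he' x).symm)), EqualOrder2.card_rootU, hn]
    exact (show 2 ^ 2 ≤ 2 ^ n from Nat.pow_le_pow_right (by norm_num) hn2)
  · set Q := P.mapSurjective (f := e.toMonoidHom) e.surjective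
    have hQ : (Q : Subgroup _) = (P : Subgroup K).map e.toMonoidHom := rfl
    obtain ⟨h4, hsq⟩ := sylow_four h8 Q
    rw [hQ, card_map_of_injective (f := e.toMonoidHom) e.injective] at h4
    refine ⟨h4.ge, fun x hx => e.injective ?_⟩
    rw [map_mul, map_one]
    exact hsq _ (hQ ▸ mem_map_of_mem _ hx)
  · exact ⟨by rw [(h8 P).1]; norm_num, (h8 P).2⟩

theorem sylow_isElementary (hs : IsSimpleGroup K) (hc : CentForm K) (P : Sylow 2 K) :
    Cfsg.IsElementaryAbelian 2 (P : Subgroup K) := by
  have h := (sylow_elementary hs hc P).2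
  refine ⟨⟨⟨fun a b => Subtype.ext ?_⟩⟩, fun a ha => by rw [sq]; exact h a ha⟩
  show (a : K) * b = b * a
  have h1 := h _ (mul_mem a.2 b.2)
  rw [mul_eq_one_iff_eq_inv, mul_inv_rev, inv_eq_of_mul_eq_one_right (h _ a.2),
    inv_eq_of_mul_eq_one_right (h _ b.2)] at h1
  exact h1

namespace Factor

/-- A simple group is not a `2`-group with commuting elements, and `P` has no weakly closed involution. -/
theorem exists_moved (hs : IsSimpleGroup K) (hna : ¬ IsMulCommutative K) (P : Sylow 2 K)
    (hP : Cfsg.IsElementaryAbelian 2 (P : Subgroup K)) {z : K} (hz : z ∈ (P : Subgroup K)) (hz1 : z ≠ 1) :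
    ∃ n ∈ normalizer ((P : Subgroup K) : Set K), n * z * n⁻¹ ≠ z := by
  haveI := Fact.mk Nat.prime_two
  haveI := hs
  by_contra! hfix
  refine NormPSL.false_of_weakly_closed hna P (EqualOrder2.invol_of_mem P hP hz hz1) fun g hg => ?_
  have hcent : ∀ x ∈ (P : Subgroup K), x ∈ centralizer ((P : Subgroup K) : Set K) := fun x hx =>
    mem_centralizer_iff.2 fun y hy => (EqualOrder2.comm_of_mem P hP hy hx).eq
  obtain ⟨n, hn, hnz⟩ := P.conj_eq_normalizer_conj_of_mem_centralizer z g⁻¹ (hcent z hz)
    (by rw [inv_inv]; exact hcent _ hg)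
  rw [inv_inv] at hnz
  rw [hnz]
  have h := hfix _ (inv_mem hn)
  rwa [inv_inv] at h

/-- An odd-order normalizer action with an orbit of length `|P| - 1`, for `|P| = 4, 8`. -/
theorem exists_torus_small (hs : IsSimpleGroup K) (hna : ¬ IsMulCommutative K) (P : Sylow 2 K)
    (hP : Cfsg.IsElementaryAbelian 2 (P : Subgroup K))
    (hcard : Nat.card (P : Subgroup K) = 4 ∨ Nat.card (P : Subgroup K) = 8) :
    ∃ k ∈ normalizer ((P : Subgroup K) : Set K), ∀ v ∈ (P : Subgroup K), v ≠ 1 →
      ∀ w ∈ (P : Subgroup K), w ≠ 1 → ∃ i : ℕ, k ^ i * v * (k ^ i)⁻¹ = w := by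
  classical
  haveI := Fact.mk Nat.prime_two
  set N := normalizer ((P : Subgroup K) : Set K) with hN
  let f : N →* MulAut (P : Subgroup K) :=
    (MulAut.congr (subgroupOfEquivOfLe le_normalizer)).toMonoidHom.comp
      (MulAut.conjNormal (H := (P : Subgroup K).subgroupOf N))
  have hf : ∀ (n : N) (x : (P : Subgroup K)), ((f n x : (P : Subgroup K)) : K) = (n : K) * x * (n : K)⁻¹ :=
    fun n x => rfl
  haveI : Finite (MulAut (P : Subgroup K)) := Finite.of_injective (fun σ : MulAut (P : Subgroup K) => (σ : _ → _))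
    DFunLike.coe_injective
  have hle : (P : Subgroup K).subgroupOf N ≤ f.ker := fun n hn => MonoidHom.mem_ker.2 (MulEquiv.ext fun x => by
    refine Subtype.ext ?_
    rw [hf, (EqualOrder2.comm_of_mem P hP (show (n : K) ∈ (P : Subgroup K) from hn) x.2).eq, mul_inv_cancel_right]
    rfl)
  have hodd : Odd (Nat.card f.range) := by
    rw [← Subgroup.index_ker, ← Nat.not_even_iff_odd, even_iff_two_dvd]
    exact fun h => P.not_dvd_index ((h.trans (index_dvd_of_le hle)).trans
      (relIndex_dvd_index_of_le le_normalizer))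
  -- fixed points of elements of prime order
  have hfix : ∀ (r : ℕ) [Fact r.Prime] (A : Subgroup (MulAut (P : Subgroup K))), IsPGroup r A →
      ∃ F : Subgroup (P : Subgroup K), (∀ x, x ∈ F ↔ ∀ a ∈ A, a x = x) ∧
        Nat.card (P : Subgroup K) ≡ Nat.card F [MOD r] ∧ Nat.card F ∣ Nat.card (P : Subgroup K) := by
    intro r _ A hA
    let F : Subgroup (P : Subgroup K) :=
      { carrier := {x | ∀ a ∈ A, a x = x}
        one_mem' := fun a _ => map_one a
        mul_mem' := fun {x y} hx hy a ha => by rw [map_mul, hx a ha, hy a ha]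
        inv_mem' := fun {x} hx a ha => by rw [map_inv, hx a ha] }
    refine ⟨F, fun x => Iff.rfl, ?_, Subgroup.card_subgroup_dvd_card F⟩
    have h := hA.card_modEq_card_fixedPoints (P : Subgroup K)
    have e : Nat.card (MulAction.fixedPoints A (P : Subgroup K)) = Nat.card F :=
      Nat.card_congr (Equiv.subtypeEquiv (Equiv.refl _) fun x =>
        ⟨fun hx a ha => hx ⟨a, ha⟩, fun hx a => hx a a.2⟩)
    rwa [e] at h
  set m := Nat.card (P : Subgroup K) - 1 with hm
  have hmp : m.Prime := by rcases hcard with h | h <;> rw [hm, h] <;> norm_num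
  haveI := Fact.mk hmp
  haveI : Finite f.range := inferInstance
  by_cases hmA : m ∣ Nat.card f.range
  · obtain ⟨⟨α, n, hn⟩, hα⟩ := exists_prime_orderOf_dvd_card' (G := f.range) m hmA
    rw [← Subgroup.orderOf_coe] at hα
    refine ⟨n, n.2, fun v hv hv1 w hw hw1 => ?_⟩
    have hA : IsPGroup m (zpowers α) := IsPGroup.of_card (n := 1) (by rw [Nat.card_zpowers, pow_one]; exact hα)
    obtain ⟨F, hF, hmod, hdvd⟩ := hfix m (zpowers α) hA
    have hF1 : ∀ x ∈ F, x = 1 := by
      by_contra! hx
      obtain ⟨x, hx, hx1⟩ := hx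
      have hFtop : Nat.card F = Nat.card (P : Subgroup K) := by
        have h2 : 1 < Nat.card F := Finite.one_lt_card_iff_nontrivial.2
          ⟨⟨⟨x, hx⟩, 1, fun e => hx1 (congrArg Subtype.val e)⟩⟩
        rcases hcard with h | h <;> rw [h] at hdvd hmod ⊢ <;> simp only [hm, h] at hmod
        · have : Nat.card F ≤ 4 := Nat.le_of_dvd (by norm_num) hdvd
          interval_cases (Nat.card F) <;> first | rfl | (revert hmod; decide) | (revert hdvd; decide)
        · have : Nat.card F ≤ 8 := Nat.le_of_dvd (by norm_num) hdvd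
          interval_cases (Nat.card F) <;> first | rfl | (revert hmod; decide) | (revert hdvd; decide)
      have hα1 : α = 1 := MulEquiv.ext fun y =>
        (hF y).1 ((Subgroup.eq_top_of_card_eq F hFtop).ge (mem_top y)) α (mem_zpowers α)
      have hαo : orderOf α = m := hα
      rw [hα1, orderOf_one] at hαo
      exact hmp.one_lt.ne hαo
    set x : (P : Subgroup K) := ⟨v, hv⟩ with hxdef
    have horb : Nat.card (MulAction.orbit (zpowers α) x) = m := by
      obtain ⟨j, hj⟩ := hA.card_orbit x
      rcases Nat.eq_zero_or_pos j with rfl | hj0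
      · exfalso
        rw [pow_zero] at hj
        haveI := (Nat.card_eq_one_iff_unique.1 hj).1
        refine hv1 (congrArg Subtype.val (hF1 x ((hF x).2 fun a ha => ?_)))
        exact congrArg Subtype.val (Subsingleton.elim
          (⟨(⟨a, ha⟩ : zpowers α) • x, MulAction.mem_orbit _ _⟩ : MulAction.orbit (zpowers α) x)
          ⟨x, MulAction.mem_orbit_self x⟩)
      · have h1 : Nat.card (MulAction.orbit (zpowers α) x) ≤ Nat.card (P : Subgroup K) :=
          Nat.card_le_card_of_injective _ Subtype.val_injective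
        rcases Nat.lt_or_ge j 2 with hj2 | hj2
        · rw [hj, show j = 1 by omega, pow_one]
        · exfalso
          have h2 : m ^ 2 ≤ m ^ j := Nat.pow_le_pow_right hmp.pos hj2
          rw [← hj] at h2
          rcases hcard with h | h <;> simp only [hm, h] at h1 h2 <;> omega
    have hsub : MulAction.orbit (zpowers α) x ⊆ {y : (P : Subgroup K) | y ≠ 1} := by
      rintro y ⟨a, rfl⟩ h
      exact hv1 (congrArg Subtype.val ((map_eq_one_iff (a : MulAut (P : Subgroup K))
        (a : MulAut (P : Subgroup K)).injective).1 h : x = 1))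
    have heq := Set.eq_of_subset_of_ncard_le hsub (by
      rw [show {y : (P : Subgroup K) | y ≠ 1} = ({1} : Set (P : Subgroup K))ᶜ from rfl, Set.ncard_compl,
        Set.ncard_singleton, ← hm, ← horb]
      exact (Nat.card_coe_set_eq _).le)
    obtain ⟨⟨β, hβ⟩, hβx⟩ := heq.ge (show (⟨w, hw⟩ : (P : Subgroup K)) ∈ _ from fun e =>
      hw1 (congrArg Subtype.val e))
    obtain ⟨i, rfl⟩ := mem_powers_iff_mem_zpowers.2 hβ
    refine ⟨i, ?_⟩
    have h1 := congrArg Subtype.val hβx
    dsimp at h1
    rw [← hn, ← map_pow] at h1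
    rw [← Subgroup.coe_pow]
    exact (hf _ x).symm.trans h1
  · exfalso
    have hA : IsPGroup 3 f.range := by
      refine IsPGroup.of_card (n := (Nat.card f.range).primeFactorsList.length)
        (Nat.eq_prime_pow_of_unique_prime_dvd Nat.card_pos.ne' fun {r} hr hrd => ?_)
      haveI := Fact.mk hr
      obtain ⟨⟨α, hα'⟩, hα⟩ := exists_prime_orderOf_dvd_card' (G := f.range) r hrd
      rw [← Subgroup.orderOf_coe] at hα
      obtain ⟨F, hF, hmod, hdvd⟩ := hfix r (zpowers α)
        (IsPGroup.of_card (n := 1) (by rw [Nat.card_zpowers, pow_one]; exact hα))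
      have hlt : Nat.card F ≠ Nat.card (P : Subgroup K) := fun h => hr.one_lt.ne (by
        have hαo : orderOf α = r := hα
        rw [← hαo, show α = 1 from MulEquiv.ext fun y =>
          (hF y).1 ((Subgroup.eq_top_of_card_eq F h).ge (mem_top y)) α (mem_zpowers α)]
        exact orderOf_one.symm)
      have hr2 : r ≠ 2 := fun h => Nat.not_even_iff_odd.2 hodd (even_iff_two_dvd.2 (h ▸ hrd))
      have hrm : r ≠ m := fun h => hmA (h ▸ hrd)
      have hd : r ∣ Nat.card (P : Subgroup K) - Nat.card F :=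
        (Nat.modEq_iff_dvd' (Nat.le_of_dvd Nat.card_pos hdvd)).1 hmod.symm
      rcases hcard with h | h <;> rw [h] at hd hdvd hlt <;> simp only [hm, h] at hrm
      · have : Nat.card F ≤ 4 := Nat.le_of_dvd (by norm_num) hdvd
        have hle4 : r ≤ 4 := by
          interval_cases (Nat.card F) <;>
            first | exact absurd hdvd (by decide) | exact absurd rfl hlt | exact (Nat.le_of_dvd (by norm_num) hd).trans (by norm_num)
        interval_cases r <;> first | rfl | omega | (exfalso; revert hr; decide)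
      · have : Nat.card F ≤ 8 := Nat.le_of_dvd (by norm_num) hdvd
        have hle7 : r ≤ 7 := by
          interval_cases (Nat.card F) <;>
            first | exact absurd hdvd (by decide) | exact absurd rfl hlt | exact (Nat.le_of_dvd (by norm_num) hd).trans (by norm_num)
        interval_cases r <;> first | rfl | omega | (exfalso; revert hr; decide) |
          (exfalso; interval_cases (Nat.card F) <;>
            first | exact absurd hdvd (by decide) | exact absurd hd (by decide) | omega)
    haveI : Fact (Nat.Prime 3) := ⟨Nat.prime_three⟩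
    obtain ⟨F, hF, hmod, hdvd⟩ := hfix 3 f.range hA
    have hall : ∀ x ∈ F, ∀ n : N, (n : K) * (x : K) * (n : K)⁻¹ = x := fun x hx n => by
      rw [← hf]; exact congrArg Subtype.val ((hF x).1 hx _ ⟨n, rfl⟩)
    obtain ⟨x, hx, hx1⟩ : ∃ x ∈ F, x ≠ 1 := by
      rcases hcard with h | h
      · obtain ⟨k, hk⟩ := IsPGroup.iff_card.1 hA
        have h3 : m = 3 := by rw [hm, h]
        rw [h3] at hmA
        have hk0 : k = 0 := by
          by_contra hk0
          exact hmA (hk ▸ dvd_pow_self 3 hk0)
        rw [hk0, pow_zero, Subgroup.card_eq_one] at hk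
        haveI : Nontrivial (P : Subgroup K) := Finite.one_lt_card_iff_nontrivial.1 (by rw [h]; norm_num)
        obtain ⟨x, hx⟩ := exists_ne (1 : (P : Subgroup K))
        exact ⟨x, (hF x).2 fun a ha => by rw [hk, mem_bot] at ha; rw [ha]; rfl, hx⟩
      · by_contra! hall1
        have : F = ⊥ := (eq_bot_iff_forall _).2 hall1
        rw [this, Subgroup.card_bot, h] at hmod
        exact absurd hmod (by decide)
    obtain ⟨n, hn, hne⟩ := exists_moved hs hna P hP x.2 (fun e => hx1 (Subtype.ext e))
    exact hne (hall x hx ⟨n, hn⟩)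

theorem not_commutative (hs : IsSimpleGroup K) (hc : CentForm K) : ¬ IsMulCommutative K := by
  intro h
  obtain ⟨P⟩ : Nonempty (Sylow 2 K) := inferInstance
  haveI := hs
  have hK : Nat.card K ≠ 0 := Nat.card_pos.ne'
  letI : CommGroup K := { (inferInstance : Group K) with mul_comm := isMulCommutative_iff.1 h }
  have hp := IsSimpleGroup.prime_card (α := K)
  rcases (Nat.dvd_prime hp).1 (card_subgroup_dvd_card (P : Subgroup K)) with e | e
  · have := (sylow_elementary hs hc P).1
    omega
  · have := (sylow_elementary hs hc P).1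
    obtain ⟨k, hk⟩ := P.2.exists_card_eq
    rw [e] at hk this
    have hk2 : 2 ≤ k := by
      by_contra hk2
      interval_cases k <;> omega
    exact Nat.Prime.not_prime_pow hk2 (hk ▸ hp)

end Factor

/-- The torus: an element of `N(P)` whose powers are transitive on the involutions of `P`. -/
theorem exists_torus (hs : IsSimpleGroup K) (hc : CentForm K) (hab : AbTwo K) (P : Sylow 2 K) :
    ∃ k ∈ normalizer ((P : Subgroup K) : Set K), ∀ v ∈ (P : Subgroup K), v ≠ 1 →
      ∀ w ∈ (P : Subgroup K), w ≠ 1 → ∃ i : ℕ, k ^ i * v * (k ^ i)⁻¹ = w := by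
  haveI := Fact.mk Nat.prime_two
  have hna := not_commutative hs hc
  have hP := sylow_isElementary hs hc P
  rcases hc with ⟨F, iF, iF', ⟨n, hn2, hn⟩ | ⟨-, h8⟩, ⟨e⟩⟩ | ⟨h8, -⟩
  · haveI : CharP F 2 := charP_of_card_eq_prime_pow hn
    obtain ⟨e', he'⟩ := exists_even_iso e P
    obtain ⟨k, hk, htr⟩ := exists_torus_rootU (F := F)
    refine ⟨e'.symm k, mem_normalizer_iff.2 fun x => ?_, fun v hv hv1 w hw hw1 => ?_⟩
    · rw [← he', ← he', map_mul, map_mul, map_inv, MulEquiv.apply_symm_apply]
      exact mem_normalizer_iff.1 hk (e' x)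
    · obtain ⟨i, hi⟩ := htr (e' v) ((he' v).2 hv) (fun h => hv1 (e'.injective (h.trans (map_one e').symm)))
        (e' w) ((he' w).2 hw) (fun h => hw1 (e'.injective (h.trans (map_one e').symm)))
      exact ⟨i, e'.injective (by rw [map_mul, map_mul, map_inv, map_pow, MulEquiv.apply_symm_apply, hi])⟩
  · refine exists_torus_small hs hna P hP (Or.inl ?_)
    rw [← card_map_of_injective (f := e.toMonoidHom) e.injective]
    exact (sylow_four h8 (P.mapSurjective (f := e.toMonoidHom) e.surjective)).1
  · exact exists_torus_small hs hna P hP (Or.inr (h8 P).1)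

/-- All involutions are conjugate. -/
theorem invol_conjugate (hs : IsSimpleGroup K) (hc : CentForm K) (hab : AbTwo K) {s t : K}
    (hs2 : orderOf s = 2) (ht2 : orderOf t = 2) : ∃ g : K, g * s * g⁻¹ = t := by
  obtain ⟨P⟩ : Nonempty (Sylow 2 K) := inferInstance
  have hP := sylow_isElementary hs hc P
  obtain ⟨g, hg⟩ := EqualOrder2.exists_conj_into P hP hs2
  obtain ⟨h, hh⟩ := EqualOrder2.exists_conj_into P hP ht2
  obtain ⟨k, -, htr⟩ := exists_torus hs hc hab P
  obtain ⟨i, hi⟩ := htr _ hg (Invol.invol_ne_one (Invol.invol_conj hs2 g)) _ hh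
    (Invol.invol_ne_one (Invol.invol_conj ht2 h))
  refine ⟨h⁻¹ * k ^ i * g, ?_⟩
  calc h⁻¹ * k ^ i * g * s * (h⁻¹ * k ^ i * g)⁻¹ = h⁻¹ * (k ^ i * (g * s * g⁻¹) * (k ^ i)⁻¹) * h := by group
    _ = h⁻¹ * (h * t * h⁻¹) * h := by rw [hi]
    _ = t := by group

namespace Factor

theorem psl_mod {F : Type} [Field F] [Fintype F]
    (hF : Fintype.card F = 5 ∨ ∃ m : ℕ, 1 ≤ m ∧ Fintype.card F = 3 ^ (2 * m + 1)) :
    (Fintype.card F % 8 = 3 ∨ Fintype.card F % 8 = 5) ∧ 4 ≤ Nat.card F := by
  rw [Nat.card_eq_fintype_card]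
  rcases hF with h | ⟨m, hm, h⟩ <;> rw [h]
  · norm_num
  · refine ⟨Or.inl ?_, ?_⟩
    · rw [pow_succ, pow_mul, Nat.mul_mod, Nat.pow_mod]
      norm_num
    · exact le_trans (by norm_num) (Nat.pow_le_pow_right (show 0 < 3 by norm_num) (show 2 ≤ 2 * m + 1 by omega))

end Factor

/-- In a group of type Janko or Ree every involution centralizer is `⟨t⟩ × E`, `E` simple. -/
theorem centralizer_of_reeForm (hs : IsSimpleGroup K) (hr : ReeForm K) (hab : AbTwo K) {t : K}
    (ht : orderOf t = 2) :
    ∃ E : Subgroup K, IsSimpleGroup E ∧ ¬ IsMulCommutative E ∧ t ∉ E ∧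
      Cfsg.IsInternalDirectProduct (zpowers t) E (centralizer ({t} : Set K)) ∧
      ∃ (F : Type) (_ : Field F) (_ : Fintype F), (Fintype.card F % 8 = 3 ∨ Fintype.card F % 8 = 5) ∧
        Nonempty (E ≃* Matrix.ProjectiveSpecialLinearGroup (Fin 2) F) := by
  classical
  obtain ⟨h8, t₀, ht₀, F, iF, iF', hF, ⟨e₀⟩⟩ := hr
  obtain ⟨hmod, h4⟩ := psl_mod hF
  obtain ⟨g, rfl⟩ := invol_conjugate hs (Or.inr ⟨h8, t₀, ht₀, F, iF, iF', hF, ⟨e₀⟩⟩) hab ht₀ ht
  obtain ⟨c⟩ := centralizer_equiv g t₀
  set t := g * t₀ * g⁻¹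
  set C := centralizer ({t} : Set K) with hC
  let e := c.symm.trans e₀
  obtain ⟨hsimp, hnab⟩ := Perm.Dickson.psl_simple_noncomm (F := F) h4
  haveI := hsimp
  have hcen : ∀ y : Matrix.ProjectiveSpecialLinearGroup (Fin 2) F, (∀ z, y * z = z * y) → y = 1 := fun y hy => by
    rcases (inferInstance : (center (Matrix.ProjectiveSpecialLinearGroup (Fin 2) F)).Normal).eq_bot_or_eq_top
      with h | h
    · exact mem_bot.1 (h ▸ mem_center_iff.2 fun z => (hy z).symm)
    · exact absurd (isMulCommutative_iff.2 fun a b => (mem_center_iff.1 (h ▸ mem_top b : b ∈ center _) a)) hnab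
  have htC : t ∈ C := mem_centralizer_singleton_iff.2 rfl
  obtain ⟨het1, het2⟩ : (e ⟨t, htC⟩).2 = 1 ∧ (e ⟨t, htC⟩).1 = Multiplicative.ofAdd 1 := by
    have h2 : (e ⟨t, htC⟩).2 = 1 := hcen _ fun z => by
      have h := congrArg Prod.snd (congrArg e (show (⟨t, htC⟩ : C) * e.symm (1, z) = e.symm (1, z) * ⟨t, htC⟩ from
        Subtype.ext (mem_centralizer_singleton_iff.1 (e.symm (1, z)).2).symm))
      simpa using h
    refine ⟨h2, ?_⟩
    have h1 : (e ⟨t, htC⟩).1 ≠ 1 := fun h1 => Invol.invol_ne_one ht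
      (congrArg Subtype.val (e.injective ((Prod.ext h1 h2).trans (map_one e).symm)))
    revert h1
    generalize (e ⟨t, htC⟩).1 = a
    revert a
    decide
  set E₀ : Subgroup C := ((MonoidHom.inr (Multiplicative (ZMod 2))
    (Matrix.ProjectiveSpecialLinearGroup (Fin 2) F)).range).comap e.toMonoidHom with hE₀
  have hmem : ∀ x : C, x ∈ E₀ ↔ (e x).1 = 1 := fun x => by
    refine ⟨fun ⟨y, hy⟩ => ?_, fun h => ⟨(e x).2, Prod.ext h.symm rfl⟩⟩
    rw [show e x = (1, y) from hy.symm]
  set E := E₀.map C.subtype with hE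
  let eE : E ≃* Matrix.ProjectiveSpecialLinearGroup (Fin 2) F :=
    ((E₀.equivMapOfInjective C.subtype C.subtype_injective).symm.trans
      ((e.subgroupMap E₀).trans (MulEquiv.subgroupCongr (map_comap_eq_self_of_surjective e.surjective _)))).trans
      (MonoidHom.ofInjective (f := MonoidHom.inr (Multiplicative (ZMod 2))
        (Matrix.ProjectiveSpecialLinearGroup (Fin 2) F)) fun a b h => (Prod.ext_iff.1 h).2).symm
  haveI : Nontrivial E := eE.toEquiv.nontrivial
  have htE : t ∉ E := by
    rintro ⟨x, hx, hxt⟩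
    have h := (hmem x).1 hx
    rw [show x = ⟨t, htC⟩ from Subtype.ext hxt, het2] at h
    exact absurd h (by decide)
  refine ⟨E, IsSimpleGroup.isSimpleGroup_of_surjective eE.symm.toMonoidHom eE.symm.surjective, fun h => hnab
    (isMulCommutative_iff.2 fun a b => eE.symm.injective (by
      rw [map_mul, map_mul]; exact isMulCommutative_iff.1 h _ _)), htE, ?_, F, iF, iF', hmod, ⟨eE⟩⟩
  refine ⟨zpowers_le.2 htC, map_subtype_le _, ?_, ?_, ?_⟩
  · intro a ha b hb
    obtain ⟨i, rfl⟩ := mem_zpowers_iff.1 ha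
    have hbC : b ∈ C := map_subtype_le _ hb
    exact ((show Commute t b from (mem_centralizer_singleton_iff.1 hbC).symm).zpow_left i).eq
  · refine (eq_bot_iff_forall _).2 fun x ⟨hx, hxE⟩ => ?_
    rcases NormPSL.mem_zpowers_invol ht hx with h | h
    · exact h
    · exact absurd (h ▸ hxE) htE
  · refine le_antisymm (sup_le (zpowers_le.2 htC) (map_subtype_le _)) fun x hx => ?_
    rcases (show ∀ a : Multiplicative (ZMod 2), a = 1 ∨ a = Multiplicative.ofAdd 1 from by decide) (e ⟨x, hx⟩).1
      with h | h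
    · exact mem_sup_right ⟨⟨x, hx⟩, (hmem _).2 h, rfl⟩
    · have hy : (⟨t, htC⟩ : C) * ⟨x, hx⟩ ∈ E₀ := (hmem _).2 (by
        rw [map_mul, Prod.fst_mul, het2, h]; decide)
      have hx' : x = t * (t * x) := by rw [← mul_assoc, Invol.invol_mul_self ht, one_mul]
      rw [hx']
      exact mul_mem (mem_sup_left (mem_zpowers t)) (mem_sup_right ⟨_, hy, rfl⟩)

/-- A nonsolvable involution centralizer: rank three, `C(t) = ⟨t⟩ × E`, `E` simple in the list. -/
theorem centralizer_structure (hs : IsSimpleGroup K) (hc : CentForm K) (hab : AbTwo K) {t : K}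
    (ht : orderOf t = 2) (hns : ¬ Group.IsSolvable ↥(centralizer ({t} : Set K))) :
    (∀ P : Sylow 2 K, Nat.card (P : Subgroup K) = 8) ∧
      ∃ E : Subgroup K, IsSimpleGroup E ∧ ¬ IsMulCommutative E ∧ t ∉ E ∧
        Cfsg.IsInternalDirectProduct (zpowers t) E (centralizer ({t} : Set K)) ∧
        ∀ P : Sylow 2 E, Nat.card (P : Subgroup E) = 4 := by
  haveI := Fact.mk Nat.prime_two
  obtain ⟨P⟩ : Nonempty (Sylow 2 K) := inferInstance
  have hP := sylow_isElementary hs hc P
  rcases hc with ⟨F, iF, iF', hq, ⟨e⟩⟩ | hr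
  · exfalso
    obtain ⟨g, hg⟩ := EqualOrder2.exists_conj_into P hP ht
    obtain ⟨c⟩ := centralizer_equiv g t
    refine hns ?_
    suffices h : Group.IsSolvable (centralizer ({g * t * g⁻¹} : Set K)) from
      Group.isSolvable_of_surjective (f := c.symm.toMonoidHom) c.symm.surjective
    rcases hq with ⟨n, hn2, hn⟩ | ⟨-, h8⟩
    · haveI : CharP F 2 := charP_of_card_eq_prime_pow hn
      obtain ⟨e', he'⟩ := exists_even_iso e P
      refine Group.isSolvable_of_comm fun a b => Subtype.ext ?_
      have hle : ∀ x ∈ centralizer ({g * t * g⁻¹} : Set K), x ∈ (P : Subgroup K) := fun x hx =>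
        (he' x).1 (centralizer_le_rootU ((he' _).2 hg) (fun h => Invol.invol_ne_one (Invol.invol_conj ht g)
          (e'.injective (h.trans (map_one e').symm))) (mem_centralizer_singleton_iff.2 (by
            rw [← map_mul, ← map_mul, mem_centralizer_singleton_iff.1 hx])))
      exact (EqualOrder2.comm_of_mem P hP (hle a a.2) (hle b b.2)).eq
    · refine EqualOrder2.solvable_cent_four P hP ?_ hg (Invol.invol_conj ht g)
      rw [← card_map_of_injective (f := e.toMonoidHom) e.injective]
      exact (sylow_four h8 (P.mapSurjective (f := e.toMonoidHom) e.surjective)).1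
  · obtain ⟨E, hE1, hE2, hE3, hE4, F, iF, iF', hmod, ⟨e⟩⟩ := centralizer_of_reeForm hs hr hab ht
    refine ⟨fun Q => (hr.1 Q).1, E, hE1, hE2, hE3, hE4, fun Q => ?_⟩
    rw [← card_map_of_injective (f := e.toMonoidHom) e.injective]
    exact (sylow_four hmod (Q.mapSurjective (f := e.toMonoidHom) e.surjective)).1

/-- In rank at least three the involution centralizers have trivial odd core. -/
theorem core_centralizer_eq_bot (hs : IsSimpleGroup K) (hc : CentForm K) (hab : AbTwo K) (P : Sylow 2 K)
    (h8 : 8 ≤ Nat.card (P : Subgroup K)) {t : K} (ht : orderOf t = 2) :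
    Cfsg.pPrimeCore 2 ↥(centralizer ({t} : Set K)) = ⊥ := by
  haveI := Fact.mk Nat.prime_two
  set C := centralizer ({t} : Set K) with hC
  set O := Cfsg.pPrimeCore 2 ↥C with hO
  have hodd : Odd (Nat.card O) := by
    rw [← Nat.not_even_iff_odd, even_iff_two_dvd]
    exact Coprime.pPrimeCore_not_dvd Nat.prime_two
  have hP := sylow_isElementary hs hc P
  refine (eq_bot_iff_forall _).2 fun x hx => ?_
  have hxo : Odd (orderOf x) := hodd.of_dvd_nat (Subgroup.orderOf_dvd_natCard O hx)
  rcases hc with ⟨F, iF, iF', ⟨n, hn2, hn⟩ | ⟨-, h8'⟩, ⟨e⟩⟩ | hr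
  · haveI : CharP F 2 := charP_of_card_eq_prime_pow hn
    obtain ⟨g, hg⟩ := EqualOrder2.exists_conj_into P hP ht
    obtain ⟨e', he'⟩ := exists_even_iso e P
    have hxt : (x : K) * t = t * x := mem_centralizer_singleton_iff.1 x.2
    have hmem : g * (x : K) * g⁻¹ ∈ (P : Subgroup K) := (he' _).1
      (centralizer_le_rootU ((he' _).2 hg) (fun h => Invol.invol_ne_one (Invol.invol_conj ht g)
        (e'.injective (h.trans (map_one e').symm))) (mem_centralizer_singleton_iff.2 (by
          rw [← map_mul, ← map_mul]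
          exact congrArg e' ((show Commute (x : K) t from hxt).map (MulAut.conj g).toMonoidHom).eq)))
    have h1 : (x : K) * x = 1 := by
      have := EqualOrder2.sq_of_mem P hP hmem
      rw [show g * (x : K) * g⁻¹ * (g * (x : K) * g⁻¹) = g * ((x : K) * x) * g⁻¹ by group, conj_eq_one_iff] at this
      exact this
    exact Invol.eq_one_of_odd_of_pow_two (k := 1) hxo (by rw [pow_one, sq]; exact Subtype.ext h1)
  · exfalso
    have h4 := (sylow_four h8' (P.mapSurjective (f := e.toMonoidHom) e.surjective)).1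
    have hcm : Nat.card ((P : Subgroup K).map e.toMonoidHom) = 4 := h4
    rw [card_map_of_injective (f := e.toMonoidHom) e.injective] at hcm
    omega
  · obtain ⟨E, hE1, hE2, -, hE4, -⟩ := centralizer_of_reeForm hs hr hab ht
    -- `O` commutes with the simple factor modulo its trivial part
    haveI := hE1
    have hEC : E ≤ C := hE4.2.1
    set O₁ : Subgroup E := (O.map C.subtype).subgroupOf E with hO₁
    haveI : O.Normal := by rw [hO, Coprime.pPrimeCore_eq_piCore Nat.prime_two]; infer_instance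
    have hnorm : O₁.Normal := ⟨fun y ⟨z, hz, hzy⟩ a =>
      ⟨⟨a, hEC a.2⟩ * z * ⟨a, hEC a.2⟩⁻¹, Subgroup.Normal.conj_mem inferInstance z hz _, by
        show (a : K) * ((z : C) : K) * (a : K)⁻¹ = (a : K) * y * (a : K)⁻¹
        rw [show ((z : C) : K) = y from hzy]⟩⟩
    have hO₁bot : O₁ = ⊥ := by
      refine hnorm.eq_bot_or_eq_top.resolve_right fun htop => hE2 ?_
      have hEodd : Odd (Nat.card E) := by
        have h1 : E ≤ O.map C.subtype := subgroupOf_eq_top.1 htop
        exact (card_map_of_injective C.subtype_injective (K := O) ▸ hodd : Odd (Nat.card (O.map C.subtype))).of_dvd_nat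
          (card_dvd_of_le h1)
      haveI : Group.IsSolvable E := FT.isSolvable_of_odd _ hEodd
      exact isMulCommutative_iff.2 fun a b => IsSimpleGroup.comm_iff_isSolvable.2 inferInstance a b
    obtain ⟨a, ha, b, hb, hab'⟩ : ∃ a ∈ zpowers t, ∃ b ∈ E, a * b = (x : K) := by
      haveI : Subgroup.Normal ((zpowers t).subgroupOf C) := ⟨fun n hn c => by
        obtain ⟨i, hi⟩ := mem_zpowers_iff.1 (show (n : K) ∈ zpowers t from hn)
        show (c : K) * n * (c : K)⁻¹ ∈ zpowers t
        rw [← hi, ((show Commute (c : K) t from mem_centralizer_singleton_iff.1 c.2).zpow_right i).eq,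
          mul_inv_cancel_right]
        exact zpow_mem (mem_zpowers t) i⟩
      have hxs : x ∈ (zpowers t).subgroupOf C ⊔ E.subgroupOf C := by
        rw [← subgroupOf_sup (hE4.1) hEC, hE4.2.2.2.2]
        exact mem_subgroupOf.2 x.2
      obtain ⟨a, ha, b, hb, h⟩ := mem_sup_of_normal_left.1 hxs
      exact ⟨a, ha, b, hb, congrArg Subtype.val h⟩
    -- the `E` part is an odd power of `x`
    obtain ⟨j, hj⟩ := hxo
    have hcomm : Commute a b := hE4.2.2.1 a ha b hb
    have hsq : a * a = 1 := by
      rcases NormPSL.mem_zpowers_invol ht ha with h | h <;> rw [h]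
      · rw [one_mul]
      · exact Invol.invol_mul_self ht
    have hbx : b * b = (x : K) * x := by
      rw [← hab', hcomm.symm.mul_mul_mul_comm, hsq, one_mul]
    have hbb : b * b ∈ (E : Subgroup K) := mul_mem hb hb
    have h2 : (⟨b * b, hbb⟩ : E) ∈ O₁ := ⟨x * x, mul_mem hx hx, by rw [map_mul]; exact hbx.symm⟩
    rw [hO₁bot, mem_bot] at h2
    have h3 : (x : K) * x = 1 := hbx ▸ congrArg Subtype.val h2
    exact Invol.eq_one_of_odd_of_pow_two (k := 1) ⟨j, hj⟩ (by rw [pow_one, sq]; exact Subtype.ext h3)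

theorem centralizer_two_isSolvable (hs : IsSimpleGroup K) (hc : CentForm K) (hab : AbTwo K) {u v : K}
    (hu : orderOf u = 2) (hv : orderOf v = 2) (huv : u * v = v * u) (hne : u ≠ v) :
    Group.IsSolvable ↥(centralizer ({u, v} : Set K)) := by
  classical
  haveI := Fact.mk Nat.prime_two
  have hle : centralizer ({u, v} : Set K) ≤ centralizer ({u} : Set K) :=
    centralizer_le (by simp)
  by_cases hsolv : Group.IsSolvable ↥(centralizer ({u} : Set K))
  · exact Group.isSolvable_of_isSolvable_injective (f := Subgroup.inclusion hle) (Subgroup.inclusion_injective hle)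
  rcases hc with ⟨F, iF, iF', hq, he⟩ | hr
  · have h8 := (centralizer_structure hs (Or.inl ⟨F, iF, iF', hq, he⟩) hab hu hsolv).1
    obtain ⟨P⟩ : Nonempty (Sylow 2 K) := inferInstance
    exfalso
    rcases hq with ⟨n, hn2, hn⟩ | ⟨-, h8'⟩
    · haveI : CharP F 2 := charP_of_card_eq_prime_pow hn
      obtain ⟨e⟩ := he
      have hP := sylow_isElementary hs (Or.inl ⟨F, iF, iF', Or.inl ⟨n, hn2, hn⟩, ⟨e⟩⟩) P
      obtain ⟨g, hg⟩ := EqualOrder2.exists_conj_into P hP hu
      obtain ⟨e', he'⟩ := exists_even_iso e P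
      obtain ⟨c⟩ := centralizer_equiv g u
      refine hsolv ?_
      haveI : Group.IsSolvable (centralizer ({g * u * g⁻¹} : Set K)) :=
        Group.isSolvable_of_comm fun a b => Subtype.ext (by
          have hle' : ∀ x ∈ centralizer ({g * u * g⁻¹} : Set K), x ∈ (P : Subgroup K) := fun x hx =>
            (he' x).1 (centralizer_le_rootU ((he' _).2 hg) (fun h => Invol.invol_ne_one (Invol.invol_conj hu g)
              (e'.injective (h.trans (map_one e').symm))) (mem_centralizer_singleton_iff.2 (by
                rw [← map_mul, ← map_mul, mem_centralizer_singleton_iff.1 hx])))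
          exact (EqualOrder2.comm_of_mem P hP (hle' a a.2) (hle' b b.2)).eq)
      exact Group.isSolvable_of_surjective (f := c.symm.toMonoidHom) c.symm.surjective
    · obtain ⟨e⟩ := he
      have h4 := (sylow_four h8' (P.mapSurjective (f := e.toMonoidHom) e.surjective)).1
      have hcm : Nat.card ((P : Subgroup K).map e.toMonoidHom) = 4 := h4
      rw [card_map_of_injective (f := e.toMonoidHom) e.injective, h8 P] at hcm
      omega
  obtain ⟨E, hE1, -, -, hE4, F, iF, iF', hmod, ⟨e⟩⟩ := centralizer_of_reeForm hs hr hab hu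
  have hvC : v ∈ centralizer ({u} : Set K) := mem_centralizer_singleton_iff.2 huv.symm
  have hdec : ∀ x ∈ centralizer ({u} : Set K), ∃ a ∈ zpowers u, ∃ b ∈ E, a * b = x := by
    intro x hx
    rw [← hE4.2.2.2.2] at hx
    refine Subgroup.closure_induction (p := fun x _ => ∃ a ∈ zpowers u, ∃ b ∈ E, a * b = x) ?_ ?_ ?_ ?_
      (show x ∈ closure ((zpowers u : Set K) ∪ (E : Set K)) by rwa [← sup_eq_closure])
    · rintro y (hy | hy)
      · exact ⟨y, hy, 1, one_mem _, mul_one y⟩
      · exact ⟨1, one_mem _, y, hy, one_mul y⟩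
    · exact ⟨1, one_mem _, 1, one_mem _, one_mul 1⟩
    · rintro y z - - ⟨a, ha, b, hb, rfl⟩ ⟨a', ha', b', hb', rfl⟩
      exact ⟨a * a', mul_mem ha ha', b * b', mul_mem hb hb',
        (show Commute a' b from hE4.2.2.1 a' ha' b hb).mul_mul_mul_comm _ _⟩
    · rintro y - ⟨a, ha, b, hb, rfl⟩
      exact ⟨a⁻¹, inv_mem ha, b⁻¹, inv_mem hb, by
        rw [← mul_inv_rev, (show Commute a b from hE4.2.2.1 a ha b hb).eq]⟩
  obtain ⟨a, ha, b, hb, hab'⟩ := hdec v hvC
  have hau : a = 1 ∨ a = u := NormPSL.mem_zpowers_invol hu ha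
  have hb1 : b ≠ 1 := fun h => by
    rw [h, mul_one] at hab'
    rcases hau with h' | h'
    · exact Invol.invol_ne_one hv (hab'.symm.trans h')
    · exact hne (h'.symm.trans hab')
  have hcom : Commute a b := hE4.2.2.1 a ha b hb
  have hb2 : b * b = 1 := by
    have h := Invol.invol_mul_self hv
    rw [← hab', hcom.symm.mul_mul_mul_comm] at h
    rcases hau with h' | h' <;> rw [h'] at h
    · rwa [one_mul, one_mul] at h
    · rwa [Invol.invol_mul_self hu, one_mul] at h
  have hbo : orderOf (⟨b, hb⟩ : E) = 2 :=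
    Invol.invol_iff.2 ⟨Subtype.ext hb2, fun h => hb1 (congrArg Subtype.val h)⟩
  obtain ⟨S⟩ : Nonempty (Sylow 2 E) := inferInstance
  obtain ⟨h4, hsq⟩ := sylow_four hmod (S.mapSurjective (f := e.toMonoidHom) e.surjective)
  have hS : Cfsg.IsElementaryAbelian 2 (S : Subgroup E) := by
    have hs' : ∀ x ∈ (S : Subgroup E), x * x = 1 := fun x hx => e.injective (by
      rw [map_mul, map_one]; exact hsq _ (mem_map_of_mem e.toMonoidHom hx))
    refine ⟨⟨⟨fun p q => Subtype.ext ?_⟩⟩, fun p hp => by rw [sq]; exact hs' p hp⟩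
    show (p : E) * q = q * p
    have h1 := hs' _ (mul_mem p.2 q.2)
    rw [mul_eq_one_iff_eq_inv, mul_inv_rev, inv_eq_of_mul_eq_one_right (hs' _ p.2),
      inv_eq_of_mul_eq_one_right (hs' _ q.2)] at h1
    exact h1
  have hS4 : Nat.card (S : Subgroup E) = 4 := by
    rw [← card_map_of_injective (f := e.toMonoidHom) e.injective]; exact h4
  obtain ⟨g, hg⟩ := EqualOrder2.exists_conj_into S hS hbo
  haveI := EqualOrder2.solvable_cent_four S hS hS4 hg (Invol.invol_conj hbo g)
  haveI : Group.IsSolvable (centralizer ({(⟨b, hb⟩ : E)} : Set E)) := by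
    obtain ⟨c⟩ := centralizer_equiv g (⟨b, hb⟩ : E)
    exact Group.isSolvable_of_surjective (f := c.symm.toMonoidHom) c.symm.surjective
  set Cb := (centralizer ({(⟨b, hb⟩ : E)} : Set E)).map E.subtype with hCb
  haveI : Group.IsSolvable Cb :=
    Group.isSolvable_of_surjective (f := (centralizer ({(⟨b, hb⟩ : E)} : Set E)).equivMapOfInjective E.subtype
      E.subtype_injective |>.toMonoidHom) (MulEquiv.surjective _)
  -- `C(u, v)` is generated by `u` and `C_E(b)`
  have hsub : centralizer ({u, v} : Set K) ≤ zpowers u ⊔ Cb := by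
    intro x hx
    have hxu : x ∈ centralizer ({u} : Set K) := hle hx
    obtain ⟨p, hp, q, hq, rfl⟩ := hdec x hxu
    refine mul_mem (mem_sup_left hp) (mem_sup_right ⟨⟨q, hq⟩, mem_centralizer_singleton_iff.2 (Subtype.ext ?_), rfl⟩)
    show q * b = b * q
    have hxv : v * (p * q) = p * q * v := mem_centralizer_iff.1 hx v (by simp)
    rw [← hab'] at hxv
    have hpa : Commute p a := by
      obtain ⟨i, rfl⟩ := mem_zpowers_iff.1 hp
      obtain ⟨j, rfl⟩ := mem_zpowers_iff.1 ha
      exact (Commute.refl u).zpow_zpow i j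
    rw [(show Commute b p from (hE4.2.2.1 p hp b hb).symm).mul_mul_mul_comm,
      (show Commute q a from (hE4.2.2.1 a ha q hq).symm).mul_mul_mul_comm, ← hpa.eq] at hxv
    exact (mul_left_cancel hxv).symm
  haveI : Group.IsSolvable (zpowers u) := Group.isSolvable_of_comm fun x y => Subtype.ext (by
    obtain ⟨i, hi⟩ := mem_zpowers_iff.1 x.2
    obtain ⟨j, hj⟩ := mem_zpowers_iff.1 y.2
    show (x : K) * y = y * x
    rw [← hi, ← hj, ← zpow_add, ← zpow_add, add_comm])
  haveI : Group.IsSolvable ↥(zpowers u ⊔ Cb) := by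
    haveI : ((zpowers u).subgroupOf (zpowers u ⊔ Cb)).Normal := by
      refine (normal_subgroupOf_iff_le_normalizer le_sup_left).2 (sup_le le_normalizer fun y hy => ?_)
      refine mem_normalizer_fintype fun z hz => ?_
      have hyC : y ∈ centralizer ({u} : Set K) := hE4.2.1 (map_subtype_le _ hy)
      obtain ⟨i, rfl⟩ := mem_zpowers_iff.1 hz
      rw [((show Commute y u from mem_centralizer_singleton_iff.1 hyC).zpow_right i).eq, mul_inv_cancel_right]
      exact zpow_mem (mem_zpowers u) i
    haveI : Group.IsSolvable ((zpowers u).subgroupOf (zpowers u ⊔ Cb)) :=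
      Group.isSolvable_of_isSolvable_injective (f := (subgroupOfEquivOfLe (le_sup_left : zpowers u ≤ zpowers u ⊔ Cb)).toMonoidHom)
        (MulEquiv.injective _)
    haveI : Group.IsSolvable (↥(zpowers u ⊔ Cb) ⧸ (zpowers u).subgroupOf (zpowers u ⊔ Cb)) := by
      refine Group.isSolvable_of_surjective
        (f := (QuotientGroup.mk' _).comp (Subgroup.inclusion (le_sup_right : Cb ≤ zpowers u ⊔ Cb))) fun z => ?_
      obtain ⟨x, rfl⟩ := QuotientGroup.mk'_surjective _ z
      have hx : x ∈ (zpowers u).subgroupOf (zpowers u ⊔ Cb) ⊔ Cb.subgroupOf (zpowers u ⊔ Cb) := by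
        rw [← subgroupOf_sup le_sup_left le_sup_right, subgroupOf_self]; exact mem_top x
      obtain ⟨p, hp, q, hq, rfl⟩ := mem_sup_of_normal_left.1 hx
      refine ⟨⟨q, hq⟩, ?_⟩
      rw [map_mul, show QuotientGroup.mk' _ p = 1 from (QuotientGroup.eq_one_iff p).2 hp, one_mul]
      rfl
    exact (Group.isSolvable_iff_subgroup_quotient ((zpowers u).subgroupOf (zpowers u ⊔ Cb))).2
      ⟨inferInstance, inferInstance⟩
  exact Group.isSolvable_of_isSolvable_injective (f := Subgroup.inclusion hsub) (Subgroup.inclusion_injective hsub)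

/-- An automorphism of odd order centralizing the centralizers of all involutions of a Sylow `2`-subgroup
of rank at least three is trivial. -/
theorem aut_eq_one (hs : IsSimpleGroup K) (hc : CentForm K) (hab : AbTwo K) (P : Sylow 2 K)
    (h8 : 8 ≤ Nat.card (P : Subgroup K)) (α : MulAut K) (hα : Odd (orderOf α))
    (hfix : ∀ a ∈ (P : Subgroup K), a ≠ 1 → ∀ c ∈ centralizer ({a} : Set K), α c = c) : α = 1 := by
  haveI := Fact.mk Nat.prime_two
  have hna := not_commutative hs hc
  have hP := sylow_isElementary hs hc P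
  rcases hc with ⟨F, iF, iF', ⟨n, hn2, hn⟩ | ⟨-, h8'⟩, ⟨e⟩⟩ | hr
  · haveI : CharP F 2 := charP_of_card_eq_prime_pow hn
    obtain ⟨e', he'⟩ := exists_even_iso e P
    have hb : ∀ u ∈ (EqualOrder2.rootU : Subgroup (Matrix.ProjectiveSpecialLinearGroup (Fin 2) F)),
        MulAut.congr e' α u = u := by
      intro u hu
      obtain ⟨x, rfl⟩ := e'.surjective u
      have hx := (he' x).1 hu
      show e' (α (e'.symm (e' x))) = e' x
      rw [MulEquiv.symm_apply_apply]
      by_cases hx1 : x = 1
      · rw [hx1, map_one]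
      · rw [hfix x hx hx1 x (mem_centralizer_singleton_iff.2 rfl)]
    have h2 : α * α = 1 := (MulAut.congr e').injective (by rw [map_mul, map_one]; exact aut_sq_of_fix _ hb)
    exact Invol.eq_one_of_odd_of_pow_two (k := 1) hα (by rw [pow_one, sq, h2])
  · exfalso
    have h4 : Nat.card ((P : Subgroup K).map e.toMonoidHom) = 4 :=
      (sylow_four h8' (P.mapSurjective (f := e.toMonoidHom) e.surjective)).1
    rw [card_map_of_injective (f := e.toMonoidHom) e.injective] at h4
    omega
  · -- two distinct maximal centralizers generate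
    haveI := hs
    have hPc : IsMulCommutative (P : Subgroup K) := hP.1
    have hmax : ∀ a : K, orderOf a = 2 → IsCoatom (centralizer ({a} : Set K)) := by
      intro a ha
      obtain ⟨E, hE1, hE2, -, hE4, F, iF, iF', hmod, ⟨eE⟩⟩ := centralizer_of_reeForm hs hr hab ha
      refine Cfsg.Agent.S1245.result hna P hPc a ha E E hE4 le_rfl (by rw [subgroupOf_self]; infer_instance)
        ⟨F, iF, iF', Nat.odd_iff.2 (by omega), ⟨eE⟩⟩ ?_
      refine (eq_bot_iff_forall _).2 fun x ⟨hx, hxc⟩ => ?_
      haveI := hE1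
      rcases (inferInstance : (center E).Normal).eq_bot_or_eq_top with h | h
      · have h' : (⟨x, hx⟩ : E) ∈ center E :=
          mem_center_iff.2 fun y => Subtype.ext (mem_centralizer_iff.1 hxc y y.2)
        rw [h, mem_bot] at h'
        exact congrArg Subtype.val h' 
      · exact absurd (isMulCommutative_iff.2 fun a b => (mem_center_iff.1 (h ▸ mem_top b : b ∈ center E) a)) hE2
    haveI : Nontrivial (P : Subgroup K) := Finite.one_lt_card_iff_nontrivial.1 (by omega)
    obtain ⟨⟨a, ha⟩, ha1⟩ := exists_ne (1 : (P : Subgroup K))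
    have ha1' : a ≠ 1 := fun h => ha1 (Subtype.ext h)
    have ha2 := EqualOrder2.invol_of_mem P hP ha ha1'
    obtain ⟨b, hb, hb1, hne⟩ : ∃ b ∈ (P : Subgroup K), b ≠ 1 ∧
        centralizer ({b} : Set K) ≠ centralizer ({a} : Set K) := by
      by_contra! hall
      obtain ⟨E, hE1, hE2, htE, hE4, -⟩ := centralizer_of_reeForm hs hr hab ha2
      haveI := hE1
      have hPz : (P : Subgroup K) ≤ zpowers a := by
        intro b hb
        by_cases hb1 : b = 1
        · rw [hb1]; exact one_mem _
        have hbC : b ∈ centralizer ({a} : Set K) :=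
          mem_centralizer_singleton_iff.2 (EqualOrder2.comm_of_mem P hP hb ha).eq
        have hEb : ∀ y ∈ E, Commute y b := fun y hy =>
          mem_centralizer_singleton_iff.1 ((hall b hb hb1).ge (hE4.2.1 hy))
        rw [← hE4.2.2.2.2, sup_eq_closure] at hbC
        have hd : ∃ p ∈ zpowers a, ∃ q ∈ E, p * q = b := by
          haveI : ((zpowers a).subgroupOf (centralizer ({a} : Set K))).Normal := ⟨fun n hn c => by
            obtain ⟨i, hi⟩ := mem_zpowers_iff.1 (show (n : K) ∈ zpowers a from hn)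
            show (c : K) * n * (c : K)⁻¹ ∈ zpowers a
            rw [← hi, ((show Commute (c : K) a from mem_centralizer_singleton_iff.1 c.2).zpow_right i).eq,
              mul_inv_cancel_right]
            exact zpow_mem (mem_zpowers a) i⟩
          have hbC' : b ∈ centralizer ({a} : Set K) :=
            mem_centralizer_singleton_iff.2 (EqualOrder2.comm_of_mem P hP hb ha).eq
          have hxs : (⟨b, hbC'⟩ : centralizer ({a} : Set K)) ∈ (zpowers a).subgroupOf _ ⊔ E.subgroupOf _ := by
            rw [← subgroupOf_sup hE4.1 hE4.2.1, hE4.2.2.2.2]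
            exact mem_subgroupOf.2 hbC'
          obtain ⟨p, hp, q, hq, h⟩ := mem_sup_of_normal_left.1 hxs
          exact ⟨p, hp, q, hq, congrArg Subtype.val h⟩
        obtain ⟨p, hp, q, hq, rfl⟩ := hd
        have hq1 : (⟨q, hq⟩ : E) ∈ center E := mem_center_iff.2 fun y => by
          refine Subtype.ext ?_
          show (y : K) * q = q * y
          have h1 := (hEb y y.2).eq
          rw [← mul_assoc, ← (hE4.2.2.1 p hp y y.2), mul_assoc, mul_assoc] at h1
          exact mul_left_cancel h1
        rcases (inferInstance : (center E).Normal).eq_bot_or_eq_top with h | h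
        · rw [h, mem_bot] at hq1
          rw [show q = 1 from congrArg Subtype.val hq1, mul_one]
          exact hp
        · exact absurd (isMulCommutative_iff.2 fun a b => (mem_center_iff.1 (h ▸ mem_top b : b ∈ center E) a)) hE2
      have := card_dvd_of_le hPz
      rw [Nat.card_zpowers, ha2] at this
      have := Nat.le_of_dvd (by norm_num) this
      omega
    let Fix : Subgroup K :=
      { carrier := {c | α c = c}
        one_mem' := map_one α
        mul_mem' := fun {x y} hx hy => by simp only [Set.mem_ofPred_eq] at hx hy ⊢; rw [map_mul, hx, hy]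
        inv_mem' := fun {x} hx => by simp only [Set.mem_ofPred_eq] at hx ⊢; rw [map_inv, hx] }
    have hA : centralizer ({a} : Set K) ≤ Fix := fun c hc => hfix a ha ha1' c hc
    have hB : centralizer ({b} : Set K) ≤ Fix := fun c hc => hfix b hb hb1 c hc
    have htop : Fix = ⊤ := by
      by_contra hne'
      have hb2 := EqualOrder2.invol_of_mem P hP hb hb1
      have e1 := ((hmax a ha2).le_iff.1 hA).resolve_left hne'
      have e2 := ((hmax b hb2).le_iff.1 hB).resolve_left hne'
      exact hne (e2.symm.trans e1)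
    exact MulEquiv.ext fun c => htop.ge (mem_top c)

end CfsgLib.Walter.Rank
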