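import Cfsg.Agent.Lib.Walter.Rank.Irred
import Cfsg.Agent.Lib.Coprime.LBalance.Tools
import Cfsg.Agent.Lib.Coprime.Component
import Cfsg.Agent.Lib.Coprime.Action

/-!
# Transfer of a pair to another involution

If `y'` lies in `R` then the largest perfect subgroup of the preimage of the component in `C(y')` covers a
component of `C(y')` modulo its core, or the simple part of an involution centralizer of one of Janko-Ree type.
-/

set_option autoImplicit false
set_option linter.style.haveILetI false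

namespace CfsgLib.Walter.Rank

open Subgroup
open scoped commutatorElement

universe u

/-! ### Tools -/

section Tools

variable {X : Type u} [Group X] [Finite X]

/-- A perfect subgroup of an extension of a solvable group lies in the bottom. -/
theorem perfect_le_of_sup_solvable {J A N : Subgroup X} (hJ : ⁅J, J⁆ = J) (hA : Group.IsSolvable A)
    (hAN : A ≤ normalizer (N : Set X)) (h : J ≤ A ⊔ N) : J ≤ N := by
  set M := normalizer (N : Set X)
  haveI : (N.subgroupOf M).Normal := normal_in_normalizer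
  set q := QuotientGroup.mk' (N.subgroupOf M)
  have hJM : J ≤ M := h.trans (sup_le hAN le_normalizer)
  set J₁ := (J.subgroupOf M).map q
  set A₁ := (A.subgroupOf M).map q
  have hle : J₁ ≤ A₁ := by
    refine (map_mono (comap_mono h : J.subgroupOf M ≤ (A ⊔ N).subgroupOf M)).trans ?_
    show ((A ⊔ N).subgroupOf M).map q ≤ A₁
    rw [subgroupOf_sup hAN le_normalizer, Subgroup.map_sup]
    refine sup_le le_rfl ?_
    rw [(Subgroup.map_eq_bot_iff _).2 (QuotientGroup.ker_mk' _).ge]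
    exact bot_le
  haveI := hA
  haveI : Group.IsSolvable (A.subgroupOf M) :=
    Group.isSolvable_of_isSolvable_injective (f := (subgroupOfEquivOfLe hAN).toMonoidHom)
      (MulEquiv.injective _)
  haveI : Group.IsSolvable A₁ := Group.isSolvable_of_surjective (q.subgroupMap_surjective _)
  have hJ₁ : ⁅J₁, J₁⁆ = J₁ := by
    rw [← map_commutator]
    congr 1
    apply map_injective M.subtype_injective
    rw [map_commutator, map_subgroupOf_eq_of_le hJM, hJ]
  have hall : ∀ i, J₁ ≤ (derivedSeries A₁ i).map A₁.subtype := by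
    intro i
    induction i with
    | zero => rw [derivedSeries_zero, ← MonoidHom.range_eq_map, range_subtype]; exact hle
    | succ i ih =>
      rw [derivedSeries_succ, map_commutator, ← hJ₁]
      exact commutator_mono ih ih
  obtain ⟨i, hi⟩ := (Group.isSolvable_def _).1 (inferInstance : Group.IsSolvable A₁)
  have h0 : J₁ = ⊥ := le_bot_iff.1 ((hall i).trans (by rw [hi, Subgroup.map_bot]))
  rw [Subgroup.map_eq_bot_iff, QuotientGroup.ker_mk'] at h0
  exact fun x hx => mem_subgroupOf.1 (h0 (show (⟨x, hJM hx⟩ : M) ∈ J.subgroupOf M from hx))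

/-- The index is odd if an odd subgroup covers the quotient. -/
theorem odd_index_of_cover {M N O : Subgroup X} (hn : M ≤ normalizer (N : Set X)) (hNM : N ≤ M)
    (hO : ¬ 2 ∣ Nat.card O) (h : ∀ a ∈ M, ∃ n ∈ N, n⁻¹ * a ∈ O) : ¬ 2 ∣ N.relIndex M := by
  haveI : (N.subgroupOf M).Normal := (normal_subgroupOf_iff_le_normalizer hNM).2 hn
  have htop : (O.subgroupOf M).map (QuotientGroup.mk' (N.subgroupOf M)) = ⊤ := by
    refine top_unique fun z _ => ?_
    obtain ⟨⟨a, ha⟩, rfl⟩ := QuotientGroup.mk'_surjective _ z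
    obtain ⟨n, hnN, ho⟩ := h a ha
    refine ⟨⟨n⁻¹ * a, mul_mem (inv_mem (hNM hnN)) ha⟩, ho, ?_⟩
    rw [show (⟨n⁻¹ * a, mul_mem (inv_mem (hNM hnN)) ha⟩ : M) = ⟨n, hNM hnN⟩⁻¹ * ⟨a, ha⟩ from rfl, map_mul,
      map_inv, show (QuotientGroup.mk' (N.subgroupOf M)) ⟨n, hNM hnN⟩ = 1 from
        (QuotientGroup.eq_one_iff _).2 hnN, inv_one, one_mul]
  intro h2
  refine hO (h2.trans ?_)
  rw [relIndex, index_eq_card, ← card_top, ← htop]
  refine (card_map_dvd _ _).trans ?_
  rw [← card_map_of_injective M.subtype_injective]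
  exact card_dvd_of_le (by rintro _ ⟨a, ha, rfl⟩; exact ha)

theorem isQuasisimple_of_simple {Y : Type u} [Group Y] [Finite Y] (hs : IsSimpleGroup Y)
    (hn : ¬ IsMulCommutative Y) : Cfsg.IsQuasisimple Y := by
  haveI := hs
  haveI : Group.IsPerfect Y := by
    refine ⟨((inferInstance : (commutator Y).Normal).eq_bot_or_eq_top).resolve_left fun h => hn
      ⟨⟨fun a b => ?_⟩⟩⟩
    exact commutatorElement_eq_one_iff_mul_comm.1 (Subgroup.mem_bot.1 (h ▸
      commutator_mem_commutator (mem_top a) (mem_top b)))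
  exact CfsgLib.Coprime.isQuasisimple_of_normal_le_center fun N hN => (hN.eq_bot_or_eq_top).symm.imp_right
    fun h => le_of_eq_of_le h bot_le

theorem layer_le_sup_centralizer {L : Subgroup X} (hL : Cfsg.IsComponent L) :
    Cfsg.layer X ≤ centralizer (L : Set X) ⊔ L := by
  refine sSup_le fun K hK => ?_
  by_cases e : K = L
  · exact e ▸ le_sup_right
  · refine le_sup_of_le_left fun k hk => mem_centralizer_iff.2 fun l hl => ?_
    exact (CfsgLib.Coprime.commutator_eq_bot_iff_forall.1 (CfsgLib.Coprime.components_commute hK hL e) k hk l hl).symm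

theorem le_normalizer_centralizer (L : Subgroup X) : L ≤ normalizer (centralizer (L : Set X) : Set X) :=
  le_normalizer.trans (CfsgLib.Coprime.normalizer_le_normalizer_centralizer L)

end Tools

variable {G : Type u} [Group G] [Finite G] {S : Sylow 2 G} {y : G} {R V : Subgroup G}

omit [Finite G] in
theorem res_normalized (M : Subgroup G) : M ≤ normalizer (res M : Set G) := by
  intro g hg
  rw [← CfsgLib.Coprime.conjBy_eq_self_iff]
  have key : ∀ a ∈ M, CfsgLib.Coprime.conjBy a (res M) ≤ res M := fun a ha =>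
    le_res (by rintro _ ⟨x, hx, rfl⟩; exact mul_mem (mul_mem ha (res_le M hx)) (inv_mem ha))
      ((map_commutator _ _ _).symm.trans (congrArg _ (commutator_res M)))
  refine le_antisymm (key g hg) fun x hx => CfsgLib.Coprime.mem_conjBy.2 ?_
  have h := key g⁻¹ (inv_mem hg) (mem_map_of_mem (MulAut.conj g⁻¹).toMonoidHom hx)
  simpa using h

/-- The perfect subgroup which is moved: it maps onto the component and contains `V`. -/
theorem exists_cover (hG : Setting G) (hy : y ∈ (S : Subgroup G)) (ho : orderOf y = 2) {K : Subgroup (CQ y)}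
    (hK : Cfsg.IsComponent K) {y' : G}
    (hy' : y' ∈ pre y (centralizer (K : Set (CQ y))) ⊓ (S : Subgroup G)) :
    ∃ J : Subgroup G, J = res (pre y K ⊓ centralizer ({y'} : Set G)) ∧
      (∀ k ∈ K, ∃ a ∈ J, ∃ hc : a ∈ centralizer ({y} : Set G), proj y ⟨a, hc⟩ = k) ∧
      pre y K ⊓ (S : Subgroup G) ≤ J := by
  haveI : Fact (Nat.Prime 2) := ⟨Nat.prime_two⟩
  set C := centralizer ({y} : Set G)
  set C' := centralizer ({y'} : Set G)
  set O := Cfsg.centralizerPPrimeCore 2 y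
  set M := pre y K ⊓ C' with hM
  have hOodd : ¬ 2 ∣ Nat.card O := by
    rw [show O = (Cfsg.pPrimeCore 2 C).map C.subtype from rfl, card_map_of_injective C.subtype_injective]
    exact CfsgLib.Coprime.pPrimeCore_not_dvd Nat.prime_two
  have hy'c : y' ∈ C := mem_centralizer_of_mem hG hy hy'.2
  have hy'K : proj y ⟨y', hy'c⟩ ∈ centralizer (K : Set (CQ y)) := (mem_pre_iff hy'c).1 hy'.1
  have hMK : ∀ k ∈ K, ∃ a ∈ M.subgroupOf C, proj y a = k := by
    intro k hk
    obtain ⟨j, rfl⟩ := QuotientGroup.mk'_surjective _ k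
    have hO2 : (Nat.card (Cfsg.pPrimeCore 2 C)).Coprime 2 := CfsgLib.Coprime.pPrimeCore_coprime Nat.prime_two
    haveI := CfsgLib.Coprime.pPrimeCore_characteristic (G := C) 2
    obtain ⟨o, ho', hc⟩ := CfsgLib.Coprime.exists_mul_mem_centralizer (S := zpowers (⟨y', hy'c⟩ : C)) (j := j)
      hO2 (CfsgLib.Coprime.isPGroup_zpowers (k := 1) (Subtype.ext (by
        rw [pow_one, pow_two]
        exact sylow_sq hG ⟨hy, ho, K, hK, rfl, rfl⟩ y' hy'.2)))
      (by rw [normalizer_eq_top]; exact le_top)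
      fun s hs => by
        obtain ⟨i, rfl⟩ := mem_zpowers_iff.1 hs
        have hc : Commute (proj y j) (proj y (⟨y', hy'c⟩ : C) ^ i) :=
          Commute.zpow_right (mem_centralizer_iff.1 hy'K _ hk) i
        refine (QuotientGroup.eq_one_iff _).1 ?_
        show proj y (j * (⟨y', hy'c⟩ : C) ^ i * j⁻¹ * ((⟨y', hy'c⟩ : C) ^ i)⁻¹) = 1
        rw [map_mul, map_mul, map_mul, map_inv, map_inv, map_zpow, hc.eq, mul_inv_cancel_right, mul_inv_cancel]
    have he : proj y (o * j) = proj y j := by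
      rw [map_mul, show proj y o = 1 from (QuotientGroup.eq_one_iff o).2 ho', one_mul]
    refine ⟨o * j, mem_subgroupOf.2 ⟨(mem_pre_iff (o * j).2).2 ?_, ?_⟩, he⟩
    · show proj y (o * j) ∈ K
      rw [he]
      exact hk
    · exact mem_centralizer_singleton_iff.2
        (congrArg Subtype.val (mem_centralizer_iff.1 hc (⟨y', hy'c⟩ : C) (mem_zpowers _))).symm
  have hperf : ⁅K, K⁆ = K := CfsgLib.Coprime.commutator_self_of_isComponent hK
  obtain ⟨C₁, hC₁, hC₁p, hC₁K⟩ := CfsgLib.Coprime.exists_perfect_le (proj y) (C := M.subgroupOf C) hperf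
    fun k hk => hMK k hk
  have hle : C₁.map C.subtype ≤ res M := le_res (by rintro _ ⟨a, ha, rfl⟩; exact mem_subgroupOf.1 (hC₁ ha))
    ((map_commutator _ _ _).symm.trans (congrArg _ hC₁p))
  refine ⟨res M, rfl, fun k hk => ?_, ?_⟩
  · obtain ⟨a, ha, rfl⟩ := hC₁K.ge hk
    exact ⟨a, hle (mem_map_of_mem _ ha), a.2, rfl⟩
  intro v hv
  have hvM : v ∈ M := ⟨hv.1, mem_centralizer_of_mem hG hy'.2 hv.2⟩
  haveI : ((res M).subgroupOf M).Normal :=
    (normal_subgroupOf_iff_le_normalizer (res_le M)).2 (res_normalized M)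
  have hodd := odd_index_of_cover (res_normalized M) (res_le M) hOodd fun a ha => by
    obtain ⟨hac, haK⟩ := mem_pre.1 ha.1
    obtain ⟨b, hb, hbe⟩ := hC₁K.ge haK
    refine ⟨b, hle (mem_map_of_mem _ hb), ?_⟩
    refine (proj_eq_one_iff (mul_mem (inv_mem b.2) hac)).1 ?_
    rw [show (⟨(b : G)⁻¹ * a, _⟩ : C) = b⁻¹ * ⟨a, hac⟩ from rfl, map_mul, map_inv, hbe, inv_mul_cancel]
  have hv2 : (QuotientGroup.mk' ((res M).subgroupOf M) ⟨v, hvM⟩) ^ 2 = 1 := by
    rw [← map_pow, show (⟨v, hvM⟩ : M) ^ 2 = 1 from Subtype.ext (by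
      rw [pow_two]; exact sylow_sq hG ⟨hy, ho, K, hK, rfl, rfl⟩ v hv.2), map_one]
  have h1 := orderOf_dvd_of_pow_eq_one hv2
  rcases (Nat.dvd_prime Nat.prime_two).1 h1 with h2 | h2
  · exact mem_subgroupOf.1 ((QuotientGroup.eq_one_iff _).1 (orderOf_eq_one_iff.1 h2))
  · refine absurd ?_ hodd
    rw [relIndex, index_eq_card, ← h2]
    exact orderOf_dvd_natCard _

/-- A subgroup of the cover normalized by it is odd or everything. -/
theorem eq_cover_of_even (hG : Setting G) (ho : orderOf y = 2) {K : Subgroup (CQ y)}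
    (hK : Cfsg.IsComponent K) {J N : Subgroup G} (hJ : ⁅J, J⁆ = J) (hJK : J ≤ pre y K)
    (hcov : ∀ k ∈ K, ∃ a ∈ J, ∃ hc : a ∈ centralizer ({y} : Set G), proj y ⟨a, hc⟩ = k)
    (hN : N ≤ J) (hn : J ≤ normalizer (N : Set G)) (h2 : 2 ∣ Nat.card N) : N = J := by
  set C := centralizer ({y} : Set G)
  obtain ⟨hs, -, -, -⟩ := component_spec hG ho hK
  set O := Cfsg.centralizerPPrimeCore 2 y
  have hOodd : ¬ 2 ∣ Nat.card O := by
    rw [show O = (Cfsg.pPrimeCore 2 C).map C.subtype from rfl, card_map_of_injective C.subtype_injective]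
    exact CfsgLib.Coprime.pPrimeCore_not_dvd Nat.prime_two
  have hNC : N ≤ C := (hN.trans hJK).trans (pre_le y K)
  set N₁ := (N.subgroupOf C).map (proj y)
  have hN₁K : N₁ ≤ K := by
    rintro _ ⟨a, ha, rfl⟩
    exact (mem_pre_iff a.2).1 (hJK (hN (mem_subgroupOf.1 ha)))
  haveI : (N₁.subgroupOf K).Normal := (normal_subgroupOf_iff_le_normalizer hN₁K).2 fun k hk => by
    obtain ⟨a, ha, hc, rfl⟩ := hcov k hk
    refine mem_normalizer_fintype ?_
    rintro _ ⟨b, hb, rfl⟩
    exact ⟨⟨a, hc⟩ * b * ⟨a, hc⟩⁻¹, (Subgroup.mem_normalizer_iff.1 (hn ha) _).1 hb, by simp⟩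
  haveI := hs
  rcases (inferInstance : (N₁.subgroupOf K).Normal).eq_bot_or_eq_top with h | h
  · refine absurd (h2.trans (card_dvd_of_le fun a ha => ?_)) hOodd
    refine (proj_eq_one_iff (hNC ha)).1 ?_
    exact congrArg Subtype.val ((Subgroup.eq_bot_iff_forall _).1 h
      ⟨proj y ⟨a, hNC ha⟩, hN₁K ⟨⟨a, hNC ha⟩, ha, rfl⟩⟩ ⟨⟨a, hNC ha⟩, ha, rfl⟩)
  have hodd := odd_index_of_cover hn hN hOodd fun a ha => by
    obtain ⟨hac, haK⟩ := mem_pre.1 (hJK ha)
    obtain ⟨b, hb, hbe⟩ : proj y ⟨a, hac⟩ ∈ N₁ := Subgroup.subgroupOf_eq_top.1 h haK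
    refine ⟨b, hb, ?_⟩
    refine (proj_eq_one_iff (mul_mem (inv_mem b.2) hac)).1 ?_
    rw [show (⟨(b : G)⁻¹ * a, _⟩ : C) = b⁻¹ * ⟨a, hac⟩ from rfl, map_mul, map_inv, hbe, inv_mul_cancel]
  haveI : (N.subgroupOf J).Normal := (normal_subgroupOf_iff_le_normalizer hN).2 hn
  have hodd' : Odd (Nat.card (J ⧸ N.subgroupOf J)) := by
    rw [← index_eq_card]
    exact Nat.odd_iff.2 (Nat.two_dvd_ne_zero.1 hodd)
  haveI := CfsgLib.FT.isSolvable_of_odd _ hodd'
  haveI : Group.IsPerfect J := Subgroup.isPerfect_iff.2 hJ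
  have hsub : Subsingleton (J ⧸ N.subgroupOf J) := by
    by_contra hne
    rw [not_subsingleton_iff_nontrivial] at hne
    haveI : Group.IsPerfect (J ⧸ N.subgroupOf J) :=
      Group.IsPerfect.ofSurjective (QuotientGroup.mk'_surjective _)
    exact Group.IsPerfect.not_isSolvable (J ⧸ N.subgroupOf J) inferInstance
  exact le_antisymm hN (Subgroup.subgroupOf_eq_top.1 (QuotientGroup.subsingleton_iff.1 hsub))

/-- An odd subgroup normalized by the cover meets the component trivially. -/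
theorem odd_inf_component_eq_bot (hG : Setting G) (ho : orderOf y = 2) {K : Subgroup (CQ y)}
    (hK : Cfsg.IsComponent K) {O : Subgroup (CQ y)} (hO : ¬ 2 ∣ Nat.card O)
    (hn : K ≤ normalizer (O : Set (CQ y))) : O ⊓ K = ⊥ := by
  haveI : Fact (Nat.Prime 2) := ⟨Nat.prime_two⟩
  obtain ⟨hs, -, -, -⟩ := component_spec hG ho hK
  haveI := hs
  haveI : ((O ⊓ K).subgroupOf K).Normal := (normal_subgroupOf_iff_le_normalizer inf_le_right).2
    (CfsgLib.Coprime.inf_le_normalizer hn le_normalizer)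
  rcases (inferInstance : ((O ⊓ K).subgroupOf K).Normal).eq_bot_or_eq_top with h | h
  · exact (Subgroup.eq_bot_iff_forall _).2 fun x hx =>
      congrArg Subtype.val ((Subgroup.eq_bot_iff_forall _).1 h ⟨x, hx.2⟩ hx)
  · exact absurd ((CfsgLib.Coprime.dvd_card_of_isComponent (cq_core y) hK).trans
      (card_dvd_of_le ((Subgroup.subgroupOf_eq_top.1 h).trans inf_le_left))) hO

/-- Transfer of a pair to another involution of `R`. -/
theorem IsPairAt.transfer (hG : Setting G) (h : IsPairAt (S : Subgroup G) y R V) {y' : G} (hy' : y' ∈ R)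
    (ho' : orderOf y' = 2) : ∃ R' V', IsPairAt (S : Subgroup G) y' R' V' ∧ V ≤ V' ∧ R' ≤ R ∧
      ((Nat.card V = 4 ∧ Nat.card V' = 8) ∨ (R' = R ∧ V' = V)) := by
  haveI : Fact (Nat.Prime 2) := ⟨Nat.prime_two⟩
  have h0 := h
  obtain ⟨hy, ho, K, hK, rfl, rfl⟩ := h
  set R := pre y (centralizer (K : Set (CQ y))) ⊓ (S : Subgroup G)
  set V := pre y K ⊓ (S : Subgroup G)
  have hy'S : y' ∈ (S : Subgroup G) := hy'.2
  have hsq := sylow_sq hG h0
  obtain ⟨J₀, hJ₀, hcov, hVJ⟩ := exists_cover hG hy ho hK hy'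
  have hJ₀p : ⁅J₀, J₀⁆ = J₀ := hJ₀ ▸ commutator_res _
  have hJ₀K : J₀ ≤ pre y K := hJ₀ ▸ (res_le _).trans inf_le_left
  have hJ₀C' : J₀ ≤ centralizer ({y'} : Set G) := hJ₀ ▸ (res_le _).trans inf_le_right
  set C := centralizer ({y} : Set G) with hC
  set C' := centralizer ({y'} : Set G) with hC'
  set D := C ⊓ C' with hD
  let f : D →* CQ y' := (proj y').comp (inclusion (inf_le_right : D ≤ C'))
  let g : D →* CQ y := (proj y).comp (inclusion (inf_le_left : D ≤ C))
  have hJ₀D : J₀ ≤ D := le_inf (hJ₀K.trans (pre_le y K)) hJ₀C'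
  set J := (J₀.subgroupOf D).map f with hJdef
  have hJp : ⁅J, J⁆ = J := by
    rw [hJdef, ← map_commutator]
    congr 1
    apply map_injective D.subtype_injective
    rw [map_commutator, map_subgroupOf_eq_of_le hJ₀D, hJ₀p]
  have hSD : ∀ s ∈ (S : Subgroup G), s ∈ D := fun s hs =>
    ⟨mem_centralizer_of_mem hG hy hs, mem_centralizer_of_mem hG hy'S hs⟩
  have hJne : J ≠ ⊥ := fun e => by
    obtain ⟨v, hv, hv1⟩ := V.bot_or_exists_ne_one.resolve_left (h0.right_ne_bot hG)
    have h1 : f ⟨v, hSD v hv.2⟩ ∈ J := mem_map_of_mem f (mem_subgroupOf.2 (hVJ hv))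
    rw [e, Subgroup.mem_bot] at h1
    exact hv1 (eq_one_of_proj hv.2 (hSD v hv.2).2 h1)
  have hO' := cq_core y'
  have hab' := cq_ab hG y'
  have hJlayer : J ≤ Cfsg.layer (CQ y') := perfect_le_layer hO' hab' hJp
  obtain ⟨L, hL, hJL⟩ : ∃ L : Subgroup (CQ y'), Cfsg.IsComponent L ∧
      ¬ J ≤ centralizer (L : Set (CQ y')) := by
    by_contra hcon
    refine hJne (le_bot_iff.1 ?_)
    rw [← layer_inf_centralizer hO' hab']
    refine le_inf hJlayer (le_centralizer_iff.1 (sSup_le fun L hL => le_centralizer_iff.1 ?_))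
    by_contra hn
    exact hcon ⟨L, hL, hn⟩
  obtain ⟨hLs, hLn, hLc, hLab⟩ := component_spec hG ho' hL
  set CL := centralizer (L : Set (CQ y'))
  have hdec : ∀ a ∈ J, ∃ c ∈ CL, ∃ l ∈ L, c * l = a := fun a ha =>
    CfsgLib.Coprime.mem_sup_exists (le_normalizer_centralizer L) (layer_le_sup_centralizer hL (hJlayer ha))
  set x := f ⟨y, hSD y hy⟩ with hx
  obtain ⟨P, hP⟩ := exists_sylow_cq (S := S) hG hy'S
  obtain ⟨v, hv, hvc⟩ := exists_split hO' hab' P hL ((hP x).2 ⟨y, hy, (hSD y hy).2, rfl⟩)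
  have hv2 : v * v = 1 := by
    obtain ⟨s, hs, hc, rfl⟩ := (hP v).1 hv.1
    rw [← map_mul, show (⟨s, hc⟩ * ⟨s, hc⟩ : C') = 1 from Subtype.ext (hsq s hs), map_one]
  have hxv : x = x * v⁻¹ * v := by group
  have hJx : ∀ a ∈ J, Commute a x := by
    rintro _ ⟨a, ha, rfl⟩
    refine (?_ : Commute a ⟨y, hSD y hy⟩).map f
    exact Subtype.ext (mem_centralizer_singleton_iff.1 a.2.1)
  -- `l ∈ L` commutes with `x` iff with `v`
  have hxl : ∀ l ∈ L, (Commute l x ↔ Commute l v) := fun l hl => by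
    have hcl : Commute l (x * v⁻¹) := mem_centralizer_iff.1 hvc l hl
    refine ⟨fun h1 => ?_, fun h1 => ?_⟩
    · have := hcl.inv_right.mul_right h1
      rwa [mul_inv_rev, inv_inv, inv_mul_cancel_right] at this
    · have := hcl.mul_right h1
      rwa [inv_mul_cancel_right] at this
  have hJv : ∀ a ∈ J, ∃ c ∈ CL, ∃ l ∈ L, Commute l v ∧ c * l = a := fun a ha => by
    obtain ⟨c, hc, l, hl, rfl⟩ := hdec a ha
    refine ⟨c, hc, l, hl, ?_, rfl⟩
    -- `(c l) x (c l)⁻¹ = x` compares the parts in `L`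
    have hcn : ∀ z ∈ CL, l * z * l⁻¹ ∈ CL := fun z hz =>
      (Subgroup.mem_normalizer_iff.1 (le_normalizer_centralizer L hl) z).1 hz
    have e1 : c * l * x * (c * l)⁻¹ = x := mul_inv_eq_iff_eq_mul.2 (hJx _ ha).eq
    have hlv : l * v * l⁻¹ ∈ L := mul_mem (mul_mem hl hv.2) (inv_mem hl)
    have hc' : Commute c (l * v * l⁻¹) := (mem_centralizer_iff.1 hc _ hlv).symm
    have e2 : (c * (l * (x * v⁻¹) * l⁻¹) * c⁻¹) * (l * v * l⁻¹) = x * v⁻¹ * v := by
      rw [← hxv]
      calc c * (l * (x * v⁻¹) * l⁻¹) * c⁻¹ * (l * v * l⁻¹)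
          = c * (l * (x * v⁻¹) * l⁻¹) * (c⁻¹ * (l * v * l⁻¹)) := by group
        _ = c * (l * (x * v⁻¹) * l⁻¹) * ((l * v * l⁻¹) * c⁻¹) := by rw [hc'.inv_left.eq]
        _ = c * l * x * (c * l)⁻¹ := by group
        _ = x := e1
    have hmem : l * v * l⁻¹ * v⁻¹ ∈ L ⊓ CL := by
      refine ⟨Subgroup.mul_mem _ hlv (Subgroup.inv_mem _ hv.2), ?_⟩
      have e3 : l * v * l⁻¹ * v⁻¹ = (c * (l * (x * v⁻¹) * l⁻¹) * c⁻¹)⁻¹ * (x * v⁻¹) := by
        rw [eq_inv_mul_iff_mul_eq, ← mul_assoc, e2]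
        group
      rw [e3]
      exact Subgroup.mul_mem _ (Subgroup.inv_mem _ (Subgroup.mul_mem _ (Subgroup.mul_mem _ hc (hcn _ hvc))
        (Subgroup.inv_mem _ hc))) hvc
    rw [component_inf_centralizer hO' hab' hL, Subgroup.mem_bot, mul_inv_eq_one,
      mul_inv_eq_iff_eq_mul] at hmem
    exact hmem
  set Y := centralizer ({x} : Set (CQ y'))
  -- the simple subgroup `E` of `C_L(x)`
  obtain ⟨E, hEL, hEs, hEn, hEY, hEsn, hnorm, hkill, hsize⟩ : ∃ E : Subgroup (CQ y'), E ≤ L ∧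
      IsSimpleGroup E ∧ ¬ IsMulCommutative E ∧ E ≤ Y ∧ (E.subgroupOf Y).IsSubnormal ∧
      (∀ l ∈ L, Commute l v → l ∈ normalizer (E : Set (CQ y'))) ∧
      (∃ A : Subgroup (CQ y'), Group.IsSolvable A ∧ A ≤ L ∧
        ∀ l ∈ L, Commute l v → (∀ e ∈ E, Commute l e) → l ∈ A) ∧
      (E = L ∨ Nat.card ↥(pre y' L ⊓ (S : Subgroup G)) = 8) := by
    by_cases hv1 : v = 1
    · refine ⟨L, le_rfl, hLs, hLn, fun l hl => mem_centralizer_singleton_iff.2
        ((hxl l hl).2 (hv1 ▸ Commute.one_right l)).eq, hL.1.subgroupOf, fun l hl _ => le_normalizer hl,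
        ⟨⊥, inferInstance, bot_le, fun l hl _ hle => ?_⟩, Or.inl rfl⟩
      rw [Subgroup.mem_bot]
      have : l ∈ L ⊓ CL := ⟨hl, mem_centralizer_iff.2 fun e he => (hle e he).symm.eq⟩
      rwa [component_inf_centralizer hO' hab' hL, Subgroup.mem_bot] at this
    · have hvL : orderOf (⟨v, hv.2⟩ : L) = 2 := by
        rw [← orderOf_injective L.subtype L.subtype_injective]
        exact orderOf_eq_prime (by rw [pow_two]; exact hv2) hv1
      have hns : ¬ Group.IsSolvable ↥(centralizer ({(⟨v, hv.2⟩ : L)} : Set L)) := fun hsol => by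
        haveI := hsol
        haveI : Group.IsSolvable ((centralizer ({(⟨v, hv.2⟩ : L)} : Set L)).map L.subtype) :=
          Group.isSolvable_of_surjective (L.subtype.subgroupMap_surjective _)
        refine hJL (perfect_le_of_sup_solvable hJp this
          ((map_subtype_le _).trans (le_normalizer_centralizer L)) fun a ha => ?_)
        obtain ⟨c, hc, l, hl, hlv, rfl⟩ := hJv a ha
        exact mul_mem (mem_sup_right hc) (mem_sup_left ⟨⟨l, hl⟩,
          mem_centralizer_singleton_iff.2 (Subtype.ext hlv.eq), rfl⟩)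
      obtain ⟨h8, E, hEs, hEn, htE, ⟨hzle, hEle, hcomm, hdisj, hsup⟩, -⟩ :=
        centralizer_structure hLs hLc hLab hvL hns
      haveI := hEs
      set E' := E.map L.subtype
      have eE : E ≃* E' := E.equivMapOfInjective L.subtype L.subtype_injective
      haveI : Nontrivial E := IsSimpleGroup.toNontrivial
      have hnormE : ∀ (l : CQ y') (hl : l ∈ L), Commute l v → ∃ z ∈ zpowers (⟨v, hv.2⟩ : L), ∃ e ∈ E,
          z * e = (⟨l, hl⟩ : L) := fun l hl hlv =>
        CfsgLib.Coprime.mem_sup_exists (fun e he => centralizer_le_normalizer _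
          (mem_centralizer_iff.2 fun z hz => hcomm z hz e he))
          (hsup.ge (mem_centralizer_singleton_iff.2 (Subtype.ext hlv.eq)))
      have hconj : ∀ l ∈ L, Commute l v → ∀ e ∈ E', l * e * l⁻¹ ∈ E' := by
        rintro l hl hlv _ ⟨e, he, rfl⟩
        obtain ⟨z, hz, e₀, he₀, hze⟩ := hnormE l hl hlv
        refine ⟨e₀ * e * e₀⁻¹, mul_mem (mul_mem he₀ he) (inv_mem he₀), ?_⟩
        have h1 : z * (e₀ * e * e₀⁻¹) * z⁻¹ = e₀ * e * e₀⁻¹ := by
          rw [hcomm z hz _ (mul_mem (mul_mem he₀ he) (inv_mem he₀)), mul_inv_cancel_right]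
        rw [← h1, show z * (e₀ * e * e₀⁻¹) * z⁻¹ = (z * e₀) * e * (z * e₀)⁻¹ by group, hze]
        rfl
      have hE'L : E' ≤ L := map_subtype_le _
      have hE'v : ∀ e ∈ E', Commute e v := by
        rintro _ ⟨e, he, rfl⟩
        exact congrArg Subtype.val (hcomm _ (mem_zpowers _) e he).symm
      have hE'Y : E' ≤ Y := fun e he =>
        mem_centralizer_singleton_iff.2 ((hxl e (hE'L he)).2 (hE'v e he)).eq
      refine ⟨E', hE'L, eE.isSimpleGroup_congr.1 hEs,
        fun hc => hEn ⟨⟨fun a b => eE.injective (by rw [map_mul, map_mul]; exact hc.is_comm.comm _ _)⟩⟩,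
        hE'Y, ?_, fun l hl hlv => mem_normalizer_fintype (hconj l hl hlv),
        ⟨(zpowers (⟨v, hv.2⟩ : L)).map L.subtype, ?_, map_subtype_le _, fun l hl hlv hle => ?_⟩, Or.inr ?_⟩
      · refine IsSubnormal.trans (K := L.subgroupOf Y) (comap_mono hE'L)
          (Normal.isSubnormal ⟨fun n hn a => ?_⟩) hL.1.subgroupOf
        exact hconj _ a.2 ((hxl _ a.2).1 (mem_centralizer_singleton_iff.1 a.1.2)) _ hn
      · exact CfsgLib.Coprime.isSolvable_of_isMulCommutative inferInstance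
      · obtain ⟨z, hz, e₀, he₀, hze⟩ := hnormE l hl hlv
        have he1 : e₀ = 1 := by
          haveI : Subgroup.Normal (center E) := inferInstance
          rcases this.eq_bot_or_eq_top with h1 | h1
          · have : (⟨e₀, he₀⟩ : E) ∈ center E := mem_center_iff.2 fun e => Subtype.ext (by
              have h2 : (⟨l, hl⟩ : L) * e = e * ⟨l, hl⟩ :=
                Subtype.ext (hle _ (mem_map_of_mem L.subtype e.2)).eq
              rw [← hze, mul_assoc, ← mul_assoc (e : L), ← hcomm z hz e e.2, mul_assoc] at h2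
              exact (mul_left_cancel h2).symm)
            rw [h1, Subgroup.mem_bot] at this
            exact congrArg Subtype.val this
          · exact absurd ⟨⟨fun a b => (mem_center_iff.1 (h1 ▸ mem_top a) b).symm⟩⟩ hEn
        rw [he1, mul_one] at hze
        exact ⟨z, hz, congrArg Subtype.val hze⟩
      · obtain ⟨Q, -, hQ⟩ := exists_sylow_of_component (S := S) hG hy'S hL
        exact hQ ▸ h8 Q
  have hJnE : J ≤ normalizer (E : Set (CQ y')) := fun a ha => by
    obtain ⟨c, hc, l, hl, hlv, rfl⟩ := hJv a ha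
    refine mul_mem (centralizer_le_normalizer _ ?_) (hnorm l hl hlv)
    exact mem_centralizer_iff.2 fun e he => mem_centralizer_iff.1 hc e (hEL he)
  -- `E ≤ J`
  have hEJ : E ≤ J := by
    have hEcomp : Cfsg.IsComponent (E.subgroupOf Y) :=
      ⟨hEsn, CfsgLib.Coprime.isQuasisimple_congr (subgroupOfEquivOfLe hEY).symm
        (isQuasisimple_of_simple hEs hEn)⟩
    let f' : D →* Y := f.codRestrict Y fun a => mem_centralizer_singleton_iff.2
      (((show Commute a ⟨y, hSD y hy⟩ from Subtype.ext (mem_centralizer_singleton_iff.1 a.2.1)).map f).eq)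
    have hsurj : Function.Surjective f' := by
      rintro ⟨w, hw⟩
      obtain ⟨j, rfl⟩ := QuotientGroup.mk'_surjective _ w
      haveI := CfsgLib.Coprime.pPrimeCore_characteristic (G := C') 2
      have hyc : y ∈ C' := (hSD y hy).2
      obtain ⟨o, ho₁, hc⟩ := CfsgLib.Coprime.exists_mul_mem_centralizer (S := zpowers (⟨y, hyc⟩ : C'))
        (j := j) (CfsgLib.Coprime.pPrimeCore_coprime (G := C') Nat.prime_two)
        (CfsgLib.Coprime.isPGroup_zpowers (k := 1) (Subtype.ext (by rw [pow_one, pow_two]; exact hsq y hy)))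
        (by rw [normalizer_eq_top]; exact le_top)
        fun s hs => by
          obtain ⟨i, rfl⟩ := mem_zpowers_iff.1 hs
          have hc : Commute (proj y' j) (proj y' (⟨y, hyc⟩ : C') ^ i) :=
            Commute.zpow_right (mem_centralizer_singleton_iff.1 hw) i
          refine (QuotientGroup.eq_one_iff _).1 ?_
          show proj y' (j * (⟨y, hyc⟩ : C') ^ i * j⁻¹ * ((⟨y, hyc⟩ : C') ^ i)⁻¹) = 1
          rw [map_mul, map_mul, map_mul, map_inv, map_inv, map_zpow, hc.eq, mul_inv_cancel_right,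
            mul_inv_cancel]
      have hoC : ((o * j : C') : G) ∈ C := mem_centralizer_singleton_iff.2
        (congrArg Subtype.val (mem_centralizer_iff.1 hc (⟨y, hyc⟩ : C') (mem_zpowers _))).symm
      refine ⟨⟨((o * j : C') : G), hoC, (o * j).2⟩, Subtype.ext ?_⟩
      show proj y' (o * j) = proj y' j
      rw [map_mul, show proj y' o = 1 from (QuotientGroup.eq_one_iff o).2 ho₁, one_mul]
    have hJsn : ((J₀.subgroupOf D).map f').IsSubnormal := by
      refine IsSubnormal.map hsurj (IsSubnormal.trans (K := K.comap g) ?_ ?_ (hK.1.comap g))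
      · exact fun a ha => (mem_pre_iff a.2.1).1 (hJ₀K ha)
      · refine Normal.isSubnormal ⟨fun n hn a => ?_⟩
        have haM : ((a : D) : G) ∈ pre y K ⊓ C' := ⟨(mem_pre_iff a.1.2.1).2 a.2, a.1.2.2⟩
        have := (Subgroup.mem_normalizer_iff.1 (res_normalized _ haM) ((n : D) : G)).1
          (hJ₀ ▸ mem_subgroupOf.1 hn)
        exact mem_subgroupOf.2 (hJ₀ ▸ this)
    rcases CfsgLib.Coprime.component_le_or_commutator_eq_bot hEcomp hJsn with h1 | h1
    · intro e he
      obtain ⟨a, ha, hae⟩ := h1 (show (⟨e, hEY he⟩ : Y) ∈ E.subgroupOf Y from he)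
      exact ⟨a, ha, congrArg Subtype.val hae⟩
    · obtain ⟨A, hA, hAL, hAk⟩ := hkill
      refine absurd (perfect_le_of_sup_solvable hJp hA (hAL.trans (le_normalizer_centralizer L))
        fun a ha => ?_) hJL
      obtain ⟨b, hb, rfl⟩ := ha
      obtain ⟨c, hc, l, hl, hlv, hcl⟩ := hJv (f b) (mem_map_of_mem f hb)
      rw [← hcl]
      refine mul_mem (mem_sup_right hc) (mem_sup_left (hAk l hl hlv fun e he => ?_))
      have h2 := congrArg Subtype.val (CfsgLib.Coprime.commutator_eq_bot_iff_forall.1 h1 ⟨e, hEY he⟩ he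
        (f' b) (mem_map_of_mem f' hb))
      have h3 : Commute e (c * l) := hcl.symm ▸ (show Commute e (f b) from h2)
      have h4 : Commute e c := mem_centralizer_iff.1 hc e (hEL he)
      have := h4.inv_right.mul_right h3
      rw [inv_mul_cancel_left] at this
      exact this.symm
  -- `J = E`
  have hJE : J = E := by
    set N := (J₀.subgroupOf D ⊓ E.comap f).map D.subtype
    have hN : N ≤ J₀ := by rintro _ ⟨a, ha, rfl⟩; exact mem_subgroupOf.1 ha.1
    have hn : J₀ ≤ normalizer (N : Set G) := fun a ha => by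
      refine mem_normalizer_fintype ?_
      rintro _ ⟨b, ⟨hb, hbE⟩, rfl⟩
      refine ⟨⟨a, hJ₀D ha⟩ * b * ⟨a, hJ₀D ha⟩⁻¹, ⟨?_, ?_⟩, rfl⟩
      · exact Subgroup.mul_mem _ (Subgroup.mul_mem _ (mem_subgroupOf.2 ha) hb)
          (Subgroup.inv_mem _ (mem_subgroupOf.2 ha))
      · show f _ ∈ E
        rw [map_mul, map_mul, map_inv]
        exact (Subgroup.mem_normalizer_iff.1 (hJnE (mem_map_of_mem f (mem_subgroupOf.2 ha))) _).1 hbE
    have h2 : 2 ∣ Nat.card N := by
      rw [card_map_of_injective D.subtype_injective]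
      have hE2 : 2 ∣ Nat.card E := by
        by_contra hodd
        have hsol := CfsgLib.FT.isSolvable_of_odd E (Nat.odd_iff.2 (Nat.two_dvd_ne_zero.1 hodd))
        haveI := hEs
        exact hEn ⟨⟨IsSimpleGroup.comm_iff_isSolvable.2 hsol⟩⟩
      refine hE2.trans ?_
      have e : E = (J₀.subgroupOf D ⊓ E.comap f).map f := by
        refine le_antisymm (fun z hz => ?_) (by rintro _ ⟨a, ha, rfl⟩; exact ha.2)
        obtain ⟨a, ha, rfl⟩ := hEJ hz
        exact ⟨a, ⟨ha, hz⟩, rfl⟩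
      exact ((congrArg (fun H : Subgroup (CQ y') => Nat.card H) e).dvd).trans (card_map_dvd _ f)
    have hNJ := eq_cover_of_even hG ho hK hJ₀p hJ₀K hcov hN hn h2
    refine le_antisymm ?_ hEJ
    rintro _ ⟨a, ha, rfl⟩
    obtain ⟨b, hb, e⟩ : (a : G) ∈ N := hNJ.symm ▸ mem_subgroupOf.1 ha
    obtain rfl : b = a := D.subtype_injective e
    exact hb.2
  -- the odd subgroup of `CQ y` from the core at `y'`
  set O₁ := (((Cfsg.pPrimeCore 2 C').comap (inclusion (inf_le_right : D ≤ C'))).map g) with hO₁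
  have hO₁odd : ¬ 2 ∣ Nat.card O₁ := fun h2 => by
    refine CfsgLib.Coprime.pPrimeCore_not_dvd (G := C') Nat.prime_two (h2.trans ?_)
    refine (card_map_dvd _ g).trans ?_
    rw [← card_map_of_injective (inclusion_injective (inf_le_right : D ≤ C'))]
    exact card_dvd_of_le (map_comap_le _ _)
  have hO₁n : K ≤ normalizer (O₁ : Set (CQ y)) := fun k hk => by
    obtain ⟨a, ha, hc, rfl⟩ := hcov k hk
    refine mem_normalizer_fintype ?_
    rintro _ ⟨b, hb, rfl⟩
    haveI := CfsgLib.Coprime.pPrimeCore_characteristic (G := C') 2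
    refine ⟨⟨a, hJ₀D ha⟩ * b * ⟨a, hJ₀D ha⟩⁻¹, ?_, ?_⟩
    · show inclusion _ (_ * b * _) ∈ Cfsg.pPrimeCore 2 C'
      rw [map_mul, map_mul, map_inv]
      exact Subgroup.Normal.conj_mem (inferInstance : (Cfsg.pPrimeCore 2 C').Normal) _ (mem_comap.1 hb) _
    · rw [map_mul, map_mul, map_inv]
      rfl
  have hO₁K := odd_inf_component_eq_bot hG ho hK hO₁odd hO₁n
  set R' := pre y' CL ⊓ (S : Subgroup G)
  set V' := pre y' L ⊓ (S : Subgroup G)
  have hpair : IsPairAt (S : Subgroup G) y' R' V' := ⟨hy'S, ho', L, hL, rfl, rfl⟩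
  have hVV : V ≤ V' := fun s hs => by
    refine ⟨(mem_pre_iff (hSD s hs.2).2).2 (hEL (hJE.le ?_)), hs.2⟩
    exact mem_map_of_mem f (show (⟨s, hSD s hs.2⟩ : D) ∈ J₀.subgroupOf D from hVJ hs)
  have hRR : R' ≤ R := fun r hr => by
    have hrc := hSD r hr.2
    refine ⟨(mem_pre_iff hrc.1).2 (mem_centralizer_iff.2 fun k hk => ?_), hr.2⟩
    obtain ⟨a, ha, hc, rfl⟩ := hcov k hk
    set rD : D := ⟨r, hrc⟩
    set aD : D := ⟨a, hJ₀D ha⟩
    have h1 : g (rD * aD * rD⁻¹ * aD⁻¹) ∈ O₁ ⊓ K := by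
      refine ⟨⟨_, ?_, rfl⟩, ?_⟩
      · show inclusion _ (rD * aD * rD⁻¹ * aD⁻¹) ∈ Cfsg.pPrimeCore 2 C'
        rw [← QuotientGroup.eq_one_iff]
        show f (rD * aD * rD⁻¹ * aD⁻¹) = 1
        have hcom : f aD * f rD = f rD * f aD := mem_centralizer_iff.1 ((mem_pre_iff hrc.2).1 hr.1) (f aD)
          (hEL (hJE.le (mem_map_of_mem f (mem_subgroupOf.2 ha))))
        rw [map_mul, map_mul, map_mul, map_inv, map_inv, ← hcom, mul_inv_cancel_right, mul_inv_cancel]
      · obtain ⟨P₁, hP₁⟩ := exists_sylow_cq (S := S) hG hy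
        have hn : g rD ∈ normalizer (K : Set (CQ y)) := sylow_normalizes_component (cq_core y) (cq_ab hG y)
          P₁ hK ((hP₁ _).2 ⟨r, hr.2, hrc.1, rfl⟩)
        rw [map_mul, map_mul, map_mul, map_inv, map_inv]
        exact Subgroup.mul_mem _ ((Subgroup.mem_normalizer_iff.1 hn (g aD)).1 hk) (Subgroup.inv_mem _ hk)
    rw [hO₁K, Subgroup.mem_bot, map_mul, map_mul, map_mul, map_inv, map_inv, mul_inv_eq_one,
      mul_inv_eq_iff_eq_mul] at h1
    exact h1.symm
  refine ⟨R', V', hpair, hVV, hRR, ?_⟩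
  have hcard : Nat.card R * Nat.card V = Nat.card R' * Nat.card V' :=
    (h0.card_eq hG).trans (hpair.card_eq hG).symm
  have hfin : V' = V → R' = R ∧ V' = V := fun e => ⟨Subgroup.eq_of_le_of_card_ge hRR <| by
    rw [e] at hcard
    exact (Nat.eq_of_mul_eq_mul_right Nat.card_pos hcard).le, e⟩
  rcases hsize with hE | h8
  · refine Or.inr (hfin (le_antisymm (fun s hs => ?_) hVV))
    have hsD := hSD s hs.2
    obtain ⟨a, ha, hae⟩ : f ⟨s, hsD⟩ ∈ J := hJE.symm ▸ hE.symm ▸ (mem_pre_iff hsD.2).1 hs.1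
    have ho₁ : g (a⁻¹ * ⟨s, hsD⟩) ∈ O₁ := by
      have h1 : f (a⁻¹ * ⟨s, hsD⟩) = 1 := by rw [map_mul, map_inv, hae, inv_mul_cancel]
      refine ⟨_, ?_, rfl⟩
      show inclusion _ (a⁻¹ * ⟨s, hsD⟩) ∈ Cfsg.pPrimeCore 2 C'
      exact (QuotientGroup.eq_one_iff _).1 h1
    obtain ⟨r, hr, w, hw, hrw⟩ := exists_mul_of_component (S := S) hG hy hK hs.2
    have hak : g a ∈ K := (mem_pre_iff a.2.1).1 (hJ₀K ha)
    have hgs : g ⟨s, hsD⟩ = g ⟨r, hSD r hr.2⟩ * g ⟨w, hSD w hw.2⟩ := by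
      rw [← map_mul]
      exact congrArg g (Subtype.ext hrw.symm)
    set gr := g ⟨r, hSD r hr.2⟩
    set gw := g ⟨w, hSD w hw.2⟩
    have hgrC : gr ∈ centralizer (K : Set (CQ y)) := (mem_pre_iff _).1 hr.1
    have hgwK : gw ∈ K := (mem_pre_iff _).1 hw.1
    have hgr2 : gr * gr = 1 := by
      rw [← map_mul, show (⟨r, hSD r hr.2⟩ * ⟨r, hSD r hr.2⟩ : D) = 1 from Subtype.ext (hsq r hr.2), map_one]
    set o := g (a⁻¹ * ⟨s, hsD⟩) with hodef
    have hoval : o = (g a)⁻¹ * gr * gw := by rw [hodef, map_mul, map_inv, hgs, mul_assoc]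
    have hoo : o * o ∈ K := by
      have hc : gw * (g a)⁻¹ * gr = gr * (gw * (g a)⁻¹) :=
        mem_centralizer_iff.1 hgrC _ (mul_mem hgwK (inv_mem hak))
      rw [hoval, show (g a)⁻¹ * gr * gw * ((g a)⁻¹ * gr * gw) = (g a)⁻¹ * gr * (gw * (g a)⁻¹ * gr) * gw
        by group, hc, show (g a)⁻¹ * gr * (gr * (gw * (g a)⁻¹)) * gw =
        (g a)⁻¹ * (gr * gr) * (gw * (g a)⁻¹) * gw by group, hgr2, mul_one]
      exact mul_mem (mul_mem (inv_mem hak) (mul_mem hgwK (inv_mem hak))) hgwK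
    have hoK : o ∈ K := by
      obtain ⟨m, hm⟩ : ∃ m, Nat.card O₁ = 2 * m + 1 := Nat.odd_iff.2 (Nat.two_dvd_ne_zero.1 hO₁odd)
      have h1 : o ^ (2 * m + 1) = 1 := by
        rw [← hm]
        exact congrArg Subtype.val (pow_card_eq_one' (x := (⟨o, ho₁⟩ : O₁)))
      rw [show o = (o * o) ^ (m + 1) by
        rw [← pow_two, ← pow_mul, show 2 * (m + 1) = 2 * m + 1 + 1 by ring, pow_succ, h1, one_mul]]
      exact pow_mem hoo _
    have hgr1 : gr ∈ K ⊓ centralizer (K : Set (CQ y)) := ⟨by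
      rw [show gr = g a * o * gw⁻¹ by rw [hoval]; group]
      exact Subgroup.mul_mem _ (Subgroup.mul_mem _ hak hoK) (Subgroup.inv_mem _ hgwK), hgrC⟩
    rw [component_inf_centralizer (cq_core y) (cq_ab hG y) hK, Subgroup.mem_bot] at hgr1
    have hr1 : r = 1 := eq_one_of_proj hr.2 (hSD r hr.2).1 hgr1
    rw [← hrw, hr1, one_mul]
    exact hw
  · have h4 := h0.four_le hG
    have hdvd : Nat.card V ∣ 2 ^ 3 := by
      rw [show (2 : ℕ) ^ 3 = 8 by rfl, ← h8]
      exact card_dvd_of_le hVV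
    obtain ⟨i, hi, hV⟩ := (Nat.dvd_prime_pow Nat.prime_two).1 hdvd
    interval_cases i
    · omega
    · omega
    · exact Or.inl ⟨hV, h8⟩
    · exact Or.inr (hfin (Subgroup.eq_of_le_of_card_ge hVV (by rw [hV, h8]; rfl)).symm)

/-- A nonsolvable centralizer of an involution gives a pair. -/
theorem exists_pair (hG : Setting G) (S : Sylow 2 G) {t : G} (ht : orderOf t = 2)
    (hns : ¬ Group.IsSolvable ↥(centralizer ({t} : Set G))) : ∃ R V, IsPair (S : Subgroup G) R V := by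
  haveI : Fact (Nat.Prime 2) := ⟨Nat.prime_two⟩
  obtain ⟨T, hT⟩ := (CfsgLib.Coprime.isPGroup_zpowers (p := 2) (x := t) (k := 1)
    (by rw [pow_one, ← ht, pow_orderOf_eq_one])).exists_le_sylow
  obtain ⟨a, ha⟩ := MulAction.exists_smul_eq G T S
  have htS : a * t * a⁻¹ ∈ (S : Subgroup G) := by
    rw [← ha, Sylow.coe_subgroup_smul]
    exact mem_map_of_mem _ (hT (mem_zpowers t))
  have ho : orderOf (a * t * a⁻¹) = 2 := by
    rw [show a * t * a⁻¹ = MulAut.conj a t from rfl, MulEquiv.orderOf_eq, ht]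
  have hnsq : ¬ Group.IsSolvable (CQ (a * t * a⁻¹)) := fun hsol => hns <| by
    haveI := hsol
    haveI : Group.IsSolvable (Cfsg.pPrimeCore 2 ↥(centralizer ({a * t * a⁻¹} : Set G))) :=
      CfsgLib.FT.isSolvable_of_odd _ (Nat.coprime_two_right.1 (CfsgLib.Coprime.pPrimeCore_coprime Nat.prime_two))
    haveI : Group.IsSolvable ↥(centralizer ({a * t * a⁻¹} : Set G)) :=
      Group.isSolvable_of_ker_le_range (Cfsg.pPrimeCore 2 _).subtype (proj (a * t * a⁻¹))
        (by rw [QuotientGroup.ker_mk', range_subtype])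
    exact Group.isSolvable_of_isSolvable_injective (f := (conjCent a t).toMonoidHom) (conjCent a t).injective
  obtain ⟨K, hK⟩ := exists_component (cq_core _) (cq_ab hG _) hnsq
  exact ⟨_, _, _, htS, ho, K, hK, rfl, rfl⟩

end CfsgLib.Walter.Rank
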