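import Cfsg.Agent.Lib.Walter.Rank.Quot
import Cfsg.Agent.Lib.CFun.OddZgroupLength

/-!
# The pairs of a Sylow `2`-subgroup: the decomposition

A component of `C(y)` modulo its odd core decomposes `S` as `R × V`.
-/

set_option autoImplicit false
set_option linter.style.haveILetI false

namespace CfsgLib.Walter.Rank

open Subgroup
open scoped commutatorElement

universe u

variable {G : Type u} [Group G] [Finite G] {S : Sylow 2 G} {y : G} {R V : Subgroup G}

theorem sylow_comm (hG : Setting G) {a b : G} (ha : a ∈ (S : Subgroup G)) (hb : b ∈ (S : Subgroup G)) :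
    a * b = b * a :=
  comm_of_mem hG.ab S ha hb

theorem mem_centralizer_of_mem (hG : Setting G) (hy : y ∈ (S : Subgroup G)) {s : G}
    (hs : s ∈ (S : Subgroup G)) : s ∈ centralizer ({y} : Set G) :=
  mem_centralizer_singleton_iff.2 (sylow_comm hG hs hy)

theorem centralizer_ne_top (hG : Setting G) (hy : y ≠ 1) : centralizer ({y} : Set G) ≠ ⊤ := by
  intro h
  haveI := hG.simple
  have hc : y ∈ center G := mem_center_iff.2 fun g => mem_centralizer_singleton_iff.1 (h ▸ mem_top g)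
  rcases (inferInstance : (center G).Normal).eq_bot_or_eq_top with h' | h'
  · exact hy (Subgroup.mem_bot.1 (h' ▸ hc))
  · exact hG.noncomm ⟨⟨fun a b => (mem_center_iff.1 (h' ▸ mem_top a : a ∈ center G) b).symm⟩⟩

theorem core_eq_bot (hG : Setting G) : Cfsg.pPrimeCore 2 G = ⊥ := by
  haveI := hG.simple
  haveI := CfsgLib.Coprime.pPrimeCore_characteristic (G := G) 2
  rcases (inferInstance : (Cfsg.pPrimeCore 2 G).Normal).eq_bot_or_eq_top with h | h
  · exact h
  · refine absurd ⟨⟨?_⟩⟩ hG.noncomm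
    have hodd : Odd (Nat.card G) := by
      have := CfsgLib.Coprime.pPrimeCore_coprime (G := G) Nat.prime_two
      rw [h, card_top] at this
      exact Nat.coprime_two_right.1 this
    haveI := CfsgLib.FT.isSolvable_of_odd G hodd
    exact IsSimpleGroup.comm_iff_isSolvable.2 this

theorem cq_core (y : G) : Cfsg.pPrimeCore 2 (CQ y) = ⊥ :=
  CfsgLib.Coprime.pPrimeCore_quotient_eq_bot Nat.prime_two

theorem cq_ab (hG : Setting G) (y : G) : AbTwo (CQ y) :=
  abTwo_of_surjective (proj y) (QuotientGroup.mk'_surjective _) (abTwo_subgroup hG.ab _)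

theorem proj_eq_one_iff {x : G} (hx : x ∈ centralizer ({y} : Set G)) :
    proj y ⟨x, hx⟩ = 1 ↔ x ∈ Cfsg.centralizerPPrimeCore 2 y := by
  refine (QuotientGroup.eq_one_iff _).trans ⟨fun h => ⟨⟨x, hx⟩, h, rfl⟩, ?_⟩
  rintro ⟨z, hz, e⟩
  rwa [show (⟨x, hx⟩ : centralizer ({y} : Set G)) = z from Subtype.ext e.symm]

theorem eq_one_of_proj {s : G} (hs : s ∈ (S : Subgroup G)) (hc : s ∈ centralizer ({y} : Set G))
    (h : proj y ⟨s, hc⟩ = 1) : s = 1 := by
  obtain ⟨k, hk⟩ := S.2 ⟨s, hs⟩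
  have h1 : (⟨s, hc⟩ : centralizer ({y} : Set G)) ^ 2 ^ k = 1 :=
    Subtype.ext (by simpa using congrArg Subtype.val hk)
  have h2 := Subgroup.orderOf_dvd_natCard _ ((QuotientGroup.eq_one_iff _).1 h)
  have h3 : orderOf (⟨s, hc⟩ : centralizer ({y} : Set G)) = 1 :=
    Nat.eq_one_of_dvd_coprimes (Nat.Coprime.pow_left k (CfsgLib.Coprime.pPrimeCore_coprime Nat.prime_two).symm)
      (orderOf_dvd_of_pow_eq_one h1) h2
  exact congrArg Subtype.val (orderOf_eq_one_iff.1 h3)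

theorem exists_sylow_cq (hG : Setting G) (hy : y ∈ (S : Subgroup G)) :
    ∃ P : Sylow 2 (CQ y), ∀ x : CQ y, x ∈ (P : Subgroup (CQ y)) ↔
      ∃ s ∈ (S : Subgroup G), ∃ hc : s ∈ centralizer ({y} : Set G), proj y ⟨s, hc⟩ = x := by
  haveI : Fact (Nat.Prime 2) := ⟨Nat.prime_two⟩
  have hle : (S : Subgroup G) ≤ centralizer ({y} : Set G) := fun s hs => mem_centralizer_of_mem hG hy hs
  refine ⟨(S.subtype hle).mapSurjective (QuotientGroup.mk'_surjective _), fun x => ?_⟩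
  rw [Sylow.coe_mapSurjective]
  constructor
  · rintro ⟨s, hs, rfl⟩
    exact ⟨s, hs, s.2, rfl⟩
  · rintro ⟨s, hs, hc, rfl⟩
    exact ⟨⟨s, hc⟩, hs, rfl⟩

theorem component_spec (hG : Setting G) (hy : orderOf y = 2) {K : Subgroup (CQ y)}
    (hK : Cfsg.IsComponent K) : IsSimpleGroup K ∧ ¬ IsMulCommutative K ∧ CentForm K ∧ AbTwo K := by
  obtain ⟨hs, hn⟩ := simple_component (cq_core y) (cq_ab hG y) hK
  have hab := abTwo_subgroup (cq_ab hG y) K
  have hy1 : y ≠ 1 := fun e => by simp [e] at hy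
  have hle : Nat.card K ∣ Nat.card ↥(centralizer ({y} : Set G)) :=
    K.card_subgroup_dvd_card.trans (Subgroup.card_quotient_dvd_card _)
  refine ⟨hs, hn, hG.sections K hs hn ?_ (hle.trans (card_subgroup_dvd_card _)) hab, hab⟩
  exact lt_of_le_of_lt (Nat.le_of_dvd Nat.card_pos hle) <| lt_of_le_of_ne
    (Nat.le_of_dvd Nat.card_pos (card_subgroup_dvd_card _))
    fun e => centralizer_ne_top hG hy1 (Subgroup.card_eq_iff_eq_top _ |>.1 e)

theorem mem_pre_iff {s : G} {H : Subgroup (CQ y)} (hc : s ∈ centralizer ({y} : Set G)) :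
    s ∈ pre y H ↔ proj y ⟨s, hc⟩ ∈ H :=
  mem_pre.trans ⟨fun ⟨_, h⟩ => h, fun h => ⟨hc, h⟩⟩

/-- The decomposition of an element of `S` at a component. -/
theorem exists_mul_of_component (hG : Setting G) (hy : y ∈ (S : Subgroup G)) {K : Subgroup (CQ y)}
    (hK : Cfsg.IsComponent K) {s : G} (hs : s ∈ (S : Subgroup G)) :
    ∃ r ∈ pre y (centralizer (K : Set (CQ y))) ⊓ (S : Subgroup G), ∃ v ∈ pre y K ⊓ (S : Subgroup G),
      r * v = s := by
  obtain ⟨P, hP⟩ := exists_sylow_cq (S := S) hG hy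
  have hsc := mem_centralizer_of_mem hG hy hs
  obtain ⟨w, hw, hwc⟩ := exists_split (cq_core y) (cq_ab hG y) P hK
    ((hP _).2 ⟨s, hs, hsc, rfl⟩)
  obtain ⟨s', hs', hc', rfl⟩ := (hP _).1 hw.1
  refine ⟨s * s'⁻¹, ⟨(mem_pre_iff (mul_mem hsc (inv_mem hc'))).2 ?_,
      Subgroup.mul_mem _ hs (Subgroup.inv_mem _ hs')⟩,
    s', ⟨(mem_pre_iff hc').2 hw.2, hs'⟩, inv_mul_cancel_right s s'⟩
  rwa [show (⟨s * s'⁻¹, mul_mem hsc (inv_mem hc')⟩ : centralizer ({y} : Set G)) = ⟨s, hsc⟩ * ⟨s', hc'⟩⁻¹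
    from rfl, map_mul, map_inv]

theorem IsPairAt.sup_eq (hG : Setting G) (h : IsPairAt (S : Subgroup G) y R V) :
    R ⊔ V = (S : Subgroup G) := by
  refine le_antisymm (sup_le h.le_left h.le_right) fun s hs => ?_
  obtain ⟨hy, -, K, hK, rfl, rfl⟩ := h
  obtain ⟨r, hr, v, hv, rfl⟩ := exists_mul_of_component hG hy hK hs
  exact mul_mem_sup hr hv

theorem IsPairAt.inf_eq (hG : Setting G) (h : IsPairAt (S : Subgroup G) y R V) : R ⊓ V = ⊥ := by
  obtain ⟨-, -, K, hK, rfl, rfl⟩ := h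
  refine (Subgroup.eq_bot_iff_forall _).2 fun x ⟨⟨h1, hxS⟩, h2, _⟩ => ?_
  obtain ⟨hc, h1'⟩ := mem_pre.1 h1
  have h3 : proj y ⟨x, hc⟩ ∈ K ⊓ centralizer (K : Set (CQ y)) := ⟨(mem_pre_iff hc).1 h2, h1'⟩
  rw [component_inf_centralizer (cq_core y) (cq_ab hG y) hK, Subgroup.mem_bot] at h3
  exact eq_one_of_proj hxS hc h3

theorem IsPairAt.card_eq (hG : Setting G) (h : IsPairAt (S : Subgroup G) y R V) :
    Nat.card R * Nat.card V = Nat.card (S : Subgroup G) := by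
  rw [← h.sup_eq hG]
  refine (CfsgLib.CFun.ZLen.card_sup_eq (fun v hv => ?_) (h.inf_eq hG)).symm
  exact centralizer_le_normalizer _
    (mem_centralizer_iff.2 fun r hr => sylow_comm hG (h.le_left hr) (h.le_right hv))

theorem IsPairAt.mem_left (hG : Setting G) (h : IsPairAt (S : Subgroup G) y R V) : y ∈ R := by
  obtain ⟨hy, -, K, -, -, rfl⟩ := h
  have hyc := mem_centralizer_of_mem (S := S) hG hy hy
  refine ⟨(mem_pre_iff hyc).2 (mem_centralizer_iff.2 fun k _ => ?_), hy⟩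
  obtain ⟨⟨g, hg⟩, rfl⟩ := QuotientGroup.mk'_surjective _ k
  rw [← map_mul, ← map_mul]
  exact congrArg _ (Subtype.ext (mem_centralizer_singleton_iff.1 hg))

theorem IsPairAt.right_ne_bot (hG : Setting G) (h : IsPairAt (S : Subgroup G) y R V) : V ≠ ⊥ := by
  obtain ⟨hy, -, K, hK, rfl, -⟩ := h
  obtain ⟨P, hP⟩ := exists_sylow_cq (S := S) hG hy
  obtain ⟨Q, hQ, hQ1⟩ := exists_sylow_component (cq_core y) P hK
  intro he
  refine hQ1 ((map_eq_bot_iff_of_injective _ K.subtype_injective).1 (hQ.trans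
    ((Subgroup.eq_bot_iff_forall _).2 fun x ⟨hxP, hxK⟩ => ?_)))
  obtain ⟨s, hs, hc, rfl⟩ := (hP x).1 hxP
  have h1 : s ∈ pre y K ⊓ (S : Subgroup G) := ⟨(mem_pre_iff hc).2 hxK, hs⟩
  rw [he, Subgroup.mem_bot] at h1
  subst h1
  exact map_one _

/-- `V` is a Sylow `2`-subgroup of the component. -/
theorem exists_sylow_of_component (hG : Setting G) (hy : y ∈ (S : Subgroup G)) {K : Subgroup (CQ y)}
    (hK : Cfsg.IsComponent K) : ∃ Q : Sylow 2 K,
      (∀ x : K, x ∈ (Q : Subgroup K) ↔ ∃ v ∈ pre y K ⊓ (S : Subgroup G),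
        ∃ hc : v ∈ centralizer ({y} : Set G), proj y ⟨v, hc⟩ = x) ∧
      Nat.card (Q : Subgroup K) = Nat.card ↥(pre y K ⊓ (S : Subgroup G)) := by
  obtain ⟨P, hP⟩ := exists_sylow_cq (S := S) hG hy
  obtain ⟨Q, hQ, -⟩ := exists_sylow_component (cq_core y) P hK
  have hmem : ∀ x : K, x ∈ (Q : Subgroup K) ↔ ∃ v ∈ pre y K ⊓ (S : Subgroup G),
      ∃ hc : v ∈ centralizer ({y} : Set G), proj y ⟨v, hc⟩ = x := by
    intro x
    constructor
    · intro hx
      have h1 : (x : CQ y) ∈ (P : Subgroup (CQ y)) ⊓ K := hQ ▸ mem_map_of_mem K.subtype hx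
      obtain ⟨s, hs, hc, e⟩ := (hP _).1 h1.1
      exact ⟨s, ⟨(mem_pre_iff hc).2 (e ▸ h1.2), hs⟩, hc, e⟩
    · rintro ⟨v, hv, hc, e⟩
      have h1 : (x : CQ y) ∈ (Q : Subgroup K).map K.subtype :=
        hQ.symm ▸ ⟨(hP _).2 ⟨v, hv.2, hc, e⟩, x.2⟩
      obtain ⟨x', hx', he⟩ := h1
      rwa [← Subtype.ext (he : (x' : CQ y) = x)]
  refine ⟨Q, hmem, (Nat.card_eq_of_bijective
    (fun v : ↥(pre y K ⊓ (S : Subgroup G)) => (⟨⟨proj y ⟨v, pre_le y K v.2.1⟩,
      (mem_pre_iff (pre_le y K v.2.1)).1 v.2.1⟩,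
      (hmem _).2 ⟨v, v.2, pre_le y K v.2.1, rfl⟩⟩ : (Q : Subgroup K))) ⟨?_, ?_⟩).symm⟩
  · intro v w e
    have e' : proj y ⟨v, pre_le y K v.2.1⟩ = proj y ⟨w, pre_le y K w.2.1⟩ :=
      congrArg (fun t : (Q : Subgroup K) => ((t : K) : CQ y)) e
    refine Subtype.ext (mul_inv_eq_one.1 ?_)
    refine eq_one_of_proj (mul_mem v.2.2 (inv_mem w.2.2))
      (mul_mem (pre_le y K v.2.1) (inv_mem (pre_le y K w.2.1))) ?_
    rw [show (⟨(v : G) * (w : G)⁻¹, _⟩ : centralizer ({y} : Set G)) =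
      ⟨v, pre_le y K v.2.1⟩ * ⟨w, pre_le y K w.2.1⟩⁻¹ from rfl, map_mul, map_inv, e', mul_inv_cancel]
  · rintro ⟨x, hx⟩
    obtain ⟨v, hv, hc, e⟩ := (hmem x).1 hx
    exact ⟨⟨v, hv⟩, Subtype.ext (Subtype.ext e)⟩

/-- Two pairs at the same involution are equal or commute. -/
theorem IsPairAt.eq_or_le {R' V' : Subgroup G} (h : IsPairAt (S : Subgroup G) y R V)
    (h' : IsPairAt (S : Subgroup G) y R' V') : (R' = R ∧ V' = V) ∨ V' ≤ R := by
  obtain ⟨-, -, K, hK, rfl, rfl⟩ := h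
  obtain ⟨-, -, K', hK', rfl, rfl⟩ := h'
  by_cases e : K' = K
  · exact Or.inl ⟨by rw [e], by rw [e]⟩
  · refine Or.inr (inf_le_inf_right _ (pre_mono y fun x hx => mem_centralizer_iff.2 fun k hk => ?_))
    exact (CfsgLib.Coprime.commutator_eq_bot_iff_forall.1
      (CfsgLib.Coprime.components_commute hK' hK e) x hx k hk).symm

/-- Conjugation by `g` of the centralizer of `y`. -/
noncomputable def conjCent (g y : G) :
    centralizer ({y} : Set G) ≃* centralizer ({g * y * g⁻¹} : Set G) :=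
  ((MulAut.conj g).subgroupMap (centralizer ({y} : Set G))).trans (MulEquiv.subgroupCongr (by
    ext x
    simp only [Subgroup.mem_map, mem_centralizer_singleton_iff]
    constructor
    · rintro ⟨z, hz, rfl⟩
      show g * z * g⁻¹ * (g * y * g⁻¹) = g * y * g⁻¹ * (g * z * g⁻¹)
      rw [show g * z * g⁻¹ * (g * y * g⁻¹) = g * (z * y) * g⁻¹ by group, hz]
      group
    · intro hx
      refine ⟨g⁻¹ * x * g, ?_, show g * (g⁻¹ * x * g) * g⁻¹ = x by group⟩
      rw [show g⁻¹ * x * g * y = g⁻¹ * (x * (g * y * g⁻¹)) * g by group, hx]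
      group))

theorem coe_conjCent (g y : G) (x : centralizer ({y} : Set G)) :
    (conjCent g y x : G) = g * x * g⁻¹ := rfl

/-- The isomorphism of the centralizers modulo cores induced by a conjugation. -/
noncomputable def conjCQ (g y : G) : CQ y ≃* CQ (g * y * g⁻¹) :=
  QuotientGroup.congr _ _ (conjCent g y) (CfsgLib.Coprime.map_pPrimeCore_equiv (conjCent g y) 2)

theorem conjCQ_proj (g y : G) (x : centralizer ({y} : Set G)) :
    conjCQ g y (proj y x) = proj (g * y * g⁻¹) (conjCent g y x) := rfl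

theorem map_pre (g y : G) (H : Subgroup (CQ y)) :
    (pre y H).map (MulAut.conj g).toMonoidHom = pre (g * y * g⁻¹) (H.map (conjCQ g y).toMonoidHom) := by
  ext x
  constructor
  · rintro ⟨z, hz, rfl⟩
    obtain ⟨hc, h⟩ := mem_pre.1 hz
    exact mem_pre.2 ⟨(conjCent g y ⟨z, hc⟩).2, ⟨_, h, conjCQ_proj g y ⟨z, hc⟩⟩⟩
  · intro hx
    obtain ⟨hc, w, hw, e⟩ := mem_pre.1 hx
    obtain ⟨⟨z, hz⟩, rfl⟩ := QuotientGroup.mk'_surjective _ w
    refine ⟨g⁻¹ * x * g, ?_, by simp [mul_assoc]⟩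
    obtain ⟨u, hu⟩ : ∃ u : centralizer ({y} : Set G), conjCent g y u = ⟨x, hc⟩ :=
      (conjCent g y).surjective _
    have hu' : (u : G) = g⁻¹ * x * g := by
      have h0 : g * (u : G) * g⁻¹ = x := congrArg Subtype.val hu
      rw [← h0]
      group
    rw [← hu']
    refine mem_pre.2 ⟨u.2, ?_⟩
    have h1 : conjCQ g y (proj y u) = conjCQ g y (proj y ⟨z, hz⟩) := by
      rw [conjCQ_proj g y u, hu]
      exact e.symm
    rwa [show (⟨(u : G), u.2⟩ : centralizer ({y} : Set G)) = u from rfl, (conjCQ g y).injective h1]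

theorem IsPairAt.map_conj (h : IsPairAt (S : Subgroup G) y R V) {n : G}
    (hn : n ∈ normalizer ((S : Subgroup G) : Set G)) :
    IsPairAt (S : Subgroup G) (n * y * n⁻¹) (R.map (MulAut.conj n).toMonoidHom)
      (V.map (MulAut.conj n).toMonoidHom) := by
  obtain ⟨hy, ho, K, hK, rfl, rfl⟩ := h
  have hS : (S : Subgroup G).map (MulAut.conj n).toMonoidHom = (S : Subgroup G) :=
    CfsgLib.Coprime.conjBy_eq_self_iff.2 hn
  have hinj : Function.Injective (MulAut.conj n).toMonoidHom := (MulAut.conj n).injective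
  refine ⟨(Subgroup.mem_normalizer_iff.1 hn y).1 hy, ?_, K.map (conjCQ n y).toMonoidHom,
    CfsgLib.Coprime.isComponent_map_equiv (conjCQ n y) hK, ?_, ?_⟩
  · rw [show n * y * n⁻¹ = MulAut.conj n y from rfl, MulEquiv.orderOf_eq, ho]
  · rw [map_inf _ _ _ hinj, map_pre, hS]
  · rw [map_inf _ _ _ hinj, map_pre, hS]
    congr 2
    ext x
    simp only [Subgroup.mem_map, mem_centralizer_iff]
    constructor
    · rintro ⟨z, hz, rfl⟩ k ⟨k', hk', rfl⟩
      rw [← map_mul, ← map_mul, hz k' hk']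
    · intro hx
      refine ⟨(conjCQ n y).symm x, fun k hk => (conjCQ n y).injective ?_, (conjCQ n y).apply_symm_apply x⟩
      rw [map_mul, map_mul, (conjCQ n y).apply_symm_apply]
      exact hx _ ⟨k, hk, rfl⟩

end CfsgLib.Walter.Rank
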