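import Cfsg.Agent.Lib.Walter.Defs
import Cfsg.Agent.Lib.Coprime.LBalance.Tools
import Cfsg.Prelude.Def_Balance

/-!
# Abelian Sylow `2`-subgroups of rank at least four: the setting

A pair `(R, V)` of a Sylow `2`-subgroup `S` comes from a component `K` of `C(y)` modulo its odd core:
`V` is the trace of `K` in `S` and `R` is the trace of the centralizer of `K`.

The obligations:
* linear lemma: an odd irreducible group of automorphisms of an elementary group of rank at least four which
  contains a torus for a decomposition `R × V` moves `R` to subgroups meeting `R`;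
* blocks: if the rank is at least four then `S` is the product of at least three blocks `V_i` (`Frame`);
* balance: with a frame all `Δ(D)`, `D ≤ S` of order eight, are trivial;
* the end: a frame with trivial `Δ` is impossible, so the rank is three.
-/

set_option autoImplicit false

namespace CfsgLib.Walter.Rank

open Subgroup
open scoped commutatorElement

universe u

variable {G : Type u} [Group G]

/-- The setting: a simple group with abelian Sylow `2`-subgroups whose smaller sections are in the list. -/
structure Setting (G : Type u) [Group G] : Prop where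
  simple : IsSimpleGroup G
  noncomm : ¬ IsMulCommutative G
  ab : AbTwo G
  sections : SectionsOK G

/-- The centralizer of `y` modulo its odd core. -/
abbrev CQ (y : G) : Type u :=
  ↥(centralizer ({y} : Set G)) ⧸ Cfsg.pPrimeCore 2 ↥(centralizer ({y} : Set G))

/-- The projection onto the centralizer modulo its odd core. -/
abbrev proj (y : G) : ↥(centralizer ({y} : Set G)) →* CQ y :=
  QuotientGroup.mk' (Cfsg.pPrimeCore 2 ↥(centralizer ({y} : Set G)))

/-- The preimage in `G` of a subgroup of the centralizer modulo its odd core. -/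
def pre (y : G) (H : Subgroup (CQ y)) : Subgroup G :=
  (H.comap (proj y)).map (centralizer ({y} : Set G)).subtype

theorem mem_pre {y x : G} {H : Subgroup (CQ y)} :
    x ∈ pre y H ↔ ∃ h : x ∈ centralizer ({y} : Set G), proj y ⟨x, h⟩ ∈ H := by
  constructor
  · rintro ⟨⟨x, hx⟩, h, rfl⟩
    exact ⟨hx, h⟩
  · rintro ⟨hx, h⟩
    exact ⟨⟨x, hx⟩, h, rfl⟩

theorem pre_le (y : G) (H : Subgroup (CQ y)) : pre y H ≤ centralizer ({y} : Set G) :=
  map_subtype_le _

theorem pre_mono (y : G) {H K : Subgroup (CQ y)} (h : H ≤ K) : pre y H ≤ pre y K :=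
  map_mono (comap_mono h)

/-- The pair at `y` of a component `K` of the centralizer modulo its odd core. -/
def IsPairAt (S : Subgroup G) (y : G) (R V : Subgroup G) : Prop :=
  y ∈ S ∧ orderOf y = 2 ∧ ∃ K : Subgroup (CQ y), Cfsg.IsComponent K ∧
    V = pre y K ⊓ S ∧ R = pre y (centralizer (K : Set (CQ y))) ⊓ S

/-- A pair of `S`. -/
def IsPair (S : Subgroup G) (R V : Subgroup G) : Prop := ∃ y : G, IsPairAt S y R V

theorem IsPairAt.le_left {S R V : Subgroup G} {y : G} (h : IsPairAt S y R V) : R ≤ S := by
  obtain ⟨-, -, K, -, -, rfl⟩ := h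
  exact inf_le_right

theorem IsPairAt.le_right {S R V : Subgroup G} {y : G} (h : IsPairAt S y R V) : V ≤ S := by
  obtain ⟨-, -, K, -, rfl, -⟩ := h
  exact inf_le_right

/-- The largest perfect subgroup. -/
def res (H : Subgroup G) : Subgroup G := sSup {P : Subgroup G | P ≤ H ∧ ⁅P, P⁆ = P}

theorem res_le (H : Subgroup G) : res H ≤ H := sSup_le fun _ hP => hP.1

theorem le_res {P H : Subgroup G} (h : P ≤ H) (hP : ⁅P, P⁆ = P) : P ≤ res H := le_sSup ⟨h, hP⟩

theorem res_mono {H K : Subgroup G} (h : H ≤ K) : res H ≤ res K :=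
  sSup_le fun _ hP => le_res (hP.1.trans h) hP.2

theorem commutator_res (H : Subgroup G) : ⁅res H, res H⁆ = res H := by
  refine le_antisymm (commutator_le_self _) (sSup_le fun P hP => ?_)
  calc P = ⁅P, P⁆ := hP.2.symm
    _ ≤ ⁅res H, res H⁆ := commutator_mono (le_res hP.1 hP.2) (le_res hP.1 hP.2)

/-- A perfect subgroup of an image lies in the image of the largest perfect subgroup. -/
theorem le_map_res [Finite G] {H : Type*} [Group H] (f : G →* H) {C : Subgroup G} {J : Subgroup H}
    (hJ : ⁅J, J⁆ = J) (hle : J ≤ C.map f) : J ≤ (res C).map f := by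
  obtain ⟨C₁, h1, h2, rfl⟩ := CfsgLib.Coprime.exists_perfect_le f hJ hle
  exact map_mono (le_res h1 h2)

/-- The blocks: at least three pairs `(R, V)`, each `V` lying in the other `R`s, generating `S`, permuted by
`N(S)`, and refining every pair. -/
structure Frame (S : Subgroup G) where
  B : Set (Subgroup G × Subgroup G)
  pair : ∀ b ∈ B, IsPair S b.1 b.2
  exists_three : ∃ a ∈ B, ∃ b ∈ B, ∃ c ∈ B, a ≠ b ∧ a ≠ c ∧ b ≠ c
  cross : ∀ b ∈ B, ∀ c ∈ B, b ≠ c → c.2 ≤ b.1
  generate : S ≤ ⨆ b : B, (b : Subgroup G × Subgroup G).2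
  invariant : ∀ n ∈ normalizer (S : Set G), ∀ b ∈ B,
    (b.1.map (MulAut.conj n).toMonoidHom, b.2.map (MulAut.conj n).toMonoidHom) ∈ B
  cover : ∀ R V : Subgroup G, IsPair S R V → ∃ b ∈ B, V ≤ b.2 ∧ b.1 ≤ R
  sixteen : ∀ b ∈ B, 16 ≤ Nat.card b.1

end CfsgLib.Walter.Rank
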