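import Cfsg.Agent.Lib.Walter.Rank.Local
import Cfsg.Agent.Lib.Walter.Rank.Factor
import Cfsg.Agent.S1299
import Cfsg.Agent.Lib.Coprime.LBalance.LocalBalance
import Cfsg.Agent.Lib.Coprime.Hyperplanes
import Cfsg.Agent.Lib.SolvSignalizer.Main
import Cfsg.Agent.Lib.FT.NoMinSimple

/-!
# Rank at least four: balance

`G` is `3`-balanced: the image of an elementary group of order eight in a component `K` of some
`C(b) / O(C(b))` either has a nontrivial kernel or covers enough of a Sylow subgroup of `K` to make the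
odd automorphism induced by `Δ` trivial. With a frame the odd subgroup generated by all `Δ(D)` is normal.
-/

set_option autoImplicit false
set_option linter.unusedSectionVars false
set_option linter.style.haveILetI false

namespace CfsgLib.Walter.Rank

open Subgroup

universe u

section Factor

variable {K : Type u} [Group K] [Finite K]

/-- In a group of the list with Sylow subgroup of order above eight, `C(a) ≤ P`. -/
theorem centralizer_le_sylow (hs : IsSimpleGroup K) (hc : CentForm K) (hab : AbTwo K) (P : Sylow 2 K)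
    (h8 : 8 < Nat.card (P : Subgroup K)) {a : K} (ha : a ∈ (P : Subgroup K)) (ha1 : a ≠ 1) :
    centralizer ({a} : Set K) ≤ (P : Subgroup K) := by
  haveI := Fact.mk Nat.prime_two
  rcases hc with ⟨F, iF, iF', ⟨n, hn2, hn⟩ | ⟨-, h8'⟩, ⟨e⟩⟩ | ⟨hr, -⟩
  · haveI : CharP F 2 := charP_of_card_eq_prime_pow hn
    obtain ⟨e', he'⟩ := Factor.exists_even_iso e P
    intro c hc
    refine (he' c).1 (Factor.centralizer_le_rootU ((he' a).2 ha) (fun h => ha1 ?_) ?_)
    · exact e'.injective (h.trans (map_one e').symm)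
    · rw [mem_centralizer_singleton_iff] at hc ⊢
      rw [← map_mul, ← map_mul, hc]
  · exfalso
    have h4 : Nat.card ((P : Subgroup K).map e.toMonoidHom) = 4 :=
      (Factor.sylow_four h8' (P.mapSurjective (f := e.toMonoidHom) e.surjective)).1
    rw [card_map_of_injective (f := e.toMonoidHom) e.injective] at h4
    omega
  · exfalso
    have := (hr P).1
    omega

end Factor

section Quot

variable {X : Type u} [Group X] [Finite X]

theorem delta_le_centralizer_component (hO : Cfsg.pPrimeCore 2 X = ⊥) (hab : AbTwo X)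
    {A : Subgroup X} (hA : Cfsg.IsElementaryAbelian 2 A) (hcard : Nat.card A = 8) {K : Subgroup X}
    (hK : Cfsg.IsComponent K) (hc : CentForm K) :
    Cfsg.signalizerDelta 2 A ≤ centralizer (K : Set X) := by
  classical
  haveI := Fact.mk Nat.prime_two
  have hsimple := (simple_component hO hab hK).1
  have habK := abTwo_subgroup hab K
  have hD : ∀ d ∈ A, d ≠ 1 → Cfsg.signalizerDelta 2 A ≤ Cfsg.centralizerPPrimeCore 2 d :=
    fun d hd hd1 => iInf_le (fun a : {a : X // a ∈ A ∧ a ≠ 1} =>
      Cfsg.centralizerPPrimeCore 2 (a : X)) ⟨d, hd, hd1⟩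
  by_cases hker : ∃ d ∈ A, d ≠ 1 ∧ d ∈ centralizer (K : Set X)
  · obtain ⟨d, hd, hd1, hdK⟩ := hker
    exact (hD d hd hd1).trans
      (CfsgLib.Coprime.coreCentralizer_le_centralizer_of_centralized hO hK hdK)
  have hAp : IsPGroup 2 A := fun x => ⟨1, Subtype.ext (by simpa using hA.2 x x.2)⟩
  obtain ⟨P, hP⟩ := hAp.exists_le_sylow
  obtain ⟨R, hR, -⟩ := exists_sylow_component hO P hK
  have hsplit : ∀ d : A, ∃ r : (R : Subgroup K), (d : X) * ((r : K) : X)⁻¹ ∈ centralizer (K : Set X) := by
    intro d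
    obtain ⟨v, hv, hvc⟩ := exists_split hO hab P hK (hP d.2)
    rw [← hR] at hv
    obtain ⟨r, hr, rfl⟩ := hv
    exact ⟨⟨r, hr⟩, hvc⟩
  choose v hv using hsplit
  have hvinj : Function.Injective v := by
    intro d d' e
    by_contra hne
    refine hker ⟨(d : X) * (d' : X)⁻¹, mul_mem d.2 (inv_mem d'.2),
      fun h => hne (Subtype.ext (mul_inv_eq_one.1 h)), ?_⟩
    have h1 := mul_mem (hv d) (inv_mem (e ▸ hv d'))
    rwa [mul_inv_rev, inv_inv, mul_assoc, inv_mul_cancel_left] at h1
  have h8 : 8 ≤ Nat.card (R : Subgroup K) := hcard ▸ Nat.card_le_card_of_injective v hvinj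
  intro x hx
  have hA1 : ∃ d : A, d ≠ 1 := by
    haveI : Nontrivial A := Finite.one_lt_card_iff_nontrivial.1 (by omega)
    exact exists_ne 1
  obtain ⟨d₀, hd₀⟩ := hA1
  have hxd : ∀ d : A, d ≠ 1 → x ∈ CfsgLib.Coprime.coreIn 2 (centralizer ((zpowers (d : X) : Subgroup X) : Set X)) :=
    fun d hd => by
      rw [← CfsgLib.Coprime.centralizerPPrimeCore_eq]
      exact hD d d.2 (fun h => hd (Subtype.ext h)) hx
  have hzp : ∀ d : A, IsPGroup 2 (zpowers (d : X)) := fun d =>
    CfsgLib.Coprime.isPGroup_zpowers (p := 2) (k := 1) (by rw [pow_one]; exact hA.2 _ d.2)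
  have hxK : x ∈ normalizer (K : Set X) :=
    CfsgLib.Coprime.coreCentralizer_le_normalizer_component hO (hzp d₀) hK (hxd d₀ hd₀)
  set α : MulAut K := normalizerMonoidHom K ⟨x, hxK⟩ with hα
  have hαv : ∀ k : K, (α k : X) = x * k * x⁻¹ := fun k => rfl
  have hxodd : Odd (orderOf x) := by
    have h1 : orderOf x ∣ Nat.card (CfsgLib.Coprime.coreIn 2
        (centralizer ((zpowers (d₀ : X) : Subgroup X) : Set X))) :=
      Subgroup.orderOf_dvd_natCard _ (hxd d₀ hd₀)
    exact Nat.Coprime.odd_of_right ((CfsgLib.Coprime.coprime_card_coreIn Nat.prime_two _).coprime_dvd_left h1)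
  have hodd : Odd (orderOf α) := hxodd.of_dvd_nat ((orderOf_map_dvd _ _).trans
    (dvd_of_eq (Subgroup.orderOf_coe (⟨x, hxK⟩ : normalizer (K : Set X))).symm))
  -- `α` centralizes the centralizers of the images
  have hfixd : ∀ d : A, d ≠ 1 → ∀ c ∈ centralizer ({((v d : (R : Subgroup K)) : K)} : Set K), α c = c := by
    intro d hd c hcc
    set w : K := ((v d : (R : Subgroup K)) : K) with hw
    have hw1 : w ≠ 1 := fun h => hker ⟨d, d.2, fun h' => hd (Subtype.ext h'), by
      have := hv d
      rwa [← hw, h, Subgroup.coe_one, inv_one, mul_one] at this⟩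
    have hcent : ∀ c : K, c ∈ centralizer ({w} : Set K) ↔
        (c : X) ∈ centralizer ((zpowers (d : X) : Subgroup X) : Set X) := by
      intro c
      rw [CfsgLib.Coprime.centralizer_zpowers_eq, mem_centralizer_singleton_iff,
        mem_centralizer_singleton_iff]
      have hcd : (c : X) * ((d : X) * (w : X)⁻¹) = (d : X) * (w : X)⁻¹ * c :=
        mem_centralizer_iff.1 (hv d) c c.2
      have e : (d : X) = (d : X) * (w : X)⁻¹ * w := by group
      constructor
      · intro h
        have h' : (c : X) * w = w * c := congrArg Subtype.val h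
        calc (c : X) * d = (c : X) * ((d : X) * (w : X)⁻¹) * w := by rw [mul_assoc (c : X), ← e]
          _ = (d : X) * (w : X)⁻¹ * ((c : X) * w) := by rw [hcd, mul_assoc]
          _ = (d : X) * c := by rw [h', ← mul_assoc, ← e]
      · intro h
        refine Subtype.ext (mul_left_cancel (a := (d : X) * (w : X)⁻¹) ?_)
        show (d : X) * (w : X)⁻¹ * ((c : X) * w) = (d : X) * (w : X)⁻¹ * ((w : X) * c)
        calc _ = (c : X) * ((d : X) * (w : X)⁻¹) * w := by rw [hcd]; group
          _ = (c : X) * d := by rw [mul_assoc, ← e]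
          _ = _ := by rw [h, ← mul_assoc ((d : X) * (w : X)⁻¹), ← e]
    set C := centralizer ((zpowers (d : X) : Subgroup X) : Set X) with hC
    set B := CfsgLib.Coprime.coreIn 2 C with hB
    set T : Subgroup K := B.subgroupOf K with hT
    have hBC : B ≤ C := CfsgLib.Coprime.coreIn_le _ _
    have hCB : C ≤ normalizer (B : Set X) :=
      le_normalizer.trans (CfsgLib.Coprime.normalizer_le_normalizer_coreIn _ _)
    have hTle : T ≤ CfsgLib.Coprime.coreIn 2 (centralizer ({w} : Set K)) := by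
      refine CfsgLib.Coprime.le_coreIn (fun k hk => (hcent k).2 (hBC hk)) ?_ ?_
      · intro k hk
        refine Subgroup.mem_normalizer_iff.2 fun t => ?_
        exact Subgroup.mem_normalizer_iff.1 (hCB ((hcent k).1 hk)) (t : X)
      · refine (CfsgLib.Coprime.coprime_card_coreIn Nat.prime_two C).coprime_dvd_left ?_
        rw [← card_map_of_injective K.subtype_injective]
        exact card_dvd_of_le (map_comap_le _ _)
    have hbot : CfsgLib.Coprime.coreIn 2 (centralizer ({w} : Set K)) = ⊥ := by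
      have hw2 : orderOf w = 2 := by
        refine orderOf_eq_prime ?_ hw1
        rw [sq]
        exact (sylow_elementary hsimple hc R).2 w (v d).2
      show (Cfsg.pPrimeCore 2 _).map _ = ⊥
      rw [core_centralizer_eq_bot hsimple hc habK R h8 hw2, Subgroup.map_bot]
    have hmem : α c * c⁻¹ ∈ T := by
      show ((α c * c⁻¹ : K) : X) ∈ B
      rw [Subgroup.coe_mul, Subgroup.coe_inv, hαv]
      have hcC := (hcent c).1 hcc
      have h1 : x * ((c : X) * x⁻¹ * (c : X)⁻¹) ∈ B :=
        mul_mem (hxd d hd) ((Subgroup.mem_normalizer_iff.1 (hCB hcC) _).1 (inv_mem (hxd d hd)))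
      simpa [mul_assoc] using h1
    have h2 := hTle hmem
    rw [hbot, mem_bot] at h2
    exact mul_inv_eq_one.1 h2
  have hα1 : α = 1 := by
    refine aut_eq_one hsimple hc habK R h8 α hodd fun a ha ha1 c hc' => ?_
    by_cases h9 : Nat.card (R : Subgroup K) = 8
    · have hsurj : Function.Surjective v :=
        ((Nat.bijective_iff_injective_and_card v).2 ⟨hvinj, by rw [hcard, h9]⟩).2
      obtain ⟨d, hd⟩ := hsurj ⟨a, ha⟩
      refine hfixd d (fun h => ?_) c (by rw [hd]; exact hc')
      subst h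
      have h1 := hv 1
      rw [hd] at h1
      have h2 : ((a : K) : X) ∈ centralizer (K : Set X) := by simpa using h1
      have h3 : ((a : K) : X) ∈ K ⊓ centralizer (K : Set X) := ⟨a.2, h2⟩
      rw [component_inf_centralizer hO hab hK, mem_bot] at h3
      exact ha1 (Subtype.ext h3)
    · have hcR := centralizer_le_sylow hsimple hc habK R (by omega) ha ha1 hc'
      refine hfixd d₀ hd₀ c (mem_centralizer_singleton_iff.2 ?_)
      exact comm_of_mem habK R hcR (v d₀).2
  refine mem_centralizer_iff.2 fun k hk => ?_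
  have := hαv ⟨k, hk⟩
  rw [hα1] at this
  have h' : x * k * x⁻¹ = k := this.symm
  exact (mul_inv_eq_iff_eq_mul.1 h').symm

theorem delta_quot_eq_bot (hO : Cfsg.pPrimeCore 2 X = ⊥) (hab : AbTwo X)
    (hcf : ∀ K : Subgroup X, Cfsg.IsComponent K → CentForm K)
    {A : Subgroup X} (hA : Cfsg.IsElementaryAbelian 2 A) (hcard : Nat.card A = 8) :
    Cfsg.signalizerDelta 2 A = ⊥ := by
  haveI := Fact.mk Nat.prime_two
  obtain ⟨a, ha, ha1⟩ : ∃ a ∈ A, a ≠ 1 := by
    by_contra h
    push Not at h
    rw [(eq_bot_iff_forall A).2 h, card_bot] at hcard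
    omega
  set D := Cfsg.signalizerDelta 2 A
  have hDB : D ≤ CfsgLib.Coprime.coreIn 2 (centralizer ((zpowers a : Subgroup X) : Set X)) := by
    rw [← CfsgLib.Coprime.centralizerPPrimeCore_eq]
    exact iInf_le (fun a : {a : X // a ∈ A ∧ a ≠ 1} => Cfsg.centralizerPPrimeCore 2 (a : X))
      ⟨a, ha, ha1⟩
  obtain ⟨hcop, -, hBO, -, -⟩ := CfsgLib.Coprime.coreCentralizer_data
    (CfsgLib.Coprime.isPGroup_zpowers (p := 2) (k := 1) (x := a) (by rw [pow_one]; exact hA.2 a ha)) _ rfl
  have hE : D ≤ centralizer (Cfsg.layer X : Set X) := by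
    rw [le_centralizer_iff]
    exact sSup_le fun K hK =>
      le_centralizer_iff.1 (delta_le_centralizer_component hO hab hA hcard hK (hcf K hK))
  have hfit := CfsgLib.Coprime.fitting_eq_pCore_of_pPrimeCore_eq_bot hO
  have hF : D ≤ centralizer (Cfsg.generalizedFittingSubgroup X : Set X) := by
    rw [le_centralizer_iff, Cfsg.generalizedFittingSubgroup, hfit]
    exact sup_le (le_centralizer_iff.1 hE) (le_centralizer_iff.1 (hDB.trans hBO))
  have h1 : D ≤ Cfsg.pCore 2 X := by
    rw [← hfit, ← CfsgLib.Coprime.generalizedFitting_inf_centralizer_layer]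
    exact le_inf (hF.trans CfsgLib.Coprime.centralizer_generalizedFitting_le) hE
  rw [eq_bot_iff, ← CfsgLib.Coprime.pPrime_inf_pGroup_eq_bot hcop (CfsgLib.Coprime.pCore_isPGroup 2)]
  exact le_inf hDB h1

end Quot

variable {G : Type u} [Group G] [Finite G]

theorem isKBalanced_three (hG : Setting G) : Cfsg.IsKBalanced 2 3 G := by
  haveI := Fact.mk Nat.prime_two
  intro A hA hcard b hb hab
  refine CfsgLib.Coprime.signalizerDelta_inf_centralizer_le hA hab fun A' hA' hc => ?_
  exact delta_quot_eq_bot (cq_core b) (cq_ab hG b) (fun K hK => (component_spec hG hb hK).2.2.1) hA'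
    (by rw [hc, hcard]; norm_num)

theorem map_delta (g : G) (D : Subgroup G) :
    (Cfsg.signalizerDelta 2 D).map (MulAut.conj g).toMonoidHom ≤
      Cfsg.signalizerDelta 2 (D.map (MulAut.conj g).toMonoidHom) := by
  haveI := Fact.mk Nat.prime_two
  refine le_iInf ?_
  rintro ⟨_, ⟨d, hd, rfl⟩, hd1⟩
  have h1 : Cfsg.signalizerDelta 2 D ≤ Cfsg.centralizerPPrimeCore 2 d :=
    iInf_le (fun a : {a : G // a ∈ D ∧ a ≠ 1} => Cfsg.centralizerPPrimeCore 2 (a : G))
      ⟨d, hd, fun h => hd1 (by rw [h, map_one])⟩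
  refine (map_mono h1).trans ?_
  rw [CfsgLib.Coprime.map_centralizerPPrimeCore_equiv]
  exact le_rfl

/-- The subgroup generated by all `Δ(D)`, `D` of order eight in `S`. -/
def deltaClosure (S : Subgroup G) : Subgroup G :=
  ⨆ D : {D : Subgroup G // D ≤ S ∧ Nat.card ↥D = 8}, Cfsg.signalizerDelta 2 (D : Subgroup G)

theorem mem_normalizer_of_map_le {W : Subgroup G} {g : G}
    (h : W.map (MulAut.conj g).toMonoidHom ≤ W) : g ∈ normalizer (W : Set G) :=
  CfsgLib.Coprime.BalFam.mem_normalizer_of_conj fun _ hy => h (mem_map_of_mem _ hy)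

section Closure

variable {S : Sylow 2 G} (hG : Setting G) (hsq : ∀ s ∈ (S : Subgroup G), s * s = 1)

include hG hsq

theorem isElementary_of_le {E : Subgroup G} (hE : E ≤ S) : Cfsg.IsElementaryAbelian 2 E :=
  ⟨⟨⟨fun a b => Subtype.ext (sylow_comm hG (hE a.2) (hE b.2))⟩⟩,
    fun x hx => by rw [pow_two]; exact hsq x (hE hx)⟩

theorem le_normalizer_delta {D : Subgroup G} (hD : D ≤ S) :
    (S : Subgroup G) ≤ normalizer (Cfsg.signalizerDelta 2 D : Set G) := by
  intro s hs
  refine mem_normalizer_of_map_le ((map_delta s D).trans (le_of_eq ?_))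
  congr 1
  ext x
  constructor
  · rintro ⟨d, hd, rfl⟩
    show s * d * s⁻¹ ∈ D
    rwa [sylow_comm hG hs (hD hd), mul_inv_cancel_right]
  · intro hx
    exact ⟨x, hx, show s * x * s⁻¹ = x by rw [sylow_comm hG hs (hD hx), mul_inv_cancel_right]⟩

theorem not_dvd_delta {D : Subgroup G} (hD : Nat.card D = 8) :
    ¬ 2 ∣ Nat.card (Cfsg.signalizerDelta 2 D) := by
  haveI : Nontrivial D := Finite.one_lt_card_iff_nontrivial.1 (by omega)
  obtain ⟨⟨d, hd⟩, hd1⟩ := exists_ne (1 : D)
  have h1 : Cfsg.signalizerDelta 2 D ≤ Cfsg.centralizerPPrimeCore 2 d :=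
    iInf_le (fun a : {a : G // a ∈ D ∧ a ≠ 1} => Cfsg.centralizerPPrimeCore 2 (a : G))
      ⟨d, hd, fun h => hd1 (Subtype.ext h)⟩
  intro h
  have h2 := h.trans (card_dvd_of_le h1)
  rw [Cfsg.centralizerPPrimeCore, card_map_of_injective (subtype_injective _)] at h2
  exact CfsgLib.Coprime.pPrimeCore_not_dvd Nat.prime_two h2

/-- `W` is generated by the `Δ(D)` with `D` in any subgroup of order at least sixteen. -/
theorem deltaClosure_eq {E : Subgroup G} (hE : E ≤ S) (h16 : 16 ≤ Nat.card E) :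
    deltaClosure (S : Subgroup G) = deltaClosure E := by
  haveI := Fact.mk Nat.prime_two
  refine le_antisymm (iSup_le fun D => ?_)
    (iSup_le fun D => le_iSup (fun D : {D : Subgroup G // D ≤ (S : Subgroup G) ∧ Nat.card ↥D = 8} =>
      Cfsg.signalizerDelta 2 (D : Subgroup G)) ⟨D, D.2.1.trans hE, D.2.2⟩)
  refine CfsgLib.Coprime.le_of_hyperplanes (isElementary_of_le hG hsq hE) (by omega)
    (not_dvd_delta hG hsq D.2.2) (hE.trans (le_normalizer_delta hG hsq D.2.1)) fun F hFE hFi => ?_
  have h1 : Nat.card F * 2 = Nat.card E := by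
    rw [← hFi, ← Subgroup.relIndex_bot_left (H := F), ← Subgroup.relIndex_bot_left (H := E)]
    exact Subgroup.relIndex_mul_relIndex ⊥ F E bot_le hFE
  obtain ⟨D', hD'⟩ := CfsgLib.Coprime.BalFam.exists_sub (k := 3) (isElementary_of_le hG hsq hE) hFE
    (show 2 ^ 3 ≤ Nat.card F by norm_num; omega)
  refine le_trans ?_ (le_iSup (fun D : {D : Subgroup G // D ≤ E ∧ Nat.card ↥D = 8} =>
    Cfsg.signalizerDelta 2 (D : Subgroup G)) ⟨D', D'.2.1, by rw [D'.2.2]; norm_num⟩)
  refine le_iInf fun d => (inf_le_inf_left _ (centralizer_le (Set.singleton_subset_iff.2 (hD' d.2.1)))).trans ?_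
  refine isKBalanced_three hG _ (isElementary_of_le hG hsq D.2.1) (by rw [D.2.2]; norm_num) d
    (orderOf_eq_prime (by rw [pow_two]; exact hsq _ (hE (D'.2.1 d.2.1))) d.2.2)
    fun a ha => sylow_comm hG (D.2.1 ha) (hE (D'.2.1 d.2.1))

theorem deltaClosure_odd (h32 : 32 ≤ Nat.card (S : Subgroup G)) :
    ¬ 2 ∣ Nat.card (deltaClosure (S : Subgroup G)) := by
  haveI := Fact.mk Nat.prime_two
  set A : Subgroup G := (S : Subgroup G) with hA
  have hAe := isElementary_of_le hG hsq (le_refl A)
  set θ := fun a : G => ⨆ D : {D : Subgroup G // D ≤ A ∧ Nat.card ↥D = 2 ^ 3},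
    Cfsg.signalizerDelta 2 (D : Subgroup G) ⊓ centralizer {a} with hθdef
  have hsol : ∀ a : G, Group.IsSolvable ↥(Cfsg.centralizerPPrimeCore 2 a) := fun a =>
    CfsgLib.FT.isSolvable_of_odd _ (by
      rw [← Nat.not_even_iff_odd, even_iff_two_dvd, Cfsg.centralizerPPrimeCore,
        card_map_of_injective (subtype_injective _)]
      exact CfsgLib.Coprime.pPrimeCore_not_dvd Nat.prime_two)
  have hf := Cfsg.Agent.S1299.result 2 3 (by norm_num) (isKBalanced_three hG) A hAe
    (by norm_num; omega) fun a _ _ => hsol a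
  have hsolθ : ∀ a ∈ A, a ≠ 1 → Group.IsSolvable ↥(θ a) := fun a ha ha1 =>
    CfsgLib.FT.isSolvable_of_odd _ (by
      rw [← Nat.not_even_iff_odd, even_iff_two_dvd]; exact hf.2.1 a ha ha1)
  obtain ⟨X, hX, hXθ⟩ := CfsgLib.SolvSignalizer.exists_complete hAe (by norm_num; omega)
    (θ := θ) ⟨hf, hsolθ⟩
  have hWX : deltaClosure A ≤ X := by
    refine iSup_le fun D => ?_
    refine CfsgLib.Coprime.le_of_hyperplanes hAe (by omega) (not_dvd_delta hG hsq D.2.2)
      (le_normalizer_delta hG hsq D.2.1) fun F hFA hFi => ?_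
    have h1 : Nat.card F * 2 = Nat.card A := by
      rw [← hFi, ← Subgroup.relIndex_bot_left (H := F), ← Subgroup.relIndex_bot_left (H := A)]
      exact Subgroup.relIndex_mul_relIndex ⊥ F A bot_le hFA
    haveI : Nontrivial F := Finite.one_lt_card_iff_nontrivial.1 (by omega)
    obtain ⟨⟨a, ha⟩, ha1⟩ := exists_ne (1 : F)
    refine (inf_le_inf_left _ (centralizer_le (Set.singleton_subset_iff.2 ha))).trans
      (le_trans ?_ (hXθ a (hFA ha) fun h => ha1 (Subtype.ext h)))
    exact le_iSup (fun D : {D : Subgroup G // D ≤ A ∧ Nat.card ↥D = 2 ^ 3} =>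
      Cfsg.signalizerDelta 2 (D : Subgroup G) ⊓ centralizer ({a} : Set G))
      ⟨D, D.2.1, by rw [D.2.2]; norm_num⟩
  exact fun h => hX.2.1 (h.trans (card_dvd_of_le hWX))

end Closure

/-- The conditions on a subgroup which make it the whole group. -/
def LocalGenerates (S : Subgroup G) : Prop :=
  ∀ M : Subgroup G, normalizer (S : Set G) ≤ M →
    (∀ U : Subgroup G, U ≤ S → U.relIndex S = 2 → centralizer (U : Set G) ≤ M) →
    (∀ R V : Subgroup G, IsPair S R V → res (centralizer (R : Set G)) ≤ M) → M = ⊤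

theorem delta_eq_bot_of (hG : Setting G) (S : Sylow 2 G) (hsq : ∀ s ∈ (S : Subgroup G), s * s = 1)
    (F : Frame (S : Subgroup G)) (hgen : LocalGenerates (S : Subgroup G)) {D : Subgroup G}
    (hD : D ≤ S) (h8 : Nat.card D = 8) : Cfsg.signalizerDelta 2 D = ⊥ := by
  haveI := Fact.mk Nat.prime_two
  haveI := hG.simple
  obtain ⟨b, hb, -⟩ := F.exists_three
  have h32 : 32 ≤ Nat.card (S : Subgroup G) := by
    obtain ⟨y, hy⟩ := F.pair b hb
    rw [← hy.card_eq hG]
    have h1 := F.sixteen b hb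
    have h2 : 2 ≤ Nat.card b.2 := by
      by_contra hc
      exact hy.right_ne_bot hG (Subgroup.card_eq_one.1 (by
        have : 0 < Nat.card b.2 := Nat.card_pos
        omega))
    calc 32 = 16 * 2 := by norm_num
      _ ≤ _ := Nat.mul_le_mul h1 h2
  set W := deltaClosure (S : Subgroup G) with hW
  have hnorm : ∀ E : Subgroup G, E ≤ S → 16 ≤ Nat.card E →
      centralizer (E : Set G) ≤ normalizer (W : Set G) := by
    intro E hE hE16 g hg
    rw [hW, deltaClosure_eq hG hsq hE hE16]
    refine mem_normalizer_of_map_le ?_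
    rw [deltaClosure, Subgroup.map_iSup]
    refine iSup_mono fun D => (map_delta g D).trans (le_of_eq ?_)
    congr 1
    have hfix : ∀ x ∈ (D : Subgroup G), MulAut.conj g x = x := fun x hx => by
      rw [MulAut.conj_apply, ← mem_centralizer_iff.1 hg x (D.2.1 hx), mul_inv_cancel_right]
    ext x
    constructor
    · rintro ⟨d, hd, rfl⟩
      show MulAut.conj g d ∈ (D : Subgroup G)
      rw [hfix d hd]; exact hd
    · exact fun hx => ⟨x, hx, hfix x hx⟩
  have hNS : normalizer ((S : Subgroup G) : Set G) ≤ normalizer (W : Set G) := by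
    intro g hg
    refine mem_normalizer_of_map_le ?_
    rw [hW, deltaClosure, Subgroup.map_iSup]
    refine iSup_le fun D => (map_delta g D).trans ?_
    refine le_iSup (fun D : {D : Subgroup G // D ≤ (S : Subgroup G) ∧ Nat.card ↥D = 8} =>
      Cfsg.signalizerDelta 2 (D : Subgroup G)) ⟨_, ?_, ?_⟩
    · exact (map_mono D.2.1).trans (le_of_eq (CfsgLib.Coprime.conjBy_eq_self_iff.2 hg))
    · exact (card_map_of_injective (f := (MulAut.conj g).toMonoidHom) (MulAut.conj g).injective).trans D.2.2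
  have htop := hgen (normalizer (W : Set G)) hNS
    (fun U hU hi => hnorm U hU (by
      have h1 : Nat.card U * 2 = Nat.card (S : Subgroup G) := by
        have h2 := Subgroup.relIndex_mul_relIndex ⊥ U _ bot_le hU
        rw [Subgroup.relIndex_bot_left, Subgroup.relIndex_bot_left, hi] at h2
        exact h2
      omega))
    (fun R V hRV => by
      obtain ⟨b, hb, -, hbR⟩ := F.cover R V hRV
      obtain ⟨y, hy⟩ := hRV
      exact (res_le _).trans (hnorm R hy.le_left ((F.sixteen b hb).trans (Subgroup.card_le_of_le hbR))))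
  haveI : W.Normal := Subgroup.normalizer_eq_top_iff.1 htop
  rcases (inferInstance : W.Normal).eq_bot_or_eq_top with h | h
  · exact eq_bot_iff.2 ((le_iSup (fun D : {D : Subgroup G // D ≤ (S : Subgroup G) ∧ Nat.card ↥D = 8} =>
      Cfsg.signalizerDelta 2 (D : Subgroup G)) ⟨D, hD, h8⟩).trans h.le)
  · exfalso
    apply deltaClosure_odd hG hsq h32
    rw [← hW, h, Subgroup.card_top]
    obtain ⟨n, hn⟩ := IsPGroup.iff_card.1 S.2
    refine (dvd_trans ?_ (Subgroup.card_subgroup_dvd_card (S : Subgroup G)))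
    rw [hn]
    exact dvd_pow_self 2 (by rintro rfl; omega)

end CfsgLib.Walter.Rank
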