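import Cfsg.Agent.Lib.Walter.Rank.Irred
import Cfsg.Agent.Lib.Coprime.Hyperplanes

/-!
# A criterion for the centralizers of involutions, and its use

`centralizer_le` : a subgroup containing `N(S) ∩ C(y)`, the centralizers of the hyperplanes of `S` and the
perfect residuals of the centralizers of the pairs contains `C(y)`.

`top_of_local` : with a frame, a subgroup containing `N(S)` and all `C(y)`, `y ∈ S#`, is the whole group.
-/

set_option autoImplicit false
set_option linter.style.haveILetI false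

namespace CfsgLib.Walter.Rank

open Subgroup
open scoped commutatorElement

universe u

variable {G : Type u} [Group G] [Finite G]

theorem isElementary_of_sq {A : Subgroup G} (h : ∀ a ∈ A, a * a = 1) : Cfsg.IsElementaryAbelian 2 A := by
  refine ⟨⟨⟨fun a b => Subtype.ext ?_⟩⟩, fun a ha => by rw [sq]; exact h a ha⟩
  show (a : G) * b = b * a
  have h1 := h _ (mul_mem a.2 b.2)
  rw [mul_eq_one_iff_eq_inv, mul_inv_rev, inv_eq_of_mul_eq_one_right (h _ a.2),
    inv_eq_of_mul_eq_one_right (h _ b.2)] at h1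
  exact h1

/-- A perfect subgroup of `CQ y` centralizing the image of a `2`-group `Q ≤ C(y)` is covered by the largest
perfect subgroup of `C(Q)`. -/
theorem le_map_res_centralizer {y : G} {Q : Subgroup G} (hQ : IsPGroup 2 Q)
    (hQC : Q ≤ centralizer ({y} : Set G)) {J : Subgroup (CQ y)} (hJ : ⁅J, J⁆ = J)
    (hJQ : ∀ j ∈ J, ∀ (q : G) (hq : q ∈ Q), Commute j (proj y ⟨q, hQC hq⟩)) :
    J ≤ ((res (centralizer (Q : Set G))).subgroupOf (centralizer ({y} : Set G))).map (proj y) := by
  haveI := Fact.mk Nat.prime_two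
  set C := centralizer ({y} : Set G)
  have hle : J ≤ ((centralizer (Q : Set G)).subgroupOf C).map (proj y) := by
    intro j hj
    obtain ⟨g, rfl⟩ := QuotientGroup.mk'_surjective _ j
    have hcomm : ∀ s ∈ Q.subgroupOf C, g * s * g⁻¹ * s⁻¹ ∈ Cfsg.pPrimeCore 2 ↥C := by
      intro s hs
      rw [← QuotientGroup.eq_one_iff]
      show proj y (g * s * g⁻¹ * s⁻¹) = 1
      rw [map_mul, map_mul, map_mul, map_inv, map_inv,
        show proj y g * proj y s = proj y s * proj y g from (hJQ _ hj s hs).eq, mul_inv_cancel_right,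
        mul_inv_cancel]
    obtain ⟨v, hv, hvc⟩ := CfsgLib.Coprime.exists_mul_mem_centralizer (p := 2)
      (V := Cfsg.pPrimeCore 2 ↥C) (CfsgLib.Coprime.pPrimeCore_coprime Nat.prime_two)
      (hQ.comap_of_injective C.subtype C.subtype_injective)
      (by rw [Subgroup.normalizer_eq_top]; exact le_top) hcomm
    refine ⟨v * g, mem_subgroupOf.2 (mem_centralizer_iff.2 fun q hq =>
      congrArg Subtype.val (mem_centralizer_iff.1 hvc ⟨q, hQC hq⟩ (mem_subgroupOf.2 hq))), ?_⟩
    rw [map_mul, show proj y v = 1 from (QuotientGroup.eq_one_iff v).2 hv, one_mul]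
  refine (le_map_res (proj y) hJ hle).trans (map_mono fun x hx => mem_subgroupOf.2 ?_)
  refine le_res ?_ ?_ (mem_map_of_mem C.subtype hx)
  · rintro _ ⟨z, hz, rfl⟩
    exact mem_subgroupOf.1 (res_le _ hz)
  · rw [← map_commutator, commutator_res]

theorem centralizer_le (hG : Setting G) (S : Sylow 2 G) (hsq : ∀ s ∈ (S : Subgroup G), s * s = 1)
    (h4 : 4 ≤ Nat.card (S : Subgroup G)) {M : Subgroup G} {y : G} (hy : y ∈ (S : Subgroup G)) (hy1 : y ≠ 1)
    (hN : normalizer ((S : Subgroup G) : Set G) ⊓ centralizer ({y} : Set G) ≤ M)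
    (hU : ∀ U : Subgroup G, U ≤ S → U.relIndex (S : Subgroup G) = 2 → centralizer (U : Set G) ≤ M)
    (hP : ∀ R V : Subgroup G, IsPair (S : Subgroup G) R V → res (centralizer (R : Set G)) ≤ M) :
    centralizer ({y} : Set G) ≤ M := by
  haveI := Fact.mk Nat.prime_two
  have hy2 : orderOf y = 2 := orderOf_eq_prime (by rw [sq]; exact hsq y hy) hy1
  set C := centralizer ({y} : Set G) with hC
  set O := Cfsg.pPrimeCore 2 ↥C
  have hSC : (S : Subgroup G) ≤ C := fun s hs => mem_centralizer_of_mem hG hy hs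
  have hOM : O.map C.subtype ≤ M := by
    refine CfsgLib.Coprime.le_of_hyperplanes (isElementary_of_sq hsq) (by simpa using h4) ?_ ?_
      fun U hU1 hU2 => inf_le_right.trans (hU U hU1 hU2)
    · rw [card_map_of_injective C.subtype_injective, ← Nat.prime_two.coprime_iff_not_dvd]
      exact (CfsgLib.Coprime.pPrimeCore_coprime Nat.prime_two).symm
    · intro s hs
      refine mem_normalizer_fintype ?_
      rintro _ ⟨o, ho, rfl⟩
      exact ⟨⟨s, hSC hs⟩ * o * ⟨s, hSC hs⟩⁻¹, Subgroup.Normal.conj_mem inferInstance o ho _, rfl⟩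
  have hSM : ∀ s ∈ (S : Subgroup G), s ∈ M := fun s hs => hN ⟨le_normalizer hs, hSC hs⟩
  set M' := M.subgroupOf C
  have hMker : ∀ z : C, proj y z ∈ M'.map (proj y) → z ∈ M' := by
    rintro z ⟨m, hm, he⟩
    have h1 : m⁻¹ * z ∈ O := by
      rw [← QuotientGroup.eq_one_iff]
      show proj y (m⁻¹ * z) = 1
      rw [map_mul, map_inv, he, inv_mul_cancel]
    have h2 : m⁻¹ * z ∈ M' := mem_subgroupOf.2 (hOM (mem_map_of_mem C.subtype h1))
    simpa using mul_mem hm h2
  obtain ⟨P, hP'⟩ := exists_sylow_cq (S := S) hG hy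
  have hPM : ∀ x ∈ (P : Subgroup (CQ y)), x ∈ M'.map (proj y) := by
    intro x hx
    obtain ⟨s, hs, hc, rfl⟩ := (hP' x).1 hx
    exact ⟨⟨s, hc⟩, mem_subgroupOf.2 (hSM s hs), rfl⟩
  -- components, and the centre of the layer part
  have hK : ∀ K : Subgroup (CQ y), Cfsg.IsComponent K → K ≤ M'.map (proj y) := by
    intro K hK
    have hp := hP _ _ ⟨y, hy, hy2, K, hK, rfl, rfl⟩
    refine (le_map_res_centralizer (Q := pre y (centralizer (K : Set (CQ y))) ⊓ (S : Subgroup G))
      (S.2.to_le inf_le_right) (inf_le_left.trans (pre_le y _))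
      (CfsgLib.Coprime.commutator_self_of_isComponent hK) ?_).trans (map_mono fun z hz =>
        mem_subgroupOf.2 (hp (mem_subgroupOf.1 hz)))
    intro j hj q hq
    obtain ⟨hq', hqK⟩ := mem_pre.1 hq.1
    exact mem_centralizer_iff.1 hqK j hj
  haveI := CfsgLib.Coprime.layer_normal (G := CQ y)
  haveI := CfsgLib.Coprime.pCore_normal' (G := CQ y) 2
  set N' := (Cfsg.layer (CQ y) ⊔ Cfsg.pCore 2 (CQ y)).comap (proj y)
  have hN'M : N' ≤ M' := by
    intro z hz
    refine hMker z ((sup_le (sSup_le hK) fun x hx => hPM x ?_) (mem_comap.1 hz))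
    exact CfsgLib.Coprime.pCore_le_sylow P hx
  have hS'N : (S.subtype hSC : Subgroup C) ≤ N' := by
    intro z hz
    exact mem_comap.2 (sylow_le (cq_core y) (cq_ab hG y) P ((hP' _).2 ⟨z, hz, z.2, rfl⟩))
  intro x hx
  have h1 : (⟨x, hx⟩ : C) ∈ normalizer ((S.subtype hSC : Subgroup C) : Set C) ⊔ N' :=
    (Sylow.normalizer_sup_eq_top' (S.subtype hSC) hS'N).ge (mem_top _)
  refine mem_subgroupOf.1 ((sup_le ?_ hN'M) h1 : (⟨x, hx⟩ : C) ∈ M')
  intro n hn
  refine mem_subgroupOf.2 (hN ⟨mem_normalizer_fintype fun s hs => ?_, n.2⟩)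
  exact (mem_normalizer_iff.1 hn ⟨s, hSC hs⟩).1 hs

namespace Frame

variable {S : Sylow 2 G} (F : Frame (S : Subgroup G))

theorem left_inf_right (hG : Setting G) {b : Subgroup G × Subgroup G} (hb : b ∈ F.B) : b.1 ⊓ b.2 = ⊥ := by
  obtain ⟨y, hy⟩ := F.pair b hb
  exact hy.inf_eq hG

theorem disjoint_blocks (hG : Setting G) {b c : Subgroup G × Subgroup G} (hb : b ∈ F.B) (hc : c ∈ F.B)
    (hne : b ≠ c) : b.2 ⊓ c.2 = ⊥ :=
  le_bot_iff.1 (le_trans (le_inf (inf_le_right.trans (F.cross b hb c hc hne)) inf_le_left)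
    (F.left_inf_right hG hb).le)

theorem exists_ne_one (hG : Setting G) {b : Subgroup G × Subgroup G} (hb : b ∈ F.B) :
    ∃ v ∈ b.2, v ≠ 1 := by
  obtain ⟨y, hy⟩ := F.pair b hb
  haveI : Nontrivial b.2 := Finite.one_lt_card_iff_nontrivial.1 (by have := hy.four_le hG; omega)
  obtain ⟨v, hv⟩ := exists_ne (1 : b.2)
  exact ⟨v, v.2, fun h => hv (Subtype.ext h)⟩

theorem mem_S {b : Subgroup G × Subgroup G} (hb : b ∈ F.B) {v : G} (hv : v ∈ b.2) :
    v ∈ (S : Subgroup G) := by
  obtain ⟨y, hy⟩ := F.pair b hb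
  exact hy.le_right hv

include F in
theorem elem_sq (hG : Setting G) : ∀ s ∈ (S : Subgroup G), s * s = 1 := by
  obtain ⟨a, ha, -⟩ := F.exists_three
  obtain ⟨y, hy⟩ := F.pair a ha
  exact sylow_sq hG hy

include F in
theorem four_le_card (hG : Setting G) : 4 ≤ Nat.card (S : Subgroup G) := by
  obtain ⟨a, ha, -⟩ := F.exists_three
  obtain ⟨y, hy⟩ := F.pair a ha
  exact (hy.four_le hG).trans (card_le_of_le hy.le_right)

end Frame

theorem top_of_local (hG : Setting G) (S : Sylow 2 G) (F : Frame (S : Subgroup G)) {M : Subgroup G}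
    (hN : normalizer ((S : Subgroup G) : Set G) ≤ M)
    (hC : ∀ y ∈ (S : Subgroup G), y ≠ 1 → centralizer ({y} : Set G) ≤ M) : M = ⊤ := by
  haveI := Fact.mk Nat.prime_two
  haveI := hG.simple
  have hSM : (S : Subgroup G) ≤ M := le_normalizer.trans hN
  have hsq := F.elem_sq hG
  obtain ⟨a, ha, b, hb, -, -, hab, -, -⟩ := F.exists_three
  obtain ⟨v, hv, hv1⟩ := F.exists_ne_one hG ha
  obtain ⟨v', hv', hv'1⟩ := F.exists_ne_one hG hb
  have hvS := F.mem_S ha hv
  have hv'S := F.mem_S hb hv'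
  set w := v * v' with hwdef
  have hwS : w ∈ (S : Subgroup G) := mul_mem hvS hv'S
  have hcentS : ∀ s ∈ (S : Subgroup G), s ∈ centralizer ((S : Subgroup G) : Set G) := fun s hs =>
    mem_centralizer_iff.2 fun t ht => sylow_comm hG ht hs
  have hncj : ∀ g : G, g * v * g⁻¹ ≠ w := by
    intro g hg
    obtain ⟨n, hn, hnv⟩ := S.conj_eq_normalizer_conj_of_mem_centralizer v g⁻¹ (hcentS v hvS)
      (by rw [inv_inv, hg]; exact hcentS w hwS)
    rw [inv_inv, hg] at hnv
    have hcB := F.invariant n⁻¹ (inv_mem hn) a ha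
    set c : Subgroup G × Subgroup G :=
      (a.1.map (MulAut.conj n⁻¹).toMonoidHom, a.2.map (MulAut.conj n⁻¹).toMonoidHom)
    have hwc : w ∈ c.2 := ⟨v, hv, by simp [hnv]⟩
    by_cases hca : c = a
    · have h' : v' ∈ a.2 := by
        have := mul_mem (inv_mem hv) (hca ▸ hwc : w ∈ a.2)
        rwa [hwdef, inv_mul_cancel_left] at this
      exact hv'1 (mem_bot.1 ((F.disjoint_blocks hG ha hb hab).le ⟨h', hv'⟩))
    · by_cases hcb : c = b
      · have h' : v ∈ b.2 := by
          have := mul_mem (hcb ▸ hwc : w ∈ b.2) (inv_mem hv')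
          rwa [hwdef, mul_inv_cancel_right] at this
        exact hv1 (mem_bot.1 ((F.disjoint_blocks hG ha hb hab).le ⟨hv, h'⟩))
      · have h' : v ∈ a.1 := by
          have := mul_mem (F.cross a ha c hcB (Ne.symm hca) hwc) (inv_mem (F.cross a ha b hb hab hv'))
          rwa [hwdef, mul_inv_cancel_right] at this
        exact hv1 (mem_bot.1 ((F.left_inf_right hG ha).le ⟨h', hv⟩))
  have hw1 : w ≠ 1 := fun h => by
    have h' : v ∈ b.2 := by rw [show v = v'⁻¹ from eq_inv_of_mul_eq_one_left h]; exact inv_mem hv'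
    exact hv1 (mem_bot.1 ((F.disjoint_blocks hG ha hb hab).le ⟨hv, h'⟩))
  have hconj : ∀ g : G, g * v * g⁻¹ ∈ M := by
    intro g
    set u := g * v * g⁻¹ with hu
    have huu : u * u = 1 := by
      rw [hu, show g * v * g⁻¹ * (g * v * g⁻¹) = g * (v * v) * g⁻¹ by group, hsq v hvS]; group
    set d := u * w with hd
    have hud : SemiconjBy u d d⁻¹ := by
      show u * (u * w) = (u * w)⁻¹ * u
      rw [← mul_assoc, huu, one_mul, mul_inv_rev, inv_eq_of_mul_eq_one_right huu,
        inv_eq_of_mul_eq_one_right (hsq w hwS), mul_assoc, huu, mul_one]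
    rcases Nat.even_or_odd' (orderOf d) with ⟨k, hk | hk⟩
    · -- the central involution of the dihedral group
      have hk0 : 0 < k := by have := orderOf_pos d; omega
      set z := d ^ k
      have hz1 : z ≠ 1 := pow_ne_one_of_lt_orderOf hk0.ne' (by omega)
      have hzz : z * z = 1 := by rw [← pow_add, ← two_mul, ← hk, pow_orderOf_eq_one]
      have hzu : Commute z u := by
        have h := (hud.pow_right k).eq
        rw [inv_pow, inv_eq_of_mul_eq_one_right hzz] at h
        exact h.symm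
      have hzw : Commute z w := by
        have h1 : w = u * d := by rw [hd, ← mul_assoc, huu, one_mul]
        rw [h1]
        exact hzu.mul_right ((Commute.refl d).pow_left k)
      have hzM : z ∈ M := hC w hwS hw1 (mem_centralizer_singleton_iff.2 hzw.eq)
      have hzo : orderOf (⟨z, hzM⟩ : M) = 2 := orderOf_eq_prime
        (Subtype.ext (by rw [sq]; exact hzz)) (fun h => hz1 (congrArg Subtype.val h))
      obtain ⟨m, hm⟩ := Invol.exists_conj_le_sylow
        (IsPGroup.of_card (n := 1) (by rw [Nat.card_zpowers, hzo, pow_one]) :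
          IsPGroup 2 (zpowers (⟨z, hzM⟩ : M))) (S.subtype hSM)
      have hs : (m : G) * z * (m : G)⁻¹ ∈ (S : Subgroup G) := hm _ (mem_zpowers _)
      have hs1 : (m : G) * z * (m : G)⁻¹ ≠ 1 := fun h => hz1 (conj_eq_one_iff.1 h)
      have hcm : (m : G) * u * (m : G)⁻¹ ∈ centralizer ({(m : G) * z * (m : G)⁻¹} : Set G) :=
        mem_centralizer_singleton_iff.2 ((hzu.symm).map (MulAut.conj (m : G)).toMonoidHom).eq
      have hmu := mul_mem (mul_mem (inv_mem m.2) (hC _ hs hs1 hcm)) m.2
      rwa [show (m : G)⁻¹ * ((m : G) * u * (m : G)⁻¹) * m = u by group] at hmu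
    · -- conjugate: impossible
      exfalso
      refine hncj (d ^ k * g) ?_
      have h := (hud.pow_right k).eq
      rw [inv_pow] at h
      calc d ^ k * g * v * (d ^ k * g)⁻¹ = d ^ k * u * (d ^ k)⁻¹ := by rw [hu]; group
        _ = d ^ k * (u * (d ^ k)⁻¹) := mul_assoc _ _ _
        _ = d ^ k * (d ^ k * u) := by
          congr 1
          calc u * (d ^ k)⁻¹ = u * ((d ^ k)⁻¹ * u) * u := by rw [mul_assoc u ((d ^ k)⁻¹ * u) u, mul_assoc (d ^ k)⁻¹, huu, mul_one]
            _ = u * (u * d ^ k) * u := by rw [h]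
            _ = d ^ k * u := by rw [← mul_assoc u, huu, one_mul]
        _ = d⁻¹ * u := by
          rw [← mul_assoc, ← pow_add]
          congr 1
          refine eq_inv_of_mul_eq_one_left ?_
          rw [← pow_succ, ← two_mul, ← hk, pow_orderOf_eq_one]
        _ = w := by
          rw [hd, mul_inv_rev, inv_eq_of_mul_eq_one_right huu, inv_eq_of_mul_eq_one_right (hsq w hwS),
            mul_assoc, huu, mul_one]
  have hle : normalClosure ({v} : Set G) ≤ M := by
    refine (closure_le _).2 fun x hx => ?_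
    obtain ⟨_, rfl, hc⟩ := Group.mem_conjugatesOfSet_iff.1 hx
    obtain ⟨c, rfl⟩ := isConj_iff.1 hc
    exact hconj c
  rcases (normalClosure_normal (s := ({v} : Set G))).eq_bot_or_eq_top with h | h
  · exact absurd (mem_bot.1 (h ▸ subset_normalClosure rfl)) hv1
  · exact top_unique (h ▸ hle)

end CfsgLib.Walter.Rank
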