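import Cfsg.Agent.Lib.FT.NoMinSimple
import Cfsg.Agent.Lib.PGroup.TwoPQModule
import Mathlib.FieldTheory.Finite.GaloisField
import Mathlib.FieldTheory.Galois.Basic
import Mathlib.LinearAlgebra.Dual.Lemmas
import Mathlib.LinearAlgebra.FreeModule.Finite.Matrix
import Mathlib.GroupTheory.Perm.Cycle.Type

/-!
# An odd irreducible linear group with a torus

If an odd irreducible group of automorphisms of an elementary abelian group `R × V` of order at least
sixteen contains a torus which is trivial on `R` and transitive on the non-trivial elements of `V`,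
then `R` meets every one of its images non-trivially.
-/

set_option autoImplicit false
set_option linter.unusedSectionVars false
set_option linter.style.haveILetI false

namespace CfsgLib.Walter.Rank

open scoped commutatorElement

universe u

namespace LinearAux

variable {W : Type u} [AddCommGroup W] [Finite W] {A : Type u} [Group A] [Finite A]

/-- The hypotheses on an odd group with a torus. -/
structure Data (ρ : A →* AddMonoid.End W) (R V : AddSubgroup W) (τ : A) : Prop where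
  two : ∀ x : W, x + x = 0
  inj : Function.Injective ρ
  odd : Odd (Nat.card A)
  irr : ∀ U : AddSubgroup W, (∀ a : A, ∀ x ∈ U, ρ a x ∈ U) → U = ⊥ ∨ U = ⊤
  big : 16 ≤ Nat.card W
  compl : IsCompl R V
  ne_bot : R ≠ ⊥
  four : 4 ≤ Nat.card V
  fixR : ∀ r ∈ R, ρ τ r = r
  mapV : ∀ v ∈ V, ρ τ v ∈ V
  ord : orderOf τ + 1 = Nat.card V
  reg : ∀ v ∈ V, v ≠ 0 → ∀ i : ℕ, ρ (τ ^ i) v = v → τ ^ i = 1

/-- Evaluation of an endomorphism at a vector. -/
def evalAt (w : W) : AddMonoid.End W →+ W where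
  toFun f := f w
  map_zero' := rfl
  map_add' _ _ := rfl

theorem finite_end : Finite (AddMonoid.End W) :=
  Finite.of_injective (fun f : AddMonoid.End W => (f : W → W)) DFunLike.coe_injective

theorem act_mul (ρ : A →* AddMonoid.End W) (a b : A) (w : W) : ρ (a * b) w = ρ a (ρ b w) := by
  rw [map_mul]; rfl

theorem act_one (ρ : A →* AddMonoid.End W) (w : W) : ρ 1 w = w := by
  rw [map_one]; rfl

theorem act_inv_act (ρ : A →* AddMonoid.End W) (a : A) (w : W) : ρ a⁻¹ (ρ a w) = w := by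
  rw [← act_mul, inv_mul_cancel, act_one]

theorem act_act_inv (ρ : A →* AddMonoid.End W) (a : A) (w : W) : ρ a (ρ a⁻¹ w) = w := by
  rw [← act_mul, mul_inv_cancel, act_one]

/-- In a group of odd order every element is a power of its square. -/
theorem exists_sq_pow (hodd : Odd (Nat.card A)) (a : A) : ∃ k : ℕ, (a * a) ^ k = a := by
  obtain ⟨k, hk⟩ := hodd
  refine ⟨k + 1, ?_⟩
  rw [← pow_two, ← pow_mul, show 2 * (k + 1) = Nat.card A + 1 by omega, pow_succ, pow_card_eq_one',
    one_mul]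

/-- Conjugation of an endomorphism by an element. -/
def conjEnd (ρ : A →* AddMonoid.End W) (a : A) (e : AddMonoid.End W) : AddMonoid.End W :=
  ρ a * e * ρ a⁻¹

theorem conjEnd_one (ρ : A →* AddMonoid.End W) (e : AddMonoid.End W) : conjEnd ρ 1 e = e := by
  simp [conjEnd]

theorem conjEnd_comp (ρ : A →* AddMonoid.End W) (a b : A) (e : AddMonoid.End W) :
    conjEnd ρ a (conjEnd ρ b e) = conjEnd ρ (a * b) e := by
  simp [conjEnd, map_mul, mul_assoc, mul_inv_rev]

theorem conjEnd_inv (ρ : A →* AddMonoid.End W) (a : A) (e : AddMonoid.End W) :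
    conjEnd ρ a⁻¹ (conjEnd ρ a e) = e := by
  rw [conjEnd_comp, inv_mul_cancel, conjEnd_one]

theorem conjEnd_inv' (ρ : A →* AddMonoid.End W) (a : A) (e : AddMonoid.End W) :
    conjEnd ρ a (conjEnd ρ a⁻¹ e) = e := by
  rw [conjEnd_comp, mul_inv_cancel, conjEnd_one]

theorem conjEnd_mul (ρ : A →* AddMonoid.End W) (a : A) (e f : AddMonoid.End W) :
    conjEnd ρ a (e * f) = conjEnd ρ a e * conjEnd ρ a f := by
  have h : ρ a⁻¹ * ρ a = 1 := by rw [← map_mul, inv_mul_cancel, map_one]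
  simp only [conjEnd]
  calc ρ a * (e * f) * ρ a⁻¹ = ρ a * e * 1 * (f * ρ a⁻¹) := by simp [mul_assoc]
    _ = ρ a * e * (ρ a⁻¹ * ρ a) * (f * ρ a⁻¹) := by rw [h]
    _ = ρ a * e * ρ a⁻¹ * (ρ a * f * ρ a⁻¹) := by simp only [mul_assoc]

theorem conjEnd_apply (ρ : A →* AddMonoid.End W) (a : A) (e : AddMonoid.End W) (w : W) :
    conjEnd ρ a e (ρ a w) = ρ a (e w) :=
  congrArg (ρ a) (congrArg e (act_inv_act ρ a w))

theorem conjEnd_pow_fix (ρ : A →* AddMonoid.End W) (a : A) (e : AddMonoid.End W)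
    (h : conjEnd ρ a e = e) (k : ℕ) : conjEnd ρ (a ^ k) e = e := by
  induction k with
  | zero => rw [pow_zero, conjEnd_one]
  | succ k ih => rw [pow_succ, ← conjEnd_comp, h, ih]

theorem conjEnd_of_sq (ρ : A →* AddMonoid.End W) (hodd : Odd (Nat.card A)) (a : A)
    (e : AddMonoid.End W) (h : conjEnd ρ (a * a) e = e) : conjEnd ρ a e = e := by
  obtain ⟨k, hk⟩ := exists_sq_pow hodd a
  calc conjEnd ρ a e = conjEnd ρ ((a * a) ^ k) e := by rw [hk]
    _ = e := conjEnd_pow_fix ρ _ e h k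

/-- The ring generated by a subgroup. -/
def alg (ρ : A →* AddMonoid.End W) (Z : Subgroup A) : Subring (AddMonoid.End W) :=
  Subring.closure (ρ '' (Z : Set A))

variable {ρ : A →* AddMonoid.End W} {R V : AddSubgroup W} {τ : A}

theorem Data.char_two (h : Data ρ R V τ) (x : AddMonoid.End W) : x + x = 0 := by
  ext w
  exact h.two _

theorem Data.neg_eq (h : Data ρ R V τ) (x : AddMonoid.End W) : -x = x :=
  neg_eq_of_add_eq_zero_left (h.char_two x)

theorem Data.eq_of_add (h : Data ρ R V τ) {x y : W} (e : x + y = 0) : x = y := by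
  rw [← add_right_cancel_iff (a := y), e, h.two]

theorem Data.decomp (h : Data ρ R V τ) (w : W) : ∃ r ∈ R, ∃ v ∈ V, r + v = w :=
  AddSubgroup.mem_sup.1 (h.compl.sup_eq_top.ge (AddSubgroup.mem_top w))

theorem Data.eq_zero (h : Data ρ R V τ) {x : W} (hR : x ∈ R) (hV : x ∈ V) : x = 0 :=
  (AddSubgroup.mem_bot).1 (h.compl.inf_eq_bot.le (AddSubgroup.mem_inf.2 ⟨hR, hV⟩))

theorem Data.three_le (h : Data ρ R V τ) : 3 ≤ orderOf τ := by
  have := h.ord; have := h.four; omega

theorem Data.tau_ne (h : Data ρ R V τ) : τ ≠ 1 := fun e => by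
  have h3 := h.three_le
  rw [e, orderOf_one] at h3
  omega

theorem Data.pow_fixR (h : Data ρ R V τ) (i : ℕ) {r : W} (hr : r ∈ R) : ρ (τ ^ i) r = r := by
  induction i with
  | zero => rw [pow_zero, act_one]
  | succ i ih => rw [pow_succ, act_mul, h.fixR r hr, ih]

theorem Data.pow_mapV (h : Data ρ R V τ) (i : ℕ) {v : W} (hv : v ∈ V) : ρ (τ ^ i) v ∈ V := by
  induction i with
  | zero => rwa [pow_zero, act_one]
  | succ i ih => rw [pow_succ', act_mul]; exact h.mapV _ ih

theorem Data.mem_of_fix (h : Data ρ R V τ) {i : ℕ} (hi : τ ^ i ≠ 1) {w : W}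
    (hw : ρ (τ ^ i) w = w) : w ∈ R := by
  obtain ⟨r, hr, v, hv, rfl⟩ := h.decomp w
  rw [map_add, h.pow_fixR i hr] at hw
  by_cases hv0 : v = 0
  · rw [hv0, add_zero]; exact hr
  · exact absurd (h.reg v hv hv0 i (add_left_cancel hw)) hi

theorem Data.mem_of_fix_tau (h : Data ρ R V τ) {w : W} (hw : ρ τ w = w) : w ∈ R :=
  h.mem_of_fix (i := 1) (by rw [pow_one]; exact h.tau_ne) (by rwa [pow_one])

theorem Data.add_mem (h : Data ρ R V τ) (i : ℕ) (w : W) : ρ (τ ^ i) w + w ∈ V := by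
  obtain ⟨r, hr, v, hv, rfl⟩ := h.decomp w
  rw [map_add, h.pow_fixR i hr, add_add_add_comm, h.two, zero_add]
  exact V.add_mem (h.pow_mapV i hv) hv

theorem Data.add_mem_tau (h : Data ρ R V τ) (w : W) : ρ τ w + w ∈ V := by
  simpa using h.add_mem 1 w

theorem Data.exists_add (h : Data ρ R V τ) {i : ℕ} (hi : τ ^ i ≠ 1) {v : W} (hv : v ∈ V) :
    ∃ x ∈ V, ρ (τ ^ i) x + x = v := by
  have : Finite V := inferInstance
  let f : V → V := fun x => ⟨ρ (τ ^ i) x.1 + x.1, h.add_mem i x.1⟩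
  have hf : Function.Injective f := by
    intro x y hxy
    have e : ρ (τ ^ i) x.1 + x.1 = ρ (τ ^ i) y.1 + y.1 := congrArg Subtype.val hxy
    have e' : ρ (τ ^ i) (x.1 - y.1) + (x.1 - y.1) = 0 := by
      rw [map_sub, sub_add_sub_comm, e, sub_self]
    have h0 := h.eq_zero (h.mem_of_fix hi (h.eq_of_add e')) (V.sub_mem x.2 y.2)
    exact Subtype.ext (sub_eq_zero.1 h0)
  obtain ⟨x, hx⟩ := (Finite.injective_iff_surjective.1 hf) ⟨v, hv⟩
  exact ⟨x.1, x.2, congrArg Subtype.val hx⟩

theorem Data.transitive (h : Data ρ R V τ) {v w : W} (hv : v ∈ V) (hv0 : v ≠ 0) (hw : w ∈ V)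
    (hw0 : w ≠ 0) : ∃ i : ℕ, ρ (τ ^ i) v = w := by
  classical
  have : Fintype W := Fintype.ofFinite W
  let S : Finset W := Finset.univ.filter fun x => x ∈ V ∧ x ≠ 0
  let O : Finset W := (Finset.range (orderOf τ)).image fun i => ρ (τ ^ i) v
  have hsub : O ⊆ S := by
    intro x hx
    obtain ⟨i, -, rfl⟩ := Finset.mem_image.1 hx
    refine Finset.mem_filter.2 ⟨Finset.mem_univ _, h.pow_mapV i hv, fun e => hv0 ?_⟩
    rw [← act_inv_act ρ (τ ^ i) v, e, map_zero]
  have hcardO : O.card = orderOf τ := by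
    rw [Finset.card_image_of_injOn, Finset.card_range]
    have key : ∀ i j : ℕ, i ≤ j → j < orderOf τ → ρ (τ ^ i) v = ρ (τ ^ j) v → i = j := by
      intro i j hij hj e
      have e' : ρ (τ ^ (j - i)) v = v := by
        have e2 := congrArg (ρ (τ ^ i)⁻¹) e
        rw [act_inv_act, ← act_mul] at e2
        rw [pow_sub τ hij, ((Commute.refl τ).pow_pow j i).inv_right.eq]
        exact e2.symm
      have h1 := orderOf_dvd_of_pow_eq_one (h.reg v hv hv0 _ e')
      by_contra hne
      exact absurd (Nat.le_of_dvd (by omega) h1) (by omega)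
    intro i hi j hj e
    simp only [Finset.coe_range, Set.mem_Iio] at hi hj
    rcases le_total i j with hij | hij
    · exact key i j hij hj e
    · exact (key j i hij hi e.symm).symm
  have hcardS : S.card + 1 = Nat.card V := by
    have : (Finset.univ.filter fun x => x ∈ V) = insert 0 S := by
      ext x
      by_cases hx : x = 0 <;> simp [S, hx, V.zero_mem]
    rw [Nat.card_eq_fintype_card, Fintype.card_subtype, this,
      Finset.card_insert_of_notMem (by simp [S])]
  have heq : O = S := Finset.eq_of_subset_of_card_le hsub (by have := h.ord; omega)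
  have hwS : w ∈ O := heq ▸ Finset.mem_filter.2 ⟨Finset.mem_univ _, hw, hw0⟩
  obtain ⟨i, -, hi⟩ := Finset.mem_image.1 hwS
  exact ⟨i, hi⟩

theorem Data.card_eq (h : Data ρ R V τ) : Nat.card W = Nat.card R * Nat.card V := by
  rw [← Nat.card_prod]
  refine (Nat.card_eq_of_bijective (fun p : R × V => p.1.1 + p.2.1) ⟨?_, ?_⟩).symm
  · rintro ⟨⟨r, hr⟩, ⟨v, hv⟩⟩ ⟨⟨r', hr'⟩, ⟨v', hv'⟩⟩ e
    simp only at e
    have h1 : r - r' = v' - v := by
      rw [sub_eq_sub_iff_add_eq_add, e, add_comm]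
    have h2 := h.eq_zero (R.sub_mem hr hr') (h1 ▸ V.sub_mem hv' hv)
    have hr2 : r = r' := sub_eq_zero.1 h2
    subst hr2
    have hv2 : v = v' := add_left_cancel e
    subst hv2
    rfl
  · intro w
    obtain ⟨r, hr, v, hv, rfl⟩ := h.decomp w
    exact ⟨(⟨r, hr⟩, ⟨v, hv⟩), rfl⟩

/-- If `R` meets an image trivially then it is not bigger than `V`. -/
theorem Data.card_le (h : Data ρ R V τ) (g : A) (hg : ∀ r ∈ R, ρ g r ∈ R → r = 0) :
    Nat.card R ≤ Nat.card V := by
  have h1 : Nat.card (R × R) ≤ Nat.card W := by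
    refine Nat.card_le_card_of_injective (fun p : R × R => p.1.1 + ρ g p.2.1) ?_
    rintro ⟨⟨r, hr⟩, ⟨s, hs⟩⟩ ⟨⟨r', hr'⟩, ⟨s', hs'⟩⟩ e
    simp only at e
    have h2 : ρ g (s' - s) = r - r' := by
      rw [map_sub, sub_eq_sub_iff_add_eq_add, add_comm, ← e]
    have h3 := hg _ (R.sub_mem hs' hs) (h2 ▸ R.sub_mem hr hr')
    have h4 : s' = s := sub_eq_zero.1 h3
    subst h4
    have h5 : r = r' := add_right_cancel e
    subst h5
    rfl
  rw [Nat.card_prod, h.card_eq] at h1
  exact Nat.le_of_mul_le_mul_left h1 Nat.card_pos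

section Alg

variable {Z : Subgroup A}

theorem act_mem_alg {z : A} (hz : z ∈ Z) : ρ z ∈ alg ρ Z :=
  Subring.subset_closure ⟨z, hz, rfl⟩

theorem alg_comm (hZ : ∀ x ∈ Z, ∀ y ∈ Z, x * y = y * x) {x y : AddMonoid.End W}
    (hx : x ∈ alg ρ Z) (hy : y ∈ alg ρ Z) : x * y = y * x := by
  refine Set.centralizer_centralizer_comm_of_comm ?_ x (Subring.closure_le_centralizer_centralizer _ hx)
    y (Subring.closure_le_centralizer_centralizer _ hy)
  rintro _ ⟨a, ha, rfl⟩ _ ⟨b, hb, rfl⟩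
  rw [← map_mul, ← map_mul, hZ a ha b hb]

theorem conjEnd_mem_alg (hn : Z.Normal) (a : A) {x : AddMonoid.End W} (hx : x ∈ alg ρ Z) :
    conjEnd ρ a x ∈ alg ρ Z := by
  induction hx using Subring.closure_induction with
  | mem x hx =>
    obtain ⟨z, hz, rfl⟩ := hx
    rw [conjEnd, ← map_mul, ← map_mul]
    exact act_mem_alg (hn.conj_mem z hz a)
  | zero => simp [conjEnd]
  | one =>
    have : conjEnd ρ a (1 : AddMonoid.End W) = 1 := by
      rw [conjEnd, mul_one, ← map_mul, mul_inv_cancel, map_one]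
    rw [this]; exact one_mem _
  | add x y _ _ hx hy =>
    have : conjEnd ρ a (x + y) = conjEnd ρ a x + conjEnd ρ a y := by
      simp [conjEnd, mul_add, add_mul]
    rw [this]; exact add_mem hx hy
  | neg x _ hx =>
    have : conjEnd ρ a (-x) = -conjEnd ρ a x := by simp [conjEnd]
    rw [this]; exact neg_mem hx
  | mul x y _ _ hx hy => rw [conjEnd_mul]; exact mul_mem hx hy

theorem Data.commute_alg {a : A} (ha : ∀ z ∈ Z, a * z = z * a) {x : AddMonoid.End W}
    (hx : x ∈ alg ρ Z) : ρ a * x = x * ρ a := by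
  induction hx using Subring.closure_induction with
  | mem x hx =>
    obtain ⟨z, hz, rfl⟩ := hx
    rw [← map_mul, ← map_mul, ha z hz]
  | zero => simp
  | one => simp
  | add x y _ _ hx hy => rw [mul_add, add_mul, hx, hy]
  | neg x _ hx => rw [mul_neg, neg_mul, hx]
  | mul x y _ _ hx hy => rw [← mul_assoc, hx, mul_assoc, hy, mul_assoc]

theorem Data.add_pow_two_pow (h : Data ρ R V τ) {x y : AddMonoid.End W} (hxy : Commute x y) (j : ℕ) :
    (x + y) ^ 2 ^ j = x ^ 2 ^ j + y ^ 2 ^ j := by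
  induction j with
  | zero => simp
  | succ j ih =>
    rw [pow_succ, pow_mul, pow_mul, pow_mul, ih, sq, sq, sq]
    have hc : y ^ 2 ^ j * x ^ 2 ^ j = x ^ 2 ^ j * y ^ 2 ^ j := (hxy.pow_pow _ _).eq.symm
    rw [add_mul, mul_add, mul_add, hc]
    calc _ = x ^ 2 ^ j * x ^ 2 ^ j + y ^ 2 ^ j * y ^ 2 ^ j +
          (x ^ 2 ^ j * y ^ 2 ^ j + x ^ 2 ^ j * y ^ 2 ^ j) := by abel
      _ = _ := by rw [h.char_two, add_zero]

theorem Data.pow_eq (h : Data ρ R V τ) (hZ : ∀ x ∈ Z, ∀ y ∈ Z, x * y = y * x)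
    {x : AddMonoid.End W} (hx : x ∈ alg ρ Z) : x ^ 2 ^ Nat.totient (Nat.card A) = x := by
  induction hx using Subring.closure_induction with
  | mem x hx =>
    obtain ⟨z, hz, rfl⟩ := hx
    rw [← map_pow]
    congr 1
    have hk : 2 ^ Nat.totient (Nat.card A) ≡ 1 [MOD Nat.card A] :=
      Nat.ModEq.pow_totient h.odd.coprime_two_left
    calc z ^ 2 ^ Nat.totient (Nat.card A) = z ^ 1 :=
          pow_eq_pow_iff_modEq.2 (hk.of_dvd (orderOf_dvd_natCard z))
      _ = z := pow_one z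
  | zero => exact zero_pow (by positivity)
  | one => exact one_pow _
  | add x y hx' hy' hx hy => rw [h.add_pow_two_pow (alg_comm hZ hx' hy'), hx, hy]
  | neg x _ hx => rw [h.neg_eq, hx]
  | mul x y hx' hy' hx hy => rw [(show Commute x y from alg_comm hZ hx' hy').mul_pow, hx, hy]

/-- The primitive idempotents. -/
def prims (ρ : A →* AddMonoid.End W) (Z : Subgroup A) : Set (AddMonoid.End W) :=
  {e | e ∈ alg ρ Z ∧ e * e = e ∧ e ≠ 0 ∧ ∀ f ∈ alg ρ Z, f * f = f → e * f = 0 ∨ e * f = e}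

theorem exists_prim_le (hZ : ∀ x ∈ Z, ∀ y ∈ Z, x * y = y * x) {f : AddMonoid.End W}
    (hf : f ∈ alg ρ Z) (hff : f * f = f) (hf0 : f ≠ 0) : ∃ e ∈ prims ρ Z, e * f = e := by
  classical
  have := finite_end (W := W)
  let S : Set (AddMonoid.End W) := {e | e ∈ alg ρ Z ∧ e * e = e ∧ e ≠ 0 ∧ e * f = e}
  obtain ⟨e, he, hmin⟩ := Set.exists_min_image S (fun e => (Set.range e).ncard) (Set.toFinite S)
    ⟨f, hf, hff, hf0, hff⟩
  refine ⟨e, ⟨he.1, he.2.1, he.2.2.1, fun g hg hgg => ?_⟩, he.2.2.2⟩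
  by_cases h0 : e * g = 0
  · exact Or.inl h0
  right
  have hce : g * e = e * g := alg_comm hZ hg he.1
  have hid : e * g * (e * g) = e * g := by
    calc e * g * (e * g) = e * (g * e) * g := by simp only [mul_assoc]
      _ = e * e * (g * g) := by rw [hce]; simp only [mul_assoc]
      _ = e * g := by rw [he.2.1, hgg]
  have hmem : e * g ∈ S := ⟨mul_mem he.1 hg, hid, h0, by
    rw [mul_assoc, alg_comm hZ hg hf, ← mul_assoc, he.2.2.2]⟩
  have hsub : Set.range (e * g) ⊆ Set.range e := by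
    rintro _ ⟨w, rfl⟩; exact ⟨g w, rfl⟩
  have heq := Set.eq_of_subset_of_ncard_le hsub (hmin _ hmem) (Set.toFinite _)
  have hege : e * g * e = e * g := by rw [mul_assoc, hce, ← mul_assoc, he.2.1]
  ext w
  obtain ⟨x, hx⟩ : e w ∈ Set.range (e * g) := heq.ge ⟨w, rfl⟩
  calc (e * g) w = (e * g * e) w := by rw [hege]
    _ = (e * g) (e w) := rfl
    _ = (e * g * (e * g)) x := by rw [← hx]; rfl
    _ = e w := by rw [hid, hx]

theorem prim_orth (hZ : ∀ x ∈ Z, ∀ y ∈ Z, x * y = y * x) {e f : AddMonoid.End W}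
    (he : e ∈ prims ρ Z) (hf : f ∈ prims ρ Z) (hne : e ≠ f) : e * f = 0 := by
  rcases he.2.2.2 f hf.1 hf.2.1 with h1 | h1
  · exact h1
  rcases hf.2.2.2 e he.1 he.2.1 with h2 | h2
  · rw [alg_comm hZ he.1 hf.1, h2]
  · exact absurd (h1.symm.trans ((alg_comm hZ he.1 hf.1).trans h2)) hne

theorem conjEnd_prim (hn : Z.Normal) (a : A) {e : AddMonoid.End W} (he : e ∈ prims ρ Z) :
    conjEnd ρ a e ∈ prims ρ Z := by
  refine ⟨conjEnd_mem_alg hn a he.1, by rw [← conjEnd_mul, he.2.1], fun h0 => he.2.2.1 ?_, ?_⟩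
  · rw [← conjEnd_inv ρ a e, h0]; simp [conjEnd]
  intro f hf hff
  have h1 : conjEnd ρ a e * f = conjEnd ρ a (e * conjEnd ρ a⁻¹ f) := by
    rw [conjEnd_mul, conjEnd_inv']
  rcases he.2.2.2 _ (conjEnd_mem_alg hn a⁻¹ hf) (by rw [← conjEnd_mul, hff]) with h2 | h2
  · left; rw [h1, h2]; simp [conjEnd]
  · right; rw [h1, h2]

theorem Data.sum_prim (h : Data ρ R V τ) (hZ : ∀ x ∈ Z, ∀ y ∈ Z, x * y = y * x)
    (P : Finset (AddMonoid.End W)) (hP : ∀ e, e ∈ P ↔ e ∈ prims ρ Z) : ∑ e ∈ P, e = 1 := by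
  classical
  have hmem : ∑ e ∈ P, e ∈ alg ρ Z := sum_mem fun e he => ((hP e).1 he).1
  have hes : ∀ f ∈ P, f * ∑ e ∈ P, e = f := by
    intro f hf
    rw [Finset.mul_sum, Finset.sum_eq_single f]
    · exact ((hP f).1 hf).2.1
    · exact fun e he hne => prim_orth hZ ((hP f).1 hf) ((hP e).1 he) (Ne.symm hne)
    · exact fun h' => absurd hf h'
  have hss : (∑ e ∈ P, e) * ∑ e ∈ P, e = ∑ e ∈ P, e := by
    rw [Finset.sum_mul]; exact Finset.sum_congr rfl hes
  by_contra hne
  have h1 : (1 + ∑ e ∈ P, e : AddMonoid.End W) ≠ 0 := fun e0 => hne (by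
    rw [eq_neg_of_add_eq_zero_right e0, h.neg_eq])
  have hid : (1 + ∑ e ∈ P, e : AddMonoid.End W) * (1 + ∑ e ∈ P, e) = 1 + ∑ e ∈ P, e := by
    rw [add_mul, one_mul, mul_add, mul_one, hss, h.char_two, add_zero]
  obtain ⟨e, he, hee⟩ := exists_prim_le hZ (AddMemClass.add_mem (one_mem _) hmem) hid h1
  rw [mul_add, mul_one, hes e ((hP e).2 he), h.char_two] at hee
  exact he.2.2.1 hee.symm

end Alg

section Imprimitive

variable {Z : Subgroup A}

theorem Data.false_of_moved_block (h : Data ρ R V τ) (hn : Z.Normal)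
    (hZ : ∀ x ∈ Z, ∀ y ∈ Z, x * y = y * x) {e : AddMonoid.End W} (he : e ∈ prims ρ Z)
    (hτe : conjEnd ρ τ e ≠ e) : False := by
  classical
  have : Fintype A := Fintype.ofFinite A
  set e1 := conjEnd ρ τ e with he1def
  set e2 := conjEnd ρ τ e1 with he2def
  have he1 : e1 ∈ prims ρ Z := conjEnd_prim hn τ he
  have he2 : e2 ∈ prims ρ Z := conjEnd_prim hn τ he1
  have h21 : e2 ≠ e1 := fun e' => hτe (by
    have := congrArg (conjEnd ρ τ⁻¹) e'
    rwa [he2def, conjEnd_inv, he1def, conjEnd_inv] at this)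
  have h20 : e2 ≠ e := fun e' => hτe (conjEnd_of_sq ρ h.odd τ e (by rw [← conjEnd_comp]; exact e'))
  have hproj : ∀ {f f' : AddMonoid.End W}, f ∈ prims ρ Z → f' ∈ prims ρ Z → f ≠ f' →
      ∀ {w : W}, f' w = w → f w = 0 := by
    intro f f' hf hf' hne w hw
    rw [← hw]
    exact DFunLike.congr_fun (prim_orth hZ hf hf' hne) w
  have hblock : ∀ (a : A) {w : W}, e w = w → conjEnd ρ a e (ρ a w) = ρ a w := fun a w hw => by
    rw [conjEnd_apply, hw]
  have hne0 : ∀ (a : A) {w : W}, w ≠ 0 → ρ a w ≠ 0 := fun a w hw e0 => hw (by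
    rw [← act_inv_act ρ a w, e0, map_zero])
  have hτ2 : ∀ w : W, e w = w → e2 (ρ (τ * τ) w) = ρ (τ * τ) w := fun w hw => by
    have := hblock (τ * τ) hw
    rwa [← conjEnd_comp] at this
  have hτ1 : ∀ w : W, e w = w → e1 (ρ τ w) = ρ τ w := fun w hw => hblock τ hw
  -- a block holds one non-trivial vector
  have huniq : ∀ x y : W, e x = x → e y = y → x ≠ 0 → y ≠ 0 → x = y := by
    intro x y hx hy hx0 hy0
    by_contra hxy
    set v := ρ τ x + x + ρ τ (ρ τ y + y) with hv
    have hvV : v ∈ V := V.add_mem (h.add_mem_tau x) (h.mapV _ (h.add_mem_tau y))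
    have hxy0 : x + y ≠ 0 := fun e' => hxy (h.eq_of_add e')
    have hexy : e (x + y) = x + y := by rw [map_add, hx, hy]
    have hv' : v = x + ρ τ (x + y) + ρ (τ * τ) y := by
      rw [hv, act_mul, map_add (ρ τ), map_add (ρ τ)]
      abel
    have hA : e v = x := by
      rw [hv', map_add, map_add, hx, hproj he he1 (Ne.symm hτe) (hτ1 _ hexy),
        hproj he he2 (Ne.symm h20) (hτ2 _ hy), add_zero, add_zero]
    have hB : e1 v = ρ τ (x + y) := by
      rw [hv', map_add, map_add e1, hproj he1 he hτe hx, hτ1 _ hexy,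
        hproj he1 he2 (Ne.symm h21) (hτ2 _ hy), add_zero, zero_add]
    have hC : e2 v = ρ (τ * τ) y := by
      rw [hv', map_add, map_add e2, hproj he2 he h20 hx, hproj he2 he1 h21 (hτ1 _ hexy), hτ2 _ hy,
        zero_add, zero_add]
    have hv0 : v ≠ 0 := fun e' => hx0 (by rw [← hA, e', map_zero])
    have hs : ρ τ x + x ≠ 0 := fun e' => hx0 (by
      have := congrArg e e'
      rwa [map_add, map_zero, hproj he he1 (Ne.symm hτe) (hτ1 _ hx), hx, zero_add] at this)
    obtain ⟨i, hi⟩ := h.transitive (h.add_mem_tau x) hs hvV hv0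
    rw [map_add, ← act_mul] at hi
    have hzero : ∀ f ∈ prims ρ Z, f ≠ conjEnd ρ (τ ^ i * τ) e → f ≠ conjEnd ρ (τ ^ i) e →
        f v = 0 := fun f hf h1 h2 => by
      rw [← hi, map_add, hproj hf (conjEnd_prim hn _ he) h1 (hblock _ hx),
        hproj hf (conjEnd_prim hn _ he) h2 (hblock _ hx), add_zero]
    have k0 : e = conjEnd ρ (τ ^ i * τ) e ∨ e = conjEnd ρ (τ ^ i) e := by
      by_contra hc
      push Not at hc
      exact hx0 (hA ▸ hzero e he hc.1 hc.2)
    have k1 : e1 = conjEnd ρ (τ ^ i * τ) e ∨ e1 = conjEnd ρ (τ ^ i) e := by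
      by_contra hc
      push Not at hc
      exact hne0 τ hxy0 (hB ▸ hzero e1 he1 hc.1 hc.2)
    have k2 : e2 = conjEnd ρ (τ ^ i * τ) e ∨ e2 = conjEnd ρ (τ ^ i) e := by
      by_contra hc
      push Not at hc
      exact hne0 (τ * τ) hy0 (hC ▸ hzero e2 he2 hc.1 hc.2)
    rcases k0 with k0 | k0 <;> rcases k1 with k1 | k1 <;> rcases k2 with k2 | k2
    all_goals first
      | exact hτe (k1.trans k0.symm)
      | exact h20 (k2.trans k0.symm)
      | exact h21 (k2.trans k1.symm)
  obtain ⟨w, hw0, hw⟩ : ∃ w : W, w ≠ 0 ∧ e w = w := by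
    by_contra hc
    push Not at hc
    apply he.2.2.1
    ext x
    by_contra hx
    exact hc (e x) hx (DFunLike.congr_fun he.2.1 x)
  let S : W := ∑ a : A, ρ a w
  have hfix : ∀ b : A, ρ b S = S := fun b => by
    simp only [S, map_sum, ← act_mul]
    exact Equiv.sum_comp (Equiv.mulLeft b) fun a => ρ a w
  let H : Subgroup A :=
    { carrier := {a | conjEnd ρ a e = e}
      one_mem' := conjEnd_one ρ e
      mul_mem' := fun {a b} ha hb => by
        simp only [Set.mem_ofPred_eq] at ha hb ⊢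
        rw [← conjEnd_comp, hb, ha]
      inv_mem' := fun {a} ha => by
        simp only [Set.mem_ofPred_eq] at ha ⊢
        conv_lhs => rw [← ha]
        exact conjEnd_inv ρ a e }
  have heS : e S = w := by
    simp only [S, map_sum]
    rw [← Finset.sum_filter_add_sum_filter_not Finset.univ (fun a => a ∈ H)]
    have h1 : ∀ a ∈ Finset.univ.filter (fun a => a ∈ H), e (ρ a w) = w := fun a ha => by
      have ha' : conjEnd ρ a e = e := (Finset.mem_filter.1 ha).2
      have h2 : e (ρ a w) = ρ a w := by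
        have := hblock a hw
        rwa [ha'] at this
      rw [h2]
      exact huniq _ _ h2 hw (hne0 a hw0) hw0
    have h2 : ∀ a ∈ Finset.univ.filter (fun a => a ∉ H), e (ρ a w) = 0 := fun a ha =>
      hproj he (conjEnd_prim hn a he) (Ne.symm (Finset.mem_filter.1 ha).2) (hblock a hw)
    rw [Finset.sum_congr rfl h1, Finset.sum_eq_zero h2, Finset.sum_const, add_zero]
    obtain ⟨m, hm⟩ : Odd (Nat.card H) := h.odd.of_dvd_nat (Subgroup.card_subgroup_dvd_card H)
    rw [show (Finset.univ.filter fun a => a ∈ H).card = Nat.card H by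
      rw [Nat.card_eq_fintype_card, Fintype.card_subtype], hm, add_nsmul, one_nsmul, mul_comm,
      mul_nsmul', two_nsmul, h.two, nsmul_zero, zero_add]
  rcases h.irr (AddSubgroup.zmultiples S) (fun b x hx => by
    obtain ⟨m, rfl⟩ := AddSubgroup.mem_zmultiples_iff.1 hx
    rw [map_zsmul, hfix]
    exact AddSubgroup.zsmul_mem _ (AddSubgroup.mem_zmultiples S) m) with h0 | h0
  · rw [AddSubgroup.zmultiples_eq_bot] at h0
    exact hw0 (by rw [← heS, h0, map_zero])
  · have h1 := h.big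
    rw [← AddSubgroup.card_top (G := W), ← h0, Nat.card_zmultiples] at h1
    have h2 : addOrderOf S ≤ 2 :=
      addOrderOf_le_of_nsmul_eq_zero two_pos (by rw [two_nsmul, h.two])
    omega

theorem Data.exists_of_blocks (h : Data ρ R V τ) (hn : Z.Normal)
    (hZ : ∀ x ∈ Z, ∀ y ∈ Z, x * y = y * x)
    (hidem : ∃ f ∈ alg ρ Z, f * f = f ∧ f ≠ 0 ∧ f ≠ 1) (g : A) :
    ∃ r ∈ R, r ≠ 0 ∧ ρ g r ∈ R := by
  classical
  have := finite_end (W := W)
  have hfixP : ∀ e ∈ prims ρ Z, conjEnd ρ τ e = e := fun e he => by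
    by_contra hc
    exact h.false_of_moved_block hn hZ he hc
  have hcomm : ∀ e ∈ prims ρ Z, ∀ w, ρ τ (e w) = e (ρ τ w) := fun e he w => by
    rw [← conjEnd_apply, hfixP e he]
  let P := (Set.toFinite (prims ρ Z)).toFinset
  have hP : ∀ e, e ∈ P ↔ e ∈ prims ρ Z := fun e => Set.Finite.mem_toFinset _
  have hsum := h.sum_prim hZ P hP
  have hw : ∀ w : W, w = ∑ e ∈ P, e w := fun w => by
    have := congrArg (evalAt w) hsum
    rw [map_sum] at this
    exact this.symm
  obtain ⟨v, hv, hv0⟩ : ∃ v ∈ V, v ≠ 0 := by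
    by_contra hc
    push Not at hc
    have : V = ⊥ := (AddSubgroup.eq_bot_iff_forall _).2 hc
    have h4 := h.four
    rw [this, AddSubgroup.card_bot] at h4
    omega
  obtain ⟨e, heP, hev⟩ : ∃ e ∈ P, e v ≠ 0 := by
    by_contra hc
    push Not at hc
    exact hv0 ((hw v).trans (Finset.sum_eq_zero hc))
  have he := (hP e).1 heP
  have hmapV : ∀ f ∈ prims ρ Z, ∀ u ∈ V, f u ∈ V := by
    intro f hf u hu
    obtain ⟨x, -, hx⟩ := h.exists_add (i := 1) (by rw [pow_one]; exact h.tau_ne) hu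
    rw [pow_one] at hx
    rw [← hx, map_add, ← hcomm f hf]
    exact h.add_mem_tau _
  have hVe : ∀ u ∈ V, e u = u := by
    intro u hu
    by_cases hu0 : u = 0
    · rw [hu0, map_zero]
    obtain ⟨i, hi⟩ := h.transitive (hmapV e he v hv) hev hu hu0
    have hci : conjEnd ρ (τ ^ i) e = e := conjEnd_pow_fix ρ τ e (hfixP e he) i
    rw [← hi, show e (ρ (τ ^ i) (e v)) = conjEnd ρ (τ ^ i) e (ρ (τ ^ i) (e v)) by rw [hci],
      conjEnd_apply]
    exact congrArg _ (DFunLike.congr_fun he.2.1 v)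
  have hother : ∀ f ∈ prims ρ Z, f ≠ e → ∀ w, f w ∈ R := by
    intro f hf hfe w
    obtain ⟨r, hr, u, hu, rfl⟩ := h.decomp w
    rw [map_add, show f u = 0 by
      rw [← hVe u hu]; exact DFunLike.congr_fun (prim_orth hZ hf he hfe) u, add_zero]
    apply h.mem_of_fix_tau
    rw [hcomm f hf, h.fixR r hr]
  -- there are at least three blocks
  obtain ⟨f, hf, hfe, hfg⟩ : ∃ f ∈ prims ρ Z, f ≠ e ∧ conjEnd ρ g f ≠ e := by
    by_contra hc
    push Not at hc
    set e' := conjEnd ρ g⁻¹ e with he'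
    have hall : ∀ f ∈ prims ρ Z, f = e ∨ f = e' := fun f hf => by
      by_cases hfe : f = e
      · exact Or.inl hfe
      · exact Or.inr (by rw [he', ← hc f hf hfe, conjEnd_inv])
    obtain ⟨f0, hf0, hff, hfne, hf1⟩ := hidem
    have hne : e' ≠ e := by
      intro hee
      have hone : ∀ f ∈ prims ρ Z, f = e := fun f hf => (hall f hf).elim id (fun h' => h'.trans hee)
      have h1 : e = 1 := by
        rw [← hsum, Finset.sum_eq_single e (fun f hf hne => absurd (hone f ((hP f).1 hf)) hne)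
          (fun h' => absurd heP h')]
      rcases he.2.2.2 f0 hf0 hff with h2 | h2
      · exact hfne (by rwa [h1, one_mul] at h2)
      · exact hf1 (by rwa [h1, one_mul] at h2)
    have he'P : e' ∈ prims ρ Z := conjEnd_prim hn _ he
    have hstab : ∀ a : A, conjEnd ρ a e = e := by
      intro a
      rcases hall _ (conjEnd_prim hn a he) with h1 | h1
      · exact h1
      refine conjEnd_of_sq ρ h.odd a e ?_
      rw [← conjEnd_comp, h1]
      rcases hall _ (conjEnd_prim hn a he'P) with h2 | h2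
      · exact h2
      · exfalso
        apply hne
        have := congrArg (conjEnd ρ a⁻¹) (h2.trans h1.symm)
        rwa [conjEnd_inv, conjEnd_inv] at this
    exact hne (hstab g⁻¹)
  obtain ⟨w, hfw⟩ : ∃ w, f w ≠ 0 := by
    by_contra hc
    push Not at hc
    exact hf.2.2.1 (AddMonoidHom.ext hc)
  refine ⟨f w, hother f hf hfe w, hfw, ?_⟩
  rw [← conjEnd_apply]
  exact hother _ (conjEnd_prim hn g hf) hfg _

end Imprimitive

/-- An automorphism of the ring generated by a normal subgroup. -/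
def algAut (ρ : A →* AddMonoid.End W) {Z : Subgroup A} (hn : Z.Normal) :
    A →* RingAut (alg ρ Z) where
  toFun a :=
    { toFun := fun x => ⟨conjEnd ρ a x.1, conjEnd_mem_alg hn a x.2⟩
      invFun := fun x => ⟨conjEnd ρ a⁻¹ x.1, conjEnd_mem_alg hn a⁻¹ x.2⟩
      left_inv := fun x => Subtype.ext (conjEnd_inv ρ a x.1)
      right_inv := fun x => Subtype.ext (conjEnd_inv' ρ a x.1)
      map_mul' := fun x y => Subtype.ext (conjEnd_mul ρ a x.1 y.1)
      map_add' := fun x y => Subtype.ext (by simp [conjEnd, mul_add, add_mul]) }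
  map_one' := by
    ext x : 1
    exact Subtype.ext (conjEnd_one ρ x.1)
  map_mul' a b := by
    ext x : 1
    exact Subtype.ext (conjEnd_comp ρ a b x.1).symm

section Field

variable {Z : Subgroup A}

theorem Data.isField (h : Data ρ R V τ) (hZ : ∀ x ∈ Z, ∀ y ∈ Z, x * y = y * x)
    (hidem : ∀ f ∈ alg ρ Z, f * f = f → f = 0 ∨ f = 1) : IsField (alg ρ Z) := by
  have : Nontrivial W := Finite.one_lt_card_iff_nontrivial.1 (by have := h.big; omega)
  obtain ⟨w, hw⟩ := exists_ne (0 : W)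
  refine ⟨⟨0, 1, fun e => hw ?_⟩, fun x y => Subtype.ext (alg_comm hZ x.2 y.2), fun {x} hx => ?_⟩
  · exact (DFunLike.congr_fun (congrArg Subtype.val e) w).symm
  have hk : 2 ≤ 2 ^ Nat.totient (Nat.card A) :=
    le_trans (by norm_num) (Nat.pow_le_pow_right two_pos (Nat.totient_pos.2 Nat.card_pos))
  obtain ⟨m, hm⟩ : ∃ m, 2 ^ Nat.totient (Nat.card A) = m + 2 := ⟨_, (Nat.sub_add_cancel hk).symm⟩
  have hp : x.1 ^ (m + 2) = x.1 := hm ▸ h.pow_eq hZ x.2
  have hid : x.1 ^ (m + 1) * x.1 ^ (m + 1) = x.1 ^ (m + 1) := by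
    rw [← pow_add, show m + 1 + (m + 1) = m + 2 + m by omega, pow_add, hp, ← pow_succ']
  rcases hidem _ (pow_mem x.2 _) hid with h0 | h0
  · exfalso
    apply hx
    apply Subtype.ext
    rw [← hp, pow_succ, h0, zero_mul]
    rfl
  · exact ⟨x ^ m, Subtype.ext (by rw [Subring.coe_mul, SubmonoidClass.coe_pow, ← pow_succ', h0]; rfl)⟩

/-- In the primitive case the torus centralizes the ring. -/
theorem Data.commute_of_isField (h : Data ρ R V τ) (hn : Z.Normal)
    (hF : IsField (alg ρ Z)) (hle : Nat.card R ≤ Nat.card V) {x : AddMonoid.End W}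
    (hx : x ∈ alg ρ Z) : conjEnd ρ τ x = x := by
  classical
  have := finite_end (W := W)
  letI : Field (alg ρ Z) := hF.toField
  obtain ⟨r, hr, hr0⟩ : ∃ r ∈ R, r ≠ 0 := by
    by_contra hc
    push Not at hc
    exact h.ne_bot ((AddSubgroup.eq_bot_iff_forall _).2 hc)
  by_cases hex : ∃ i : ℕ, τ ^ i ≠ 1 ∧ ∀ e ∈ alg ρ Z, conjEnd ρ (τ ^ i) e = e
  · obtain ⟨i, hi, hc⟩ := hex
    have hRR : ∀ e ∈ alg ρ Z, ∀ s ∈ R, e s ∈ R := fun e he s hs => by
      apply h.mem_of_fix hi
      rw [← conjEnd_apply, hc e he, h.pow_fixR i hs]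
    have key : conjEnd ρ τ x r = x r := by
      have := conjEnd_apply ρ τ x r
      rwa [h.fixR r hr, h.fixR _ (hRR x hx r hr)] at this
    by_contra hne
    let y : alg ρ Z := ⟨conjEnd ρ τ x - x, sub_mem (conjEnd_mem_alg hn τ hx) hx⟩
    have hy : y ≠ 0 := fun e0 => hne (sub_eq_zero.1 (congrArg Subtype.val e0))
    apply hr0
    calc r = (y⁻¹ * y : alg ρ Z).1 r := by rw [inv_mul_cancel₀ hy]; rfl
      _ = (y⁻¹).1 (conjEnd ρ τ x r - x r) := rfl
      _ = 0 := by rw [key, sub_self, map_zero]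
  · exfalso
    push Not at hex
    have : CharP (alg ρ Z) 2 := CharTwo.of_one_ne_zero_of_two_eq_zero one_ne_zero
      (by rw [← one_add_one_eq_two]; exact Subtype.ext (h.char_two 1))
    letI : Algebra (ZMod 2) (alg ρ Z) := ZMod.algebra _ 2
    let ψ : A →* ((alg ρ Z) ≃ₐ[ZMod 2] (alg ρ Z)) :=
      { toFun := fun a => AlgEquiv.ofRingEquiv (f := algAut ρ hn a) (fun c =>
          RingHom.congr_fun (RingHom.ext_zmod ((algAut ρ hn a).toRingHom.comp
            (algebraMap (ZMod 2) (alg ρ Z))) (algebraMap (ZMod 2) (alg ρ Z))) c)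
        map_one' := by
          ext y : 1
          exact DFunLike.congr_fun (map_one (algAut ρ hn)) y
        map_mul' := fun a b => by
          ext y : 1
          exact DFunLike.congr_fun (map_mul (algAut ρ hn) a b) y }
    have hinj : Function.Injective (ψ.comp (Subgroup.zpowers τ).subtype) := by
      rw [injective_iff_map_eq_one]
      rintro ⟨a, ha⟩ ha1
      obtain ⟨i, hi⟩ := mem_powers_iff_mem_zpowers.2 ha
      apply Subtype.ext
      by_contra hne
      obtain ⟨e, he, hne'⟩ := hex i (by rwa [show τ ^ i = a from hi])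
      apply hne'
      rw [show τ ^ i = a from hi]
      exact congrArg Subtype.val (DFunLike.congr_fun ha1 (⟨e, he⟩ : alg ρ Z))
    have hdvd := Subgroup.card_dvd_of_injective _ hinj
    rw [Nat.card_zpowers, IsGalois.card_aut_eq_finrank] at hdvd
    set d := Module.finrank (ZMod 2) (alg ρ Z) with hd
    have hq : Nat.card (alg ρ Z) = 2 ^ d := by
      rw [Module.natCard_eq_pow_finrank (K := ZMod 2), Nat.card_zmod]
    have hW : Nat.card W = 2 ^ (d * Module.finrank (alg ρ Z) W) := by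
      rw [Module.natCard_eq_pow_finrank (K := alg ρ Z), hq, ← pow_mul]
    obtain ⟨a, ha, hVa⟩ := (Nat.dvd_prime_pow Nat.prime_two).1
      (hW ▸ AddSubgroup.card_addSubgroup_dvd_card V)
    have hd0 : 0 < d := Module.finrank_pos
    have hup : d * Module.finrank (alg ρ Z) W ≤ 2 * a := by
      rw [← Nat.pow_le_pow_iff_right (show 1 < 2 by norm_num), ← hW, h.card_eq, two_mul, pow_add,
        ← hVa]
      exact Nat.mul_le_mul_right _ hle
    have hlo : 4 ≤ d * Module.finrank (alg ρ Z) W := by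
      rw [← Nat.pow_le_pow_iff_right (show 1 < 2 by norm_num), ← hW]
      exact h.big
    have h4 := h.four
    have hord := h.ord
    rw [hVa] at h4 hord
    have ha2 : 2 ≤ a := by
      by_contra hc
      interval_cases a <;> norm_num at h4
    have hda : 2 ^ a ≤ d + 1 := by have := Nat.le_of_dvd hd0 hdvd; omega
    have hdle : d ≤ 2 * a :=
      le_trans (Nat.le_mul_of_pos_right d (Nat.pos_of_mul_pos_left (by omega : 0 < d * _))) hup
    have ha3 : a = 2 := by
      by_contra hc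
      have : ∀ b, 3 ≤ b → 2 * b + 2 ≤ 2 ^ b := fun b hb => by
        induction b, hb using Nat.le_induction with
        | base => norm_num
        | succ b hb ih => rw [pow_succ]; omega
      have := this a (by omega)
      omega
    subst ha3
    have h3 : orderOf τ = 3 := by norm_num at hord; omega
    rw [h3] at hdvd
    have h34 : 3 ∣ 4 := by
      rw [show (4 : ℕ) = d * Module.finrank (alg ρ Z) W by omega]
      exact dvd_mul_of_dvd_left hdvd _
    norm_num at h34

/-- The counts of the primitive case. -/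
theorem bound_cases {q u N z : ℕ} (hq : 4 ≤ q) (hu : 0 < u) (hN : N ≤ 4 * u ^ 2)
    (hcount : q ^ u ≤ (N - 1) * z + 1) (hz : z ≤ q - 1) : u ≤ 3 := by
  by_contra hc
  have h1 : ∀ b, 3 ≤ b → 4 * (b + 1) ^ 2 ≤ 4 ^ b := fun b hb => by
    induction b, hb using Nat.le_induction with
    | base => norm_num
    | succ b hb ih =>
      rw [pow_succ 4]
      calc 4 * (b + 1 + 1) ^ 2 ≤ 4 * (b + 1) ^ 2 * 4 := by nlinarith
        _ ≤ 4 ^ b * 4 := Nat.mul_le_mul_right 4 ih
  obtain ⟨b, rfl⟩ : ∃ b, u = b + 1 := ⟨u - 1, by omega⟩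
  have h2 := h1 b (by omega)
  have h3 : 4 ^ b ≤ q ^ b := Nat.pow_le_pow_left hq b
  have h5 : 0 < q ^ b := pow_pos (by omega) b
  have h4 : (N - 1) * z ≤ q ^ b * (q - 1) := Nat.mul_le_mul (by omega) hz
  have h6 : q ^ (b + 1) = q ^ b * (q - 1) + q ^ b := by
    rw [pow_succ, ← Nat.mul_succ]; congr 1; omega
  have h7 : 2 ≤ q ^ b := le_trans (by norm_num) (h2.trans h3 |>.trans' (by nlinarith : 4 ≤ 4 * (b + 1) ^ 2))
  omega

/-- The primitive case with a centralizing torus. -/
theorem Data.false_of_isField (h : Data ρ R V τ) (hn : Z.Normal)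
    (hmax : ∀ Y : Subgroup A, Y.Normal → Z ≤ Y → (∀ x ∈ Y, ∀ y ∈ Y, x * y = y * x) → Y = Z)
    (hZ : ∀ x ∈ Z, ∀ y ∈ Z, x * y = y * x) (hZ1 : Z ≠ ⊥)
    (hF : IsField (alg ρ Z)) (hle : Nat.card R ≤ Nat.card V)
    (hτc : ∀ x ∈ alg ρ Z, conjEnd ρ τ x = x) : False := by
  classical
  have := finite_end (W := W)
  letI : Field (alg ρ Z) := hF.toField
  have hsmul : ∀ (x : alg ρ Z) (w : W), x • w = x.1 w := fun _ _ => rfl
  obtain ⟨r₀, hr₀, hr₀0⟩ : ∃ r ∈ R, r ≠ 0 := by
    by_contra hc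
    push Not at hc
    exact h.ne_bot ((AddSubgroup.eq_bot_iff_forall _).2 hc)
  have hτe : ∀ x ∈ alg ρ Z, ∀ w, ρ τ (x w) = x (ρ τ w) := fun x hx w => by
    rw [← conjEnd_apply, hτc x hx]
  -- submodules
  let Rs : Submodule (alg ρ Z) W :=
    { carrier := R
      add_mem' := R.add_mem
      zero_mem' := R.zero_mem
      smul_mem' := fun x w hw => h.mem_of_fix_tau (by rw [hsmul, hτe _ x.2, h.fixR w hw]) }
  let Vs : Submodule (alg ρ Z) W :=
    { carrier := V
      add_mem' := V.add_mem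
      zero_mem' := V.zero_mem
      smul_mem' := fun x w hw => by
        obtain ⟨y, -, hy⟩ := h.exists_add (i := 1) (by rw [pow_one]; exact h.tau_ne) hw
        rw [pow_one] at hy
        rw [hsmul, ← hy, map_add, ← hτe _ x.2]
        exact h.add_mem_tau _ }
  set q := Nat.card (alg ρ Z) with hqdef
  set u := Module.finrank (alg ρ Z) Vs with hudef
  set m := Module.finrank (alg ρ Z) W with hmdef
  have hVq : Nat.card V = q ^ u := by
    rw [hqdef, hudef, ← Module.natCard_eq_pow_finrank]; rfl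
  have hWq : Nat.card W = q ^ m := Module.natCard_eq_pow_finrank
  have hq2 : 1 < q := Finite.one_lt_card_iff_nontrivial.2 inferInstance
  have hu : 0 < u := by
    rcases Nat.eq_zero_or_pos u with h0 | h0
    · have h4 := h.four
      rw [hVq, h0, pow_zero] at h4
      omega
    · exact h0
  have hm : m ≤ 2 * u := by
    rw [← Nat.pow_le_pow_iff_right hq2, ← hWq, h.card_eq, two_mul, pow_add, ← hVq]
    exact Nat.mul_le_mul_right _ hle
  -- the units
  let ι : Z →* (alg ρ Z)ˣ := MonoidHom.toHomUnits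
    { toFun := fun z => ⟨ρ z.1, act_mem_alg z.2⟩
      map_one' := Subtype.ext (map_one ρ)
      map_mul' := fun a b => Subtype.ext (map_mul ρ a.1 b.1) }
  have hι : Function.Injective ι := fun a b e =>
    Subtype.ext (h.inj (congrArg (fun y : (alg ρ Z)ˣ => (y : alg ρ Z).1) e))
  have hzq : Nat.card Z ∣ q - 1 := by
    rw [hqdef, ← Nat.card_units]
    exact Subgroup.card_dvd_of_injective ι hι
  have hzodd : Odd (Nat.card Z) := h.odd.of_dvd_nat (Subgroup.card_subgroup_dvd_card Z)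
  have hz1 : 1 < Nat.card Z := (Subgroup.one_lt_card_iff_ne_bot Z).2 hZ1
  have hzle : Nat.card Z ≤ q - 1 := Nat.le_of_dvd (by omega) hzq
  have hz3 : 3 ≤ Nat.card Z := by obtain ⟨k, hk⟩ := hzodd; omega
  have hq4 : 4 ≤ q := by omega
  -- an element of `Z` fixing a nonzero vector is trivial
  have hfree : ∀ z ∈ Z, ∀ w : W, w ≠ 0 → ρ z w = w → z = 1 := by
    intro z hz w hw e
    let y : alg ρ Z := ⟨ρ z, act_mem_alg hz⟩ - 1
    by_cases hy : y = 0
    · apply h.inj
      rw [map_one]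
      exact congrArg Subtype.val (sub_eq_zero.1 hy)
    · exfalso
      apply hw
      calc w = (y⁻¹ * y : alg ρ Z).1 w := by rw [inv_mul_cancel₀ hy]; rfl
        _ = (y⁻¹).1 (ρ z w - w) := rfl
        _ = 0 := by rw [e, sub_self, map_zero]
  set C : Subgroup A := Subgroup.centralizer (Z : Set A) with hC
  have hCn : C.Normal := by have := hn; rw [hC]; infer_instance
  have hτC : τ ∈ C := fun z hz => h.inj (by
    rw [map_mul, map_mul]
    ext w
    exact (hτe _ (act_mem_alg hz) w).symm)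
  have hτZ : τ ∉ Z := fun hmem => h.tau_ne (hfree τ hmem r₀ hr₀0 (h.fixR r₀ hr₀))
  have hZC : Z ≤ C := fun z hz z' hz' => hZ z' hz' z hz
  -- a maximal subgroup of class two
  let Good : Subgroup A → Prop := fun Y =>
    Y.Normal ∧ Z ≤ Y ∧ Y ≤ C ∧ ∀ x ∈ Y, ∀ y ∈ Y, ⁅x, y⁆ ∈ Z
  obtain ⟨Q, hQ⟩ := (Set.toFinite {Y | Good Y}).exists_maximal ⟨Z, hn, le_rfl, hZC, fun x hx y hy => by
    rw [commutatorElement_eq_one_iff_mul_comm.2 (hZ x hx y hy)]; exact Z.one_mem⟩
  obtain ⟨hQn, hZQ, hQC, hQQ⟩ := hQ.prop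
  have hcQ : Q ⊓ Subgroup.centralizer (Q : Set A) = Z := by
    have := hQn
    refine hmax _ inferInstance (le_inf hZQ fun z hz x hx => ?_) fun x hx y hy => ?_
    · exact ((hQC hx) z hz).symm
    · exact (hx.2 y hy.1).symm
  have hself : C ⊓ Subgroup.centralizer (Q : Set A) ≤ Z := by
    have := hQn
    have := hCn
    set D : Subgroup A := C ⊓ Subgroup.centralizer (Q : Set A) with hD
    have hDn : D.Normal := inferInstance
    by_contra hnot
    obtain ⟨k, hk⟩ := (Group.isSolvable_def A).1 (CfsgLib.FT.isSolvable_of_odd A h.odd)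
    have hex : ∃ j, D ⊓ derivedSeries A j ≤ Z := ⟨k, by rw [hk, inf_bot_eq]; exact bot_le⟩
    have hj0 : Nat.find hex ≠ 0 := fun e => hnot (by
      have := Nat.find_spec hex
      rwa [e, derivedSeries_zero, inf_top_eq] at this)
    set D' := D ⊓ derivedSeries A (Nat.find hex - 1) with hD'
    have hD'n : D'.Normal := by
      have := derivedSeries_normal A (Nat.find hex - 1)
      infer_instance
    have hD'D : ∀ x ∈ D', ∀ y ∈ D', ⁅x, y⁆ ∈ Z := fun x hx y hy => by
      apply Nat.find_spec hex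
      refine ⟨?_, ?_⟩
      · rw [commutatorElement_def]
        exact D.mul_mem (D.mul_mem (D.mul_mem hx.1 hy.1) (D.inv_mem hx.1)) (D.inv_mem hy.1)
      · rw [show Nat.find hex = Nat.find hex - 1 + 1 by omega, derivedSeries_succ]
        exact Subgroup.commutator_mem_commutator hx.2 hy.2
    have hle' : Q ⊔ D' ≤ Q := by
      refine hQ.le_of_ge ⟨inferInstance, hZQ.trans le_sup_left,
        sup_le hQC (inf_le_left.trans inf_le_left), ?_⟩ le_sup_left
      have := hn
      intro x hx y hy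
      rw [← QuotientGroup.eq_one_iff, ← QuotientGroup.mk'_apply, map_commutatorElement,
        commutatorElement_eq_one_iff_mul_comm]
      have hc : (Q ⊔ D').map (QuotientGroup.mk' Z) ≤
          Subgroup.centralizer (((Q ⊔ D').map (QuotientGroup.mk' Z) : Subgroup _) : Set (A ⧸ Z)) := by
        have key : ∀ {X Y : Subgroup A}, (∀ a ∈ X, ∀ b ∈ Y, ⁅a, b⁆ ∈ Z) →
            X.map (QuotientGroup.mk' Z) ≤ Subgroup.centralizer
              ((Y.map (QuotientGroup.mk' Z) : Subgroup _) : Set (A ⧸ Z)) := by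
          rintro X Y hXY _ ⟨a, ha, rfl⟩ _ ⟨b, hb, rfl⟩
          refine (commutatorElement_eq_one_iff_mul_comm.1 ?_).symm
          rw [← map_commutatorElement, QuotientGroup.mk'_apply, QuotientGroup.eq_one_iff]
          exact hXY a ha b hb
        have hQD : ∀ a ∈ Q, ∀ b ∈ D', ⁅a, b⁆ ∈ Z := fun a ha b hb => by
          rw [commutatorElement_eq_one_iff_mul_comm.2 (hb.1.2 a ha)]; exact Z.one_mem
        have hDQ : ∀ a ∈ D', ∀ b ∈ Q, ⁅a, b⁆ ∈ Z := fun a ha b hb => by
          rw [commutatorElement_eq_one_iff_mul_comm.2 (ha.1.2 b hb).symm]; exact Z.one_mem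
        rw [Subgroup.map_sup, Subgroup.le_centralizer_iff]
        refine sup_le ?_ ?_ <;> rw [Subgroup.le_centralizer_iff] <;> refine sup_le ?_ ?_
        · exact key hQQ
        · exact key hDQ
        · exact key hQD
        · exact key hD'D
      exact (hc (Subgroup.mem_map_of_mem _ hx) _ (Subgroup.mem_map_of_mem _ hy)).symm
    have hD'Z : D' ≤ Z := fun x hx =>
      hcQ ▸ (⟨hle' (Subgroup.mem_sup_right hx), hx.1.2⟩ : x ∈ Q ⊓ Subgroup.centralizer (Q : Set A))
    exact Nat.find_min hex (by omega) hD'Z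
  -- an element of `Q` moving `R`
  obtain ⟨x, hxQ, hxR⟩ : ∃ x ∈ Q, ∃ r ∈ R, ρ x r ∉ R := by
    by_contra hc
    push Not at hc
    apply hτZ
    refine hself ⟨hτC, fun x hx => ?_⟩
    set y := ⁅τ, x⁆ with hy
    have hyQ : y ∈ Q := by
      rw [hy, commutatorElement_def]
      exact Q.mul_mem (hQn.conj_mem x hx τ) (Q.inv_mem hx)
    have hyfix : ∀ r ∈ R, ρ y r = r := fun r hr => by
      have h1 : ρ x⁻¹ r ∈ R := hc x⁻¹ (Q.inv_mem hx) r hr
      have h2 : ρ τ⁻¹ (ρ x⁻¹ r) = ρ x⁻¹ r := by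
        conv_lhs => rw [← h.fixR _ h1]
        exact act_inv_act ρ τ _
      rw [hy, commutatorElement_def, act_mul, act_mul, act_mul, h2, act_act_inv, h.fixR r hr]
    have hyc : y ∈ Q ⊓ Subgroup.centralizer (Q : Set A) := by
      refine ⟨hyQ, fun w hw => ?_⟩
      have h0 : ρ ⁅w, y⁆ r₀ = r₀ := by
        have h1 : ρ w⁻¹ (ρ y⁻¹ r₀) ∈ R := by
          have : ρ y⁻¹ r₀ = r₀ := by
            conv_lhs => rw [← hyfix r₀ hr₀]
            exact act_inv_act ρ y _
          rw [this]
          exact hc _ (Q.inv_mem hw) r₀ hr₀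
        rw [commutatorElement_def, act_mul, act_mul, act_mul, hyfix _ h1, act_act_inv]
        conv_lhs => rw [← hyfix r₀ hr₀]
        exact act_inv_act ρ y _
      exact commutatorElement_eq_one_iff_mul_comm.1 (hfree _ (hQQ w hw y hyQ) r₀ hr₀0 h0)
    rw [hcQ] at hyc
    have hy1 : y = 1 := hfree y hyc r₀ hr₀0 (hyfix r₀ hr₀)
    exact (commutatorElement_eq_one_iff_mul_comm.1 hy1).symm
  have hxZ : x ∉ Z := fun hx => by
    obtain ⟨r, hr, hnot⟩ := hxR
    exact hnot (Rs.smul_mem (⟨ρ x, act_mem_alg hx⟩ : alg ρ Z) hr)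
  -- only scalars of the torus normalize the class of `x`
  have hscal : ∀ (i : ℕ) (z : A), z ∈ Z → τ ^ i * x = z * (x * τ ^ i) →
      ∃ v ∈ V, v ≠ 0 ∧ ρ (τ ^ i) v = ρ z v := by
    intro i z hz e
    obtain ⟨r, hr, hnot⟩ := hxR
    obtain ⟨r', hr', v, hv, hrv⟩ := h.decomp (ρ x r)
    refine ⟨v, hv, fun e0 => hnot (by rw [← hrv, e0, add_zero]; exact hr'), ?_⟩
    have h1 := congrArg (fun a => ρ a r) e
    simp only [act_mul, h.pow_fixR i hr, ← hrv, map_add, h.pow_fixR i hr'] at h1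
    have h2 : r' - ρ z r' = ρ z v - ρ (τ ^ i) v := by
      rw [sub_eq_sub_iff_add_eq_add, h1]; abel
    have hzr : ρ z r' ∈ R := Rs.smul_mem (⟨ρ z, act_mem_alg hz⟩ : alg ρ Z) hr'
    have hzv : ρ z v ∈ V := Vs.smul_mem (⟨ρ z, act_mem_alg hz⟩ : alg ρ Z) hv
    exact (sub_eq_zero.1 (h.eq_zero (h2 ▸ R.sub_mem hr' hzr)
      (V.sub_mem hzv (h.pow_mapV i hv)))).symm
  have hinjx : ∀ i : ℕ, τ ^ i * x = x * τ ^ i → τ ^ i = 1 := fun i e => by
    obtain ⟨v, hv, hv0, hiv⟩ := hscal i 1 Z.one_mem (by rw [one_mul, e])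
    exact h.reg v hv hv0 i (by rw [hiv, act_one])
  -- the quotient
  let K : Subgroup Q := Z.subgroupOf Q
  have hKn : K.Normal := by have := hn; infer_instance
  set N := Nat.card (Q ⧸ K) with hNdef
  have hQcard : Nat.card Q = N * Nat.card Z := by
    rw [Subgroup.card_eq_card_quotient_mul_card_subgroup K,
      Nat.card_congr (Subgroup.subgroupOfEquivOfLe hZQ).toEquiv]
  have hNodd : Odd N := (h.odd.of_dvd_nat (Subgroup.card_subgroup_dvd_card Q)).of_dvd_nat
    (hQcard ▸ Dvd.intro _ rfl)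
  -- commutator characters
  let φ : Q ⧸ K → (Q →* alg ρ Z) := fun c =>
    { toFun := fun y => ⟨ρ ⁅(y : A), ((Quotient.out c : Q) : A)⁆,
        act_mem_alg (hQQ _ y.2 _ (Quotient.out c).2)⟩
      map_one' := Subtype.ext (by simp)
      map_mul' := fun y y' => by
        have hy' := hQQ _ y'.2 _ (Quotient.out c).2
        apply Subtype.ext
        show ρ _ = ρ _ * ρ _
        rw [← map_mul]
        congr 1
        rw [hZ _ (hQQ _ y.2 _ (Quotient.out c).2) _ hy', Subgroup.coe_mul,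
          show ⁅(y : A) * y', ((Quotient.out c : Q) : A)⁆ =
            y * ⁅(y' : A), ((Quotient.out c : Q) : A)⁆ * (y : A)⁻¹ *
              ⁅(y : A), ((Quotient.out c : Q) : A)⁆ by
            simp only [commutatorElement_def]; group,
          ← (hQC y.2) _ hy', mul_inv_cancel_right] }
  have hφ : Function.Injective φ := by
    intro c c' e
    rw [← Quotient.out_eq c, ← Quotient.out_eq c']
    refine QuotientGroup.eq.2 ?_
    show ((Quotient.out c : Q) : A)⁻¹ * ((Quotient.out c' : Q) : A) ∈ Z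
    set s := ((Quotient.out c : Q) : A)
    set s' := ((Quotient.out c' : Q) : A)
    rw [← hcQ]
    refine ⟨Q.mul_mem (Q.inv_mem (Quotient.out c).2) (Quotient.out c').2, fun y hy => ?_⟩
    have e1 : ⁅y, s⁆ = ⁅y, s'⁆ :=
      h.inj (congrArg Subtype.val (DFunLike.congr_fun e ⟨y, hy⟩))
    rw [← commutatorElement_eq_one_iff_mul_comm,
      show ⁅y, s⁻¹ * s'⁆ = s⁻¹ * ((⁅y, s⁆)⁻¹ * ⁅y, s'⁆) * s by
        simp only [commutatorElement_def]; group, e1]
    group
  let L : Q → Module.End (alg ρ Z) W := fun y =>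
    { toFun := fun w => ρ y.1 w
      map_add' := fun a b => map_add _ a b
      map_smul' := fun e w => DFunLike.congr_fun
        (Data.commute_alg (fun z hz => ((hQC y.2) z hz).symm) e.2) w }
  have hind : LinearIndependent (alg ρ Z) fun c : Q ⧸ K => L (Quotient.out c) := by
    haveI : Fintype (Q ⧸ K) := Fintype.ofFinite _
    rw [Fintype.linearIndependent_iff]
    intro c hc i
    have hy : ∀ y : Q, ∑ j, (c j * φ j y) • L (Quotient.out j) = 0 := by
      intro y
      refine LinearMap.ext fun w => ?_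
      have h1 := congrArg (fun f => ρ y.1 (f (ρ (y.1)⁻¹ w))) hc
      simp only [LinearMap.coe_sum, Finset.sum_apply, LinearMap.smul_apply, map_sum,
        LinearMap.zero_apply, map_zero] at h1 ⊢
      rw [← h1]
      refine Finset.sum_congr rfl fun j _ => ?_
      rw [show ρ y.1 (c j • L (Quotient.out j) (ρ (y.1)⁻¹ w)) =
        c j • ρ y.1 (L (Quotient.out j) (ρ (y.1)⁻¹ w)) from map_smul (L y) _ _, mul_smul]
      congr 1
      show ρ ⁅(y : A), _⁆ (ρ _ w) = ρ y.1 (ρ _ (ρ (y.1)⁻¹ w))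
      rw [← act_mul, ← act_mul, ← act_mul, commutatorElement_def]
      congr 2
      group
    by_contra hci
    have hdual : ∀ f : Module.Dual (alg ρ Z) (Module.End (alg ρ Z) W),
        f (L (Quotient.out i)) = 0 := by
      intro f
      have hmon := Fintype.linearIndependent_iff.1
        ((linearIndependent_monoidHom Q (alg ρ Z)).comp φ hφ) (fun j => c j * f (L (Quotient.out j)))
        (funext fun y => by
          have := congrArg f (hy y)
          rw [map_sum, map_zero] at this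
          simp only [Finset.sum_apply, Pi.smul_apply, Function.comp_apply, smul_eq_mul,
            Pi.zero_apply]
          rw [← this]
          refine Finset.sum_congr rfl fun j _ => ?_
          rw [map_smul, smul_eq_mul]
          ring) i
      exact (mul_eq_zero.1 hmon).resolve_left hci
    have h0 := (Module.forall_dual_apply_eq_zero_iff (alg ρ Z) _).1 hdual
    apply hr₀0
    rw [← act_inv_act ρ ((Quotient.out i : Q) : A) r₀,
      show ρ ((Quotient.out i : Q) : A) r₀ = 0 from DFunLike.congr_fun h0 r₀, map_zero]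
  have hN : N ≤ 4 * u ^ 2 := by
    haveI : Fintype (Q ⧸ K) := Fintype.ofFinite _
    have h1 := hind.fintype_card_le_finrank
    rw [← Nat.card_eq_fintype_card, ← hNdef, Module.finrank_linearMap] at h1
    calc N ≤ m * m := h1
      _ ≤ (2 * u) * (2 * u) := Nat.mul_le_mul hm hm
      _ = 4 * u ^ 2 := by ring
  -- the torus moves `x` to distinct elements outside `Z`
  have hcount : q ^ u ≤ (N - 1) * Nat.card Z + 1 := by
    have h1 : orderOf τ ≤ Nat.card {y : Q // (y : A) ∉ Z} := by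
      rw [← Nat.card_fin (orderOf τ)]
      refine Nat.card_le_card_of_injective (fun i => ⟨⟨τ ^ (i : ℕ) * x * (τ ^ (i : ℕ))⁻¹,
        hQn.conj_mem x hxQ _⟩, fun hmem => hxZ ?_⟩) ?_
      · simpa [mul_assoc] using hn.conj_mem _ hmem (τ ^ (i : ℕ))⁻¹
      have key : ∀ i j : ℕ, i ≤ j → j < orderOf τ →
          τ ^ i * x * (τ ^ i)⁻¹ = τ ^ j * x * (τ ^ j)⁻¹ → i = j := by
        intro i j hij hj e
        obtain ⟨k, rfl⟩ := Nat.exists_eq_add_of_le hij
        have h2 : x = τ ^ k * x * (τ ^ k)⁻¹ := by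
          have e2 := congrArg (fun y => (τ ^ i)⁻¹ * y * τ ^ i) e
          simp only [pow_add] at e2
          simpa [mul_assoc] using e2
        have h3 := orderOf_dvd_of_pow_eq_one (hinjx k (eq_mul_inv_iff_mul_eq.1 h2).symm)
        by_contra h0
        exact absurd (Nat.le_of_dvd (by omega) h3) (by omega)
      intro i j e
      have e' : τ ^ (i : ℕ) * x * (τ ^ (i : ℕ))⁻¹ = τ ^ (j : ℕ) * x * (τ ^ (j : ℕ))⁻¹ :=
        congrArg (fun y : {y : Q // (y : A) ∉ Z} => (y.1 : A)) e
      rcases le_total (i : ℕ) j with hij | hij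
      · exact Fin.ext (key i j hij j.isLt e')
      · exact Fin.ext (key j i hij i.isLt e'.symm).symm
    have h2 : Nat.card {y : Q // (y : A) ∉ Z} = Nat.card Q - Nat.card Z := by
      haveI : Fintype Q := Fintype.ofFinite _
      rw [← Nat.card_congr (Subgroup.subgroupOfEquivOfLe hZQ).toEquiv, Nat.card_eq_fintype_card,
        Fintype.card_subtype_compl, ← Nat.card_eq_fintype_card, ← Nat.card_eq_fintype_card]
      rfl
    rw [h2, hQcard] at h1
    have h3 := h.ord
    rw [hVq] at h3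
    rw [Nat.sub_mul, one_mul]
    omega
  -- exponent
  have hexp : ∀ p : ℕ, p.Prime → p ∣ N → p ∣ Nat.card Z := by
    intro p hp hpN
    haveI := Fact.mk hp
    obtain ⟨c, hc⟩ := exists_prime_orderOf_dvd_card' p hpN
    obtain ⟨y, rfl⟩ := QuotientGroup.mk'_surjective K c
    rw [← hc]
    apply orderOf_dvd_of_pow_eq_one
    rw [← map_pow, QuotientGroup.mk'_apply, QuotientGroup.eq_one_iff]
    show ((y ^ Nat.card Z : Q) : A) ∈ Z
    apply hcQ.le
    refine ⟨(y ^ Nat.card Z).2, fun w hw => ?_⟩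
    have hz : ⁅w, (y : A)⁆ ∈ Z := hQQ w hw _ y.2
    have h1 : w * (y : A) * w⁻¹ = ⁅w, (y : A)⁆ * y := by simp [commutatorElement_def]
    have h2 : w * (y : A) ^ Nat.card Z * w⁻¹ = (y : A) ^ Nat.card Z := by
      rw [← conj_pow, h1, (show Commute ⁅w, (y : A)⁆ (y : A) from (hQC y.2) _ hz).mul_pow]
      have h3 : (⟨_, hz⟩ : Z) ^ Nat.card Z = 1 := pow_card_eq_one'
      rw [show ⁅w, (y : A)⁆ ^ Nat.card Z = 1 from congrArg Subtype.val h3, one_mul]
    exact mul_inv_eq_iff_eq_mul.1 h2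
  have hN2 : 2 ≤ N := by
    by_contra hc
    rw [show N - 1 = 0 by omega, zero_mul] at hcount
    have := Nat.le_self_pow hu.ne' q
    omega
  have hu3 := bound_cases hq4 hu hN hcount hzle
  have hVq4 := h.four
  rw [hVq] at hVq4
  have hord := h.ord
  rw [hVq] at hord
  obtain ⟨d, hd⟩ : ∃ d, q = 2 ^ d := by
    have : CharP (alg ρ Z) 2 := CharTwo.of_one_ne_zero_of_two_eq_zero one_ne_zero
      (by rw [← one_add_one_eq_two]; exact Subtype.ext (h.char_two 1))
    haveI : Fintype (alg ρ Z) := Fintype.ofFinite _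
    obtain ⟨n, -, hn'⟩ := FiniteField.card (alg ρ Z) 2
    exact ⟨n, by rw [hqdef, Nat.card_eq_fintype_card, hn']⟩
  have hmul : (N - 1) * Nat.card Z ≤ (N - 1) * (q - 1) := Nat.mul_le_mul_left _ hzle
  -- final case: a torus element of order `l` centralizes the quotient
  have final : ∀ l : ℕ, l.Prime → l ≠ 3 → l ∣ orderOf τ → Nat.card Z = 3 →
      (∀ k, k ∣ N → k ≡ N [MOD l] → k = N) → False := by
    intro l hl hl3 hdvd hz hk
    haveI := Fact.mk hl
    haveI : Fintype (Q ⧸ K) := Fintype.ofFinite _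
    set j := orderOf τ / l with hj
    set t := τ ^ j with ht
    have htl : orderOf t = l :=
      orderOf_pow_orderOf_div (orderOf_pos τ).ne' hdvd
    have hconj : ∀ a : A, ∀ y : Q, a * y.1 * a⁻¹ ∈ Q := fun a y => hQn.conj_mem _ y.2 a
    let c : Q →* Q :=
      { toFun := fun y => ⟨t * y.1 * t⁻¹, hconj t y⟩
        map_one' := Subtype.ext (by simp)
        map_mul' := fun a b => Subtype.ext (by simp [mul_assoc]) }
    let f : Q ⧸ K →* Q ⧸ K := QuotientGroup.map K K c fun y hy => hn.conj_mem _ hy t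
    have hiter : ∀ (k : ℕ) (y : Q), f^[k] (y : Q ⧸ K) =
        ((⟨t ^ k * y.1 * (t ^ k)⁻¹, hconj _ y⟩ : Q) : Q ⧸ K) := by
      intro k
      induction k with
      | zero => intro y; simp
      | succ k ih =>
        intro y
        rw [Function.iterate_succ_apply', ih]
        show ((c _ : Q) : Q ⧸ K) = _
        congr 1
        exact Subtype.ext (by simp [c, pow_succ', mul_assoc])
    let g : Function.End (Q ⧸ K) := fun y => f y
    have hf1 : g ^ l ^ 1 = 1 := by
      rw [pow_one]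
      funext y
      obtain ⟨y, rfl⟩ := QuotientGroup.mk'_surjective K y
      refine (congrFun (hom_coe_pow (fun g : Function.End (Q ⧸ K) => g) rfl (fun _ _ => rfl)
        (f : Q ⧸ K → Q ⧸ K) l) _).trans ((hiter l y).trans ?_)
      show ((⟨t ^ l * y.1 * (t ^ l)⁻¹, hconj _ y⟩ : Q) : Q ⧸ K) = (y : Q ⧸ K)
      congr 1
      exact Subtype.ext (by simp [← htl, pow_orderOf_eq_one])
    have hfix := Equiv.Perm.card_fixedPoints_modEq hf1
    have hF1 : Nat.card (f.eqLocus (MonoidHom.id _)) = N := by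
      refine hk _ (Subgroup.card_subgroup_dvd_card _) ?_
      rw [hNdef, Nat.card_eq_fintype_card (α := Q ⧸ K)]
      refine Nat.ModEq.trans ?_ hfix.symm
      rw [← Nat.card_eq_fintype_card]
      rfl
    have hall : ∀ y, f y = y := fun y =>
      (Subgroup.eq_top_of_card_eq _ hF1).ge (Subgroup.mem_top y)
    have h1 := QuotientGroup.eq.1 (hall ((⟨x, hxQ⟩ : Q) : Q ⧸ K))
    set z := t * x * t⁻¹ * x⁻¹ with hzdef
    have hzZ : z ∈ Z := by
      have h2 : (t * x * t⁻¹)⁻¹ * x ∈ Z := h1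
      simpa [hzdef, mul_assoc] using hn.conj_mem _ (Z.inv_mem h2) x
    have htz : t * z = z * t := ((Subgroup.pow_mem C hτC j) z hzZ).symm
    have htx : t * x = z * (x * t) := by rw [hzdef]; group
    have hz3' : z ^ 3 = 1 := by
      have h3 : (⟨z, hzZ⟩ : Z) ^ Nat.card Z = 1 := pow_card_eq_one'
      rw [hz] at h3
      exact congrArg Subtype.val h3
    have ht3 : t ^ 3 * x = x * t ^ 3 := by
      calc t ^ 3 * x = t * (t * (t * x)) := by simp [pow_succ, mul_assoc]
        _ = t * (t * (z * (x * t))) := by rw [htx]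
        _ = z * (t * (t * x)) * t := by
          simp only [← mul_assoc]
          rw [show t * t * z = z * t * t by rw [mul_assoc, htz, ← mul_assoc, htz]]
        _ = z * (t * (z * (x * t))) * t := by rw [htx]
        _ = z * z * (t * x) * (t * t) := by
          simp only [← mul_assoc]
          rw [mul_assoc z t z, htz, ← mul_assoc]
        _ = z * z * (z * (x * t)) * (t * t) := by rw [htx]
        _ = z ^ 3 * x * t ^ 3 := by simp [pow_succ, mul_assoc]
        _ = _ := by rw [hz3', one_mul]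
    have h3 : t ^ 3 = 1 := by
      rw [ht, ← pow_mul] at ht3 ⊢
      exact hinjx _ ht3
    have h4 := orderOf_dvd_of_pow_eq_one h3
    rw [htl] at h4
    exact hl3 ((Nat.prime_dvd_prime_iff_eq hl Nat.prime_three).1 h4)
  interval_cases u
  · -- one dimension
    have hN3 : N = 3 := by obtain ⟨k, hk⟩ := hNodd; omega
    haveI : Fact (Nat.Prime 3) := ⟨Nat.prime_three⟩
    have : IsCyclic (Q ⧸ K) := isCyclic_of_prime_card hN3
    have hne : ((⟨x, hxQ⟩ : Q) : Q ⧸ K) ≠ 1 := fun e => hxZ ((QuotientGroup.eq_one_iff (⟨x, hxQ⟩ : Q)).1 e)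
    have hgen := zpowers_eq_top_of_prime_card hN3 hne
    apply hxZ
    rw [← hcQ]
    refine ⟨hxQ, fun y hy => ?_⟩
    obtain ⟨k, hk⟩ := Subgroup.mem_zpowers_iff.1 (hgen.ge (Subgroup.mem_top ((⟨y, hy⟩ : Q) : Q ⧸ K)))
    rw [← QuotientGroup.mk_zpow, QuotientGroup.eq] at hk
    have hk' : (x ^ k)⁻¹ * y ∈ Z := by simpa [K, Subgroup.mem_subgroupOf] using hk
    have h1 : y = x ^ k * ((x ^ k)⁻¹ * y) := by group
    rw [h1]
    exact (((Commute.refl x).zpow_left k).mul_left (show Commute _ x from (hQC hxQ) _ hk')).eq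
  · -- two dimensions
    have hd3 : d ≤ 3 := by
      by_contra hc
      have h16 : 2 ^ 4 ≤ q := hd ▸ Nat.pow_le_pow_right two_pos (by omega)
      have h1 : (N - 1) * Nat.card Z ≤ 15 * (q - 1) := Nat.mul_le_mul (by omega) hzle
      have h2 : 16 * q ≤ q ^ 2 := by rw [sq]; exact Nat.mul_le_mul_right q h16
      omega
    interval_cases d <;> norm_num at hd <;> (try omega) <;> rw [hd] at hmul hcount hzle hzq hord <;>
      norm_num at hmul hcount hzle hzq hN hord
    · have hz : Nat.card Z = 3 := by omega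
      rw [hz] at hcount hexp
      have hN9 : N = 9 := by
        have h5 : ¬ 5 ∣ N := fun hp => absurd (hexp 5 (by norm_num) hp) (by norm_num)
        have h7 : ¬ 7 ∣ N := fun hp => absurd (hexp 7 (by norm_num) hp) (by norm_num)
        have h11 : ¬ 11 ∣ N := fun hp => absurd (hexp 11 (by norm_num) hp) (by norm_num)
        have h13 : ¬ 13 ∣ N := fun hp => absurd (hexp 13 (by norm_num) hp) (by norm_num)
        obtain ⟨k, hk⟩ := hNodd
        interval_cases N <;> omega
      refine final 5 (by norm_num) (by norm_num) (by omega) hz fun k hk hmod => ?_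
      rw [hN9] at hk hmod ⊢
      have := Nat.le_of_dvd (by norm_num) hk
      interval_cases k <;> first | omega | (revert hmod; decide)
    · have hz : Nat.card Z = 7 := by
        rcases (Nat.dvd_prime (by norm_num : Nat.Prime 7)).1 hzq with h' | h' <;> omega
      rw [hz] at hcount hexp
      have h3 : ¬ 3 ∣ N := fun hp => absurd (hexp 3 (by norm_num) hp) (by norm_num)
      have h11 : ¬ 11 ∣ N := fun hp => absurd (hexp 11 (by norm_num) hp) (by norm_num)
      have h13 : ¬ 13 ∣ N := fun hp => absurd (hexp 13 (by norm_num) hp) (by norm_num)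
      obtain ⟨k, hk⟩ := hNodd
      interval_cases N <;> omega
  · -- three dimensions
    have hd3 : d ≤ 2 := by
      by_contra hc
      have h8 : 2 ^ 3 ≤ q := hd ▸ Nat.pow_le_pow_right two_pos (by omega)
      have h1 : (N - 1) * Nat.card Z ≤ 35 * (q - 1) := Nat.mul_le_mul (by omega) hzle
      have h2 : 64 * q ≤ q ^ 3 := by
        rw [pow_succ, sq]; exact Nat.mul_le_mul_right q (Nat.mul_le_mul h8 h8)
      omega
    interval_cases d <;> norm_num at hd <;> (try omega) <;> rw [hd] at hmul hcount hzle hzq hord <;>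
      norm_num at hmul hcount hzle hzq hN hord
    have hz : Nat.card Z = 3 := by omega
    rw [hz] at hcount hexp
    have hN27 : N = 27 := by
      have h5 : ¬ 5 ∣ N := fun hp => absurd (hexp 5 (by norm_num) hp) (by norm_num)
      have h11 : ¬ 11 ∣ N := fun hp => absurd (hexp 11 (by norm_num) hp) (by norm_num)
      have h23 : ¬ 23 ∣ N := fun hp => absurd (hexp 23 (by norm_num) hp) (by norm_num)
      have h29 : ¬ 29 ∣ N := fun hp => absurd (hexp 29 (by norm_num) hp) (by norm_num)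
      have h31 : ¬ 31 ∣ N := fun hp => absurd (hexp 31 (by norm_num) hp) (by norm_num)
      obtain ⟨k, hk⟩ := hNodd
      interval_cases N <;> omega
    refine final 7 (by norm_num) (by norm_num) (by omega) hz fun k hk hmod => ?_
    rw [hN27] at hk hmod ⊢
    have := Nat.le_of_dvd (by norm_num) hk
    interval_cases k <;> first | omega | (revert hmod; decide)

end Field

theorem Data.exists_mem (h : Data ρ R V τ) (g : A) : ∃ r ∈ R, r ≠ 0 ∧ ρ g r ∈ R := by
  by_contra hc
  push Not at hc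
  have hg : ∀ r ∈ R, ρ g r ∈ R → r = 0 := fun r hr hgr => by
    by_contra h0
    exact hc r hr h0 hgr
  haveI : Group.IsSolvable A := CfsgLib.FT.isSolvable_of_odd A h.odd
  haveI : Nontrivial A := ⟨⟨τ, 1, h.tau_ne⟩⟩
  obtain ⟨Z₀, hn₀, hne₀, hc₀⟩ := CfsgLib.TwoPQ.exists_abelian_normal (G := A)
  let S : Set (Subgroup A) := {Y | Y.Normal ∧ Z₀ ≤ Y ∧ ∀ x ∈ Y, ∀ y ∈ Y, x * y = y * x}
  obtain ⟨Z, hZmax⟩ := (Set.toFinite S).exists_maximal ⟨Z₀, hn₀, le_rfl, hc₀⟩
  obtain ⟨hn, hle₀, hZ⟩ := hZmax.prop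
  have hZ1 : Z ≠ ⊥ := fun e => hne₀ (le_bot_iff.1 (e ▸ hle₀))
  have hmax : ∀ Y : Subgroup A, Y.Normal → Z ≤ Y → (∀ x ∈ Y, ∀ y ∈ Y, x * y = y * x) → Y = Z :=
    fun Y hY hZY hYc => le_antisymm (hZmax.le_of_ge ⟨hY, hle₀.trans hZY, hYc⟩ hZY) hZY
  by_cases hid : ∃ f ∈ alg ρ Z, f * f = f ∧ f ≠ 0 ∧ f ≠ 1
  · obtain ⟨r, hr, hr0, hgr⟩ := h.exists_of_blocks hn hZ hid g
    exact hc r hr hr0 hgr
  push Not at hid
  have hF := h.isField hZ fun f hf hff => or_iff_not_imp_left.2 (hid f hf hff)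
  have hle := h.card_le g hg
  exact h.false_of_isField hn hmax hZ hZ1 hF hle fun x hx => h.commute_of_isField hn hF hle hx

/-- The action on the additive group. -/
def toEnd (Ω : Type u) [CommGroup Ω] : MulAut Ω →* AddMonoid.End (Additive Ω) where
  toFun a := MonoidHom.toAdditive (MulEquiv.toMonoidHom a)
  map_one' := rfl
  map_mul' _ _ := rfl

end LinearAux

open LinearAux in
theorem inf_map_ne_bot_of_irreducible {Ω : Type u} [CommGroup Ω] [Finite Ω] (h2 : ∀ x : Ω, x * x = 1)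
    (A : Subgroup (MulAut Ω)) (hodd : Odd (Nat.card A))
    (hirr : ∀ W : Subgroup Ω, (∀ a ∈ A, W.map (MulEquiv.toMonoidHom a) ≤ W) → W = ⊥ ∨ W = ⊤)
    (hn : 16 ≤ Nat.card Ω) {R V : Subgroup Ω} (hRV : IsCompl R V) (hR : R ≠ ⊥) (hV : 4 ≤ Nat.card V)
    {τ : MulAut Ω} (hτ : τ ∈ A) (hτR : ∀ r ∈ R, τ r = r) (hτV : ∀ v ∈ V, τ v ∈ V)
    (hord : orderOf τ + 1 = Nat.card V)
    (hreg : ∀ v ∈ V, v ≠ 1 → ∀ i : ℕ, (τ ^ i) v = v → τ ^ i = 1) :
    ∀ g ∈ A, R ⊓ R.map (MulEquiv.toMonoidHom g) ≠ ⊥ := by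
  intro g hg hbot
  have hdata : Data ((toEnd Ω).comp A.subtype) (Subgroup.toAddSubgroup R)
      (Subgroup.toAddSubgroup V) ⟨τ, hτ⟩ :=
    { two := fun x => h2 (Additive.toMul x)
      inj := fun a b e => Subtype.ext (MulEquiv.ext fun x => DFunLike.congr_fun e (Additive.ofMul x))
      odd := hodd
      irr := fun U hU => by
        rcases hirr (AddSubgroup.toSubgroup' U) (fun a ha => by
          rintro _ ⟨x, hx, rfl⟩
          exact hU ⟨a, ha⟩ _ hx) with h | h
        · left
          rw [← Subgroup.toAddSubgroup.apply_symm_apply U]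
          exact (congrArg Subgroup.toAddSubgroup h).trans (map_bot Subgroup.toAddSubgroup)
        · right
          rw [← Subgroup.toAddSubgroup.apply_symm_apply U]
          exact (congrArg Subgroup.toAddSubgroup h).trans (map_top Subgroup.toAddSubgroup)
      big := hn
      compl := hRV.map Subgroup.toAddSubgroup
      ne_bot := fun h => hR (Subgroup.toAddSubgroup.injective (h.trans (map_bot _).symm))
      four := hV
      fixR := fun r hr => hτR (Additive.toMul r) hr
      mapV := fun v hv => hτV (Additive.toMul v) hv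
      ord := by
        rw [← Subgroup.orderOf_coe]
        exact hord
      reg := fun v hv hv0 i e => Subtype.ext (hreg (Additive.toMul v) hv hv0 i e) }
  obtain ⟨r, hr, hr0, hgr⟩ := hdata.exists_mem ⟨g, hg⟩
  apply hr0
  have h1 : g (Additive.toMul r) ∈ R ⊓ R.map (MulEquiv.toMonoidHom g) :=
    ⟨hgr, ⟨Additive.toMul r, hr, rfl⟩⟩
  rw [hbot, Subgroup.mem_bot] at h1
  exact g.injective (h1.trans (map_one g).symm)

end CfsgLib.Walter.Rank
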