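import Cfsg.Agent.Lib.Walter.Rank.Local
import Cfsg.Agent.Lib.Walter.Rank.Linear

/-!
# The blocks in rank at least four

A pair is maximal if no other pair `(R', V')` has `V ≤ V'` and `R' ≤ R`. By the linear lemma `R` meets all its
conjugates under `N(S)`, so the conjugates of a maximal pair are the blocks, and there are no other maximal pairs.
-/

set_option autoImplicit false
set_option linter.unusedSectionVars false

namespace CfsgLib.Walter.Rank

open Subgroup

universe u

variable {G : Type u} [Group G] [Finite G]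

namespace Blocks

/-- The facts about pairs which are used for the blocks. -/
structure Facts (S : Sylow 2 G) : Prop where
  setting : Setting G
  sq : ∀ s ∈ (S : Subgroup G), s * s = 1
  four_le : ∀ (y : G) (R V : Subgroup G), IsPairAt (S : Subgroup G) y R V → 4 ≤ Nat.card V
  torus : ∀ (y : G) (R V : Subgroup G), IsPairAt (S : Subgroup G) y R V →
    ∃ n ∈ normalizer ((S : Subgroup G) : Set G), (∀ r ∈ R, n * r * n⁻¹ = r) ∧
      (∀ v ∈ V, n * v * n⁻¹ ∈ V) ∧
      ∀ v ∈ V, v ≠ 1 → ∀ w ∈ V, w ≠ 1 → ∃ i : ℕ, n ^ i * v * (n ^ i)⁻¹ = w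
  transfer : ∀ (y : G) (R V : Subgroup G), IsPairAt (S : Subgroup G) y R V → ∀ y' ∈ R, orderOf y' = 2 →
    ∃ R' V', IsPairAt (S : Subgroup G) y' R' V' ∧ V ≤ V' ∧ R' ≤ R
  irr : ∀ W : Subgroup G, W ≤ (S : Subgroup G) →
    (∀ n ∈ normalizer ((S : Subgroup G) : Set G), ∀ w ∈ W, n * w * n⁻¹ ∈ W) →
      W = ⊥ ∨ W = (S : Subgroup G)
  sixteen : 16 ≤ Nat.card (S : Subgroup G)

/-- The conjugate of a pair. -/
def cj (n : G) (p : Subgroup G × Subgroup G) : Subgroup G × Subgroup G :=
  (p.1.map (MulAut.conj n).toMonoidHom, p.2.map (MulAut.conj n).toMonoidHom)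

theorem cj_mul (a b : G) (p : Subgroup G × Subgroup G) : cj (a * b) p = cj a (cj b p) := by
  have h : (MulAut.conj (a * b)).toMonoidHom =
      (MulAut.conj a).toMonoidHom.comp (MulAut.conj b).toMonoidHom := by
    ext x; simp [mul_assoc]
  simp only [cj, h, Subgroup.map_map]

theorem cj_one (p : Subgroup G × Subgroup G) : cj 1 p = p := by
  have h : (MulAut.conj (1 : G)).toMonoidHom = MonoidHom.id G := by
    ext x; simp
  show (p.1.map _, p.2.map _) = p
  rw [h, Subgroup.map_id, Subgroup.map_id]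

theorem cj_inv_cj (n : G) (p : Subgroup G × Subgroup G) : cj n⁻¹ (cj n p) = p := by
  rw [← cj_mul, inv_mul_cancel, cj_one]

/-- A maximal pair. -/
def IsMax (S : Subgroup G) (p : Subgroup G × Subgroup G) : Prop :=
  IsPair S p.1 p.2 ∧ ∀ q : Subgroup G × Subgroup G, IsPair S q.1 q.2 → p.2 ≤ q.2 → q.1 ≤ p.1 → q = p

variable {S : Sylow 2 G}

theorem exists_ne_one {H : Type u} [Group H] {X : Subgroup H} (h : X ≠ ⊥) : ∃ x ∈ X, x ≠ 1 := by
  by_contra hc
  push Not at hc
  exact h ((Subgroup.eq_bot_iff_forall X).2 hc)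

theorem pair_card (h : Facts S) {p : Subgroup G × Subgroup G} (hp : IsPair (S : Subgroup G) p.1 p.2) :
    Nat.card p.1 * Nat.card p.2 = Nat.card (S : Subgroup G) := by
  obtain ⟨y, hy⟩ := hp
  exact hy.card_eq h.setting

theorem pair_four (h : Facts S) {p : Subgroup G × Subgroup G} (hp : IsPair (S : Subgroup G) p.1 p.2) :
    4 ≤ Nat.card p.2 := by
  obtain ⟨y, hy⟩ := hp
  exact h.four_le y _ _ hy

theorem orderOf_eq (h : Facts S) {y : G} (hy : y ∈ (S : Subgroup G)) (h1 : y ≠ 1) : orderOf y = 2 :=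
  orderOf_eq_prime (by rw [pow_two]; exact h.sq y hy) h1

theorem exists_max (h : Facts S) {p : Subgroup G × Subgroup G} (hp : IsPair (S : Subgroup G) p.1 p.2) :
    ∃ q, IsMax (S : Subgroup G) q ∧ p.2 ≤ q.2 ∧ q.1 ≤ p.1 := by
  obtain ⟨q, ⟨hq, hV, hR⟩, hmax⟩ := Set.exists_max_image
    {q : Subgroup G × Subgroup G | IsPair (S : Subgroup G) q.1 q.2 ∧ p.2 ≤ q.2 ∧ q.1 ≤ p.1}
    (fun q => Nat.card q.2) (Set.toFinite _) ⟨p, hp, le_rfl, le_rfl⟩
  refine ⟨q, ⟨hq, fun r hr hV' hR' => ?_⟩, hV, hR⟩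
  have h1 := hmax r ⟨hr, hV.trans hV', hR'.trans hR⟩
  have hV2 : q.2 = r.2 := Subgroup.eq_of_le_of_card_ge hV' h1
  have hR2 : r.1 = q.1 := Subgroup.eq_of_le_of_card_ge hR' (le_of_eq (by
    have e1 := pair_card h hr
    have e2 := pair_card h hq
    rw [← hV2] at e1
    exact Nat.eq_of_mul_eq_mul_right Nat.card_pos (e2.trans e1.symm)))
  exact Prod.ext hR2 hV2.symm

theorem pairAt_max (h : Facts S) {p : Subgroup G × Subgroup G} (hp : IsMax (S : Subgroup G) p)
    {y : G} (hy : y ∈ p.1) (h1 : y ≠ 1) : IsPairAt (S : Subgroup G) y p.1 p.2 := by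
  obtain ⟨x, hx⟩ := hp.1
  obtain ⟨R', V', hP, hV, hR⟩ := h.transfer x _ _ hx y hy (orderOf_eq h (hx.le_left hy) h1)
  have he := hp.2 (R', V') ⟨y, hP⟩ hV hR
  rw [← he]
  exact hP

/-- Two maximal pairs whose first parts meet are equal or commute. -/
theorem eq_or_cross (h : Facts S) {p q : Subgroup G × Subgroup G} (hp : IsMax (S : Subgroup G) p)
    (hq : IsMax (S : Subgroup G) q) (hne : p.1 ⊓ q.1 ≠ ⊥) : q = p ∨ (q.2 ≤ p.1 ∧ p.2 ≤ q.1) := by
  obtain ⟨y, hy, h1⟩ := Blocks.exists_ne_one hne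
  have hp' := pairAt_max h hp hy.1 h1
  have hq' := pairAt_max h hq hy.2 h1
  rcases hp'.eq_or_le hq' with e | e
  · exact Or.inl (Prod.ext e.1 e.2)
  · rcases hq'.eq_or_le hp' with e' | e'
    · exact Or.inl (Prod.ext e'.1.symm e'.2.symm)
    · exact Or.inr ⟨e, e'⟩

theorem pair_cj {p : Subgroup G × Subgroup G} (hp : IsPair (S : Subgroup G) p.1 p.2) {n : G}
    (hn : n ∈ normalizer ((S : Subgroup G) : Set G)) :
    IsPair (S : Subgroup G) (cj n p).1 (cj n p).2 := by
  obtain ⟨y, hy⟩ := hp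
  exact ⟨_, hy.map_conj hn⟩

theorem max_cj {p : Subgroup G × Subgroup G} (hp : IsMax (S : Subgroup G) p) {n : G}
    (hn : n ∈ normalizer ((S : Subgroup G) : Set G)) : IsMax (S : Subgroup G) (cj n p) := by
  refine ⟨pair_cj hp.1 hn, fun q hq hV hR => ?_⟩
  have h1 := hp.2 (cj n⁻¹ q) (pair_cj hq (inv_mem hn))
    (by
      have := Subgroup.map_mono (f := (MulAut.conj n⁻¹).toMonoidHom) hV
      rwa [show (cj n p).2.map (MulAut.conj n⁻¹).toMonoidHom = (cj n⁻¹ (cj n p)).2 from rfl,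
        cj_inv_cj] at this)
    (by
      have := Subgroup.map_mono (f := (MulAut.conj n⁻¹).toMonoidHom) hR
      rwa [show (cj n p).1.map (MulAut.conj n⁻¹).toMonoidHom = (cj n⁻¹ (cj n p)).1 from rfl,
        cj_inv_cj] at this)
  rw [← h1, ← cj_mul, mul_inv_cancel, cj_one]

/-- Conjugation of `S` by its normalizer. -/
def autS (S : Subgroup G) : normalizer (S : Set G) →* MulAut S where
  toFun n :=
    { toFun := fun s => ⟨n.1 * s.1 * n.1⁻¹, (Subgroup.mem_normalizer_iff.1 n.2 s.1).1 s.2⟩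
      invFun := fun s => ⟨n.1⁻¹ * s.1 * n.1⁻¹⁻¹,
        (Subgroup.mem_normalizer_iff.1 (inv_mem n.2) s.1).1 s.2⟩
      left_inv := fun s => Subtype.ext (by simp [mul_assoc])
      right_inv := fun s => Subtype.ext (by simp [mul_assoc])
      map_mul' := fun s t => Subtype.ext (by simp [mul_assoc]) }
  map_one' := MulEquiv.ext fun s => Subtype.ext (by simp)
  map_mul' a b := MulEquiv.ext fun s => Subtype.ext (by simp [mul_assoc])

theorem autS_apply {S : Subgroup G} (n : normalizer (S : Set G)) (s : S) :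
    ((autS S n) s : G) = n.1 * s.1 * n.1⁻¹ := rfl

/-- The first part of a maximal pair meets its conjugates. -/
theorem inf_cj_ne_bot (h : Facts S) {p : Subgroup G × Subgroup G}
    (hp : IsPair (S : Subgroup G) p.1 p.2) {g : G}
    (hg : g ∈ normalizer ((S : Subgroup G) : Set G)) : p.1 ⊓ (cj g p).1 ≠ ⊥ := by
  obtain ⟨y, hy⟩ := hp
  obtain ⟨n, hn, hnR, hnV, htr⟩ := h.torus y _ _ hy
  have hy0 : y ∈ p.1 := hy.mem_left h.setting
  have hyS : y ∈ (S : Subgroup G) := hy.le_left hy0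
  set Sg : Subgroup G := (S : Subgroup G) with hSg
  letI : CommGroup Sg :=
    { (inferInstance : Group Sg) with
      mul_comm := fun a b => Subtype.ext (sylow_comm h.setting a.2 b.2) }
  set N : Subgroup G := normalizer (Sg : Set G) with hN
  let ψ := autS Sg
  let R : Subgroup Sg := p.1.subgroupOf Sg
  let V : Subgroup Sg := p.2.subgroupOf Sg
  set τ : MulAut Sg := ψ ⟨n, hn⟩ with hτ
  have hpow : ∀ (i : ℕ) (s : Sg), ((τ ^ i) s : G) = n ^ i * s.1 * (n ^ i)⁻¹ := fun i s => by
    rw [hτ, ← map_pow, autS_apply]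
    simp
  have hVcard : Nat.card V = Nat.card p.2 := Nat.card_congr (Subgroup.subgroupOfEquivOfLe hy.le_right).toEquiv
  have h4 := h.four_le y _ _ hy
  have hdec : ∀ s : Sg, ∃ r ∈ R, ∃ v ∈ V, r * v = s := by
    intro s
    have hs : (s : G) ∈ p.1 ⊔ p.2 := by rw [hy.sup_eq h.setting]; exact s.2
    have hsup : R ⊔ V = ⊤ := by
      apply Subgroup.map_injective Sg.subtype_injective
      rw [Subgroup.map_sup, Subgroup.map_subgroupOf_eq_of_le hy.le_left,
        Subgroup.map_subgroupOf_eq_of_le hy.le_right, hy.sup_eq h.setting,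
        ← MonoidHom.range_eq_map, Subgroup.range_subtype]
    exact Subgroup.mem_sup.1 (hsup.ge (mem_top s))
  have hcompl : IsCompl R V := by
    constructor
    · rw [disjoint_iff, Subgroup.eq_bot_iff_forall]
      intro s hs
      exact Subtype.ext (mem_bot.1 ((hy.inf_eq h.setting).le ⟨hs.1, hs.2⟩))
    · rw [codisjoint_iff, eq_top_iff]
      intro s _
      obtain ⟨r, hr, v, hv, rfl⟩ := hdec s
      exact mul_mem (mem_sup_left hr) (mem_sup_right hv)
  have hfixR : ∀ r ∈ R, τ r = r := fun r hr => Subtype.ext (hnR r.1 hr)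
  have htrans : ∀ v ∈ V, v ≠ 1 → ∀ w ∈ V, w ≠ 1 → ∃ i : ℕ, (τ ^ i) v = w := by
    intro v hv hv1 w hw hw1
    obtain ⟨i, hi⟩ := htr v.1 hv (fun e => hv1 (Subtype.ext e)) w.1 hw (fun e => hw1 (Subtype.ext e))
    exact ⟨i, Subtype.ext ((hpow i v).trans hi)⟩
  have hreg : ∀ v ∈ V, v ≠ 1 → ∀ i : ℕ, (τ ^ i) v = v → τ ^ i = 1 := by
    intro v hv hv1 i e
    refine MulEquiv.ext fun s => ?_
    obtain ⟨r, hr, w, hw, rfl⟩ := hdec s
    have hri : ∀ j : ℕ, (τ ^ j) r = r := fun j => by
      induction j with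
      | zero => rfl
      | succ j ih => rw [pow_succ, MulAut.mul_apply, hfixR r hr, ih]
    have hwi : (τ ^ i) w = w := by
      by_cases hw1 : w = 1
      · rw [hw1, map_one]
      obtain ⟨j, rfl⟩ := htrans v hv hv1 w hw hw1
      rw [← MulAut.mul_apply, ← pow_add, add_comm, pow_add, MulAut.mul_apply, e]
    rw [map_mul, hri, hwi]
    rfl
  have hord : orderOf τ + 1 = Nat.card V := by
    classical
    have : Fintype V := Fintype.ofFinite _
    obtain ⟨v, hv1⟩ : ∃ v : V, v ≠ 1 := by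
      haveI : Nontrivial V := Finite.one_lt_card_iff_nontrivial.1 (by omega)
      exact exists_ne 1
    have hv1' : (v : Sg) ≠ 1 := fun e => hv1 (Subtype.ext e)
    have hmapV : ∀ i : ℕ, (τ ^ i) v.1 ∈ V := fun i => by
      induction i with
      | zero => exact v.2
      | succ i ih =>
        rw [pow_succ', MulAut.mul_apply]
        exact hnV _ ih
    let f : Fin (orderOf τ) → {w : V // w ≠ 1} := fun i => ⟨⟨(τ ^ (i : ℕ)) v.1, hmapV _⟩, fun e => by
      have e' : (τ ^ (i : ℕ)) v.1 = (τ ^ (i : ℕ)) 1 := by rw [map_one]; exact congrArg Subtype.val e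
      exact hv1' ((τ ^ (i : ℕ)).injective e')⟩
    have hf : Function.Bijective f := by
      refine ⟨fun i j e => ?_, fun w => ?_⟩
      · have e' : (τ ^ (i : ℕ)) v.1 = (τ ^ (j : ℕ)) v.1 :=
          congrArg (fun w : {w : V // w ≠ 1} => (w.1 : Sg)) e
        clear e
        have key : ∀ a b : ℕ, a ≤ b → b < orderOf τ → (τ ^ a) v.1 = (τ ^ b) v.1 → a = b := by
          intro a b hab hb e
          obtain ⟨k, rfl⟩ := Nat.exists_eq_add_of_le hab
          rw [pow_add, MulAut.mul_apply] at e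
          have h1 := orderOf_dvd_of_pow_eq_one (hreg v.1 v.2 hv1' k ((τ ^ a).injective e).symm)
          by_contra hne
          exact absurd (Nat.le_of_dvd (by omega) h1) (by omega)
        rcases le_total (i : ℕ) j with hij | hij
        · exact Fin.ext (key _ _ hij j.isLt e')
        · exact Fin.ext (key _ _ hij i.isLt e'.symm).symm
      · obtain ⟨i, hi⟩ := htrans v.1 v.2 hv1' w.1.1 w.1.2 (fun e => w.2 (Subtype.ext e))
        refine ⟨⟨i % orderOf τ, Nat.mod_lt _ (orderOf_pos τ)⟩, Subtype.ext (Subtype.ext ?_)⟩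
        show (τ ^ (i % orderOf τ)) v.1 = w.1.1
        rw [pow_mod_orderOf, hi]
    have h1 := Nat.card_eq_of_bijective f hf
    rw [Nat.card_fin, Nat.card_eq_fintype_card, Fintype.card_subtype_compl,
      Fintype.card_subtype_eq] at h1
    rw [Nat.card_eq_fintype_card]
    have := Fintype.card_pos (α := V)
    omega
  have hodd : Odd (Nat.card ψ.range) := by
    rw [← Nat.not_even_iff_odd, even_iff_two_dvd]
    intro h2
    have hle : Sg.subgroupOf N ≤ ψ.ker := fun s hs => MulEquiv.ext fun t => Subtype.ext (by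
      rw [autS_apply, sylow_comm h.setting (show (s : G) ∈ Sg from hs) t.2, mul_inv_cancel_right]
      rfl)
    have h3 : ψ.ker.index ∣ Sg.relIndex N := Subgroup.index_dvd_of_le hle
    rw [Subgroup.index_ker] at h3
    have h5 : Sg.relIndex N * N.index = Sg.index := Subgroup.relIndex_mul_index Subgroup.le_normalizer
    haveI : Fact (Nat.Prime 2) := ⟨Nat.prime_two⟩
    exact S.not_dvd_index ((h2.trans h3).trans (Dvd.intro _ h5))
  have hR1 : R ≠ ⊥ := fun e => by
    have hy1 : (⟨y, hyS⟩ : Sg) ∈ R := hy0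
    rw [e, mem_bot] at hy1
    have : y = 1 := congrArg Subtype.val hy1
    exact absurd hy.2.1 (by rw [this, orderOf_one]; norm_num)
  have hmeet := inf_map_ne_bot_of_irreducible (fun s : Sg => Subtype.ext (h.sq s.1 s.2)) ψ.range hodd
    (fun W hW => by
      rcases h.irr (W.map Sg.subtype) (Subgroup.map_subtype_le W) (fun m hm => by
        rintro _ ⟨w, hw, rfl⟩
        exact ⟨ψ ⟨m, hm⟩ w, hW _ ⟨⟨m, hm⟩, rfl⟩ (mem_map_of_mem _ hw), rfl⟩) with e | e
      · left; exact (Subgroup.map_eq_bot_iff_of_injective W Sg.subtype_injective).1 e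
      · right
        apply Subgroup.map_injective Sg.subtype_injective
        rw [e, ← MonoidHom.range_eq_map, Subgroup.range_subtype])
    h.sixteen hcompl hR1 (by omega) (τ := τ) ⟨_, rfl⟩ hfixR (fun v hv => hnV v.1 hv) hord hreg
    (ψ ⟨g, hg⟩) ⟨_, rfl⟩
  obtain ⟨s, ⟨hs, r, hr, hrs⟩, hs1⟩ := Blocks.exists_ne_one hmeet
  intro hbot
  have hmem : (s : G) ∈ p.1 ⊓ (cj g p).1 := ⟨hs, r.1, hr, congrArg Subtype.val hrs⟩
  rw [hbot, mem_bot] at hmem
  exact hs1 (Subtype.ext hmem)

theorem cj_mem_S (h : Facts S) {p : Subgroup G × Subgroup G} (hp : IsPair (S : Subgroup G) p.1 p.2)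
    {s : G} (hs : s ∈ (S : Subgroup G)) : cj s p = p := by
  obtain ⟨y, hy⟩ := hp
  have key : ∀ X : Subgroup G, X ≤ (S : Subgroup G) → X.map (MulAut.conj s).toMonoidHom = X := by
    intro X hX
    ext x
    have hfix : ∀ z ∈ X, MulAut.conj s z = z := fun z hz => by
      rw [MulAut.conj_apply, sylow_comm h.setting hs (hX hz), mul_inv_cancel_right]
    constructor
    · rintro ⟨z, hz, rfl⟩
      show MulAut.conj s z ∈ X
      rw [hfix z hz]; exact hz
    · exact fun hx => ⟨x, hx, hfix x hx⟩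
  exact Prod.ext (key _ hy.le_left) (key _ hy.le_right)

/-- The conjugates of a maximal pair. -/
def orbit (S : Subgroup G) (p : Subgroup G × Subgroup G) : Set (Subgroup G × Subgroup G) :=
  {q | ∃ n ∈ normalizer (S : Set G), cj n p = q}

theorem mem_orbit_self (S : Subgroup G) (p : Subgroup G × Subgroup G) : p ∈ orbit S p :=
  ⟨1, one_mem _, cj_one p⟩

theorem orbit_cj {S : Subgroup G} {p q : Subgroup G × Subgroup G} (hq : q ∈ orbit S p) {n : G}
    (hn : n ∈ normalizer (S : Set G)) : cj n q ∈ orbit S p := by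
  obtain ⟨m, hm, rfl⟩ := hq
  exact ⟨n * m, mul_mem hn hm, cj_mul n m p⟩

theorem orbit_max {p q : Subgroup G × Subgroup G} (hp : IsMax (S : Subgroup G) p)
    (hq : q ∈ orbit (S : Subgroup G) p) : IsMax (S : Subgroup G) q := by
  obtain ⟨m, hm, rfl⟩ := hq
  exact max_cj hp hm

theorem orbit_cross (h : Facts S) {p a b : Subgroup G × Subgroup G} (hp : IsMax (S : Subgroup G) p)
    (ha : a ∈ orbit (S : Subgroup G) p) (hb : b ∈ orbit (S : Subgroup G) p) (hne : b ≠ a) :
    b.2 ≤ a.1 := by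
  obtain ⟨m, hm, rfl⟩ := ha
  obtain ⟨n, hn, rfl⟩ := hb
  have hne' : (cj m p).1 ⊓ (cj n p).1 ≠ ⊥ := by
    have h1 := inf_cj_ne_bot h (pair_cj hp.1 hm) (g := n * m⁻¹) (mul_mem hn (inv_mem hm))
    rwa [← cj_mul, inv_mul_cancel_right] at h1
  rcases eq_or_cross h (max_cj hp hm) (max_cj hp hn) hne' with e | e
  · exact absurd e hne
  · exact e.1

theorem orbit_three (h : Facts S) {p : Subgroup G × Subgroup G} (hp : IsMax (S : Subgroup G) p) :
    ∃ a ∈ orbit (S : Subgroup G) p, ∃ b ∈ orbit (S : Subgroup G) p, p ≠ a ∧ p ≠ b ∧ a ≠ b := by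
  set N := normalizer ((S : Subgroup G) : Set G) with hN
  obtain ⟨y, hy⟩ := hp.1
  have hyR := hy.mem_left h.setting
  have hy1 : y ≠ 1 := fun e => absurd hy.2.1 (by rw [e, orderOf_one]; norm_num)
  obtain ⟨n, hn, hne⟩ : ∃ n ∈ N, cj n p ≠ p := by
    by_contra hc
    push Not at hc
    rcases h.irr p.1 hy.le_left (fun n hn w hw => by
      have : MulAut.conj n w ∈ (cj n p).1 := mem_map_of_mem _ hw
      rwa [hc n hn, MulAut.conj_apply] at this) with e | e
    · rw [e, mem_bot] at hyR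
      exact hy1 hyR
    · have h1 := pair_card h hp.1
      rw [e] at h1
      have h2 := pair_four h hp.1
      have h3 : 0 < Nat.card (S : Subgroup G) := Nat.card_pos
      nlinarith
  have hodd : ∀ m ∈ N, cj (m * m) p = p → cj m p = p := by
    intro m hm hfix
    have hSn : ((S : Subgroup G).subgroupOf N).Normal := Subgroup.normal_in_normalizer
    have hk : ¬ 2 ∣ (S : Subgroup G).relIndex N := by
      haveI : Fact (Nat.Prime 2) := ⟨Nat.prime_two⟩
      intro h2
      exact S.not_dvd_index (h2.trans (Dvd.intro _ (Subgroup.relIndex_mul_index Subgroup.le_normalizer)))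
    have hmem := Subgroup.pow_index_mem ((S : Subgroup G).subgroupOf N) (⟨m, hm⟩ : N)
    set k := (S : Subgroup G).relIndex N with hkdef
    have hmem' : m ^ k ∈ (S : Subgroup G) := hmem
    obtain ⟨j, hj⟩ : ∃ j, k + 1 = 2 * j := ⟨(k + 1) / 2, by omega⟩
    have hpow : ∀ i : ℕ, cj ((m * m) ^ i) p = p := fun i => by
      induction i with
      | zero => rw [pow_zero, cj_one]
      | succ i ih => rw [pow_succ, cj_mul, hfix, ih]
    have e : m = (m * m) ^ j * (m ^ k)⁻¹ := by
      rw [← pow_two, ← pow_mul, ← hj, pow_succ', mul_inv_cancel_right]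
    rw [e, cj_mul, cj_mem_S h hp.1 (inv_mem hmem'), hpow]
  refine ⟨cj n p, ⟨n, hn, rfl⟩, cj (n * n) p, ⟨n * n, mul_mem hn hn, rfl⟩, Ne.symm hne,
    fun e => hne (hodd n hn e.symm), fun e => hne ?_⟩
  have := congrArg (cj n⁻¹) e
  rw [cj_inv_cj, ← cj_mul, inv_mul_cancel_left] at this
  exact this.symm

theorem card_sq_le (h : Facts S) {p : Subgroup G × Subgroup G} (hp : IsMax (S : Subgroup G) p) :
    Nat.card p.2 * Nat.card p.2 ≤ Nat.card p.1 := by
  obtain ⟨a, ha, b, hb, hpa, hpb, hab⟩ := orbit_three h hp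
  have hsize : ∀ q ∈ orbit (S : Subgroup G) p, Nat.card q.2 = Nat.card p.2 := by
    rintro _ ⟨n, -, rfl⟩
    exact (Nat.card_congr ((MulAut.conj n).subgroupMap p.2).toEquiv).symm
  have hinf : a.2 ⊓ b.2 = ⊥ := by
    obtain ⟨y, hy⟩ := (orbit_max hp hb).1
    exact le_bot_iff.1 ((inf_le_inf_right _ (orbit_cross h hp hb ha hab)).trans (hy.inf_eq h.setting).le)
  have hle : a.2 ⊔ b.2 ≤ p.1 :=
    sup_le (orbit_cross h hp (mem_orbit_self _ _) ha (Ne.symm hpa))
      (orbit_cross h hp (mem_orbit_self _ _) hb (Ne.symm hpb))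
  have h1 : Nat.card (a.2 × b.2) ≤ Nat.card p.1 := by
    refine Nat.card_le_card_of_injective
      (fun x => (⟨x.1.1 * x.2.1, hle (mul_mem (mem_sup_left x.1.2) (mem_sup_right x.2.2))⟩ : p.1)) ?_
    intro x x' e
    have := Subgroup.mul_injective_of_disjoint (disjoint_iff.2 hinf) (congrArg Subtype.val e)
    exact this
  rwa [Nat.card_prod, hsize a ha, hsize b hb] at h1

theorem exists_frame (h : Facts S) (hpair : ∃ R V, IsPair (S : Subgroup G) R V) :
    Nonempty (Frame (S : Subgroup G)) := by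
  obtain ⟨R₁, V₁, hp₁⟩ := hpair
  obtain ⟨p, hp, -, -⟩ := exists_max h (p := (R₁, V₁)) hp₁
  set B := orbit (S : Subgroup G) p with hB
  have hbp : ∀ b ∈ B, IsPair (S : Subgroup G) b.1 b.2 := fun b hb => (orbit_max hp hb).1
  have hle : ∀ b ∈ B, b.1 ≤ (S : Subgroup G) ∧ b.2 ≤ (S : Subgroup G) := fun b hb => by
    obtain ⟨y, hy⟩ := hbp b hb
    exact ⟨hy.le_left, hy.le_right⟩
  obtain ⟨a, ha, c, hc, hpa, hpc, hac⟩ := orbit_three h hp
  refine ⟨{
    B := B
    pair := hbp
    exists_three := ⟨p, mem_orbit_self _ _, a, ha, c, hc, hpa, hpc, hac⟩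
    cross := fun b hb d hd hne => orbit_cross h hp hb hd (Ne.symm hne)
    generate := ?_
    invariant := fun n hn b hb => orbit_cj hb hn
    cover := ?_
    sixteen := fun b hb => le_trans (le_trans (by norm_num)
      (Nat.mul_le_mul (pair_four h (hbp b hb)) (pair_four h (hbp b hb))))
      (card_sq_le h (orbit_max hp hb)) }⟩
  · have hW : (⨆ b : B, (b : Subgroup G × Subgroup G).2) ≤ (S : Subgroup G) :=
      iSup_le fun b => (hle _ b.2).2
    rcases h.irr _ hW (fun n hn w hw => by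
      have h1 : MulAut.conj n w ∈
          (⨆ b : B, (b : Subgroup G × Subgroup G).2).map (MulAut.conj n).toMonoidHom :=
        mem_map_of_mem _ hw
      have h2 : (⨆ b : B, (b : Subgroup G × Subgroup G).2).map (MulAut.conj n).toMonoidHom ≤
          ⨆ b : B, (b : Subgroup G × Subgroup G).2 := by
        rw [Subgroup.map_iSup]
        refine iSup_le fun b => ?_
        exact le_iSup (fun b : B => (b : Subgroup G × Subgroup G).2) ⟨cj n b.1, orbit_cj b.2 hn⟩
      exact h2 h1) with e | e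
    · exfalso
      have h1 : p.2 ≤ ⊥ :=
        e ▸ le_iSup (fun b : B => (b : Subgroup G × Subgroup G).2) ⟨p, mem_orbit_self _ _⟩
      have h2 := pair_four h hp.1
      rw [le_bot_iff.1 h1, Subgroup.card_bot] at h2
      omega
    · exact e.ge
  · intro R V hRV
    obtain ⟨q, hq, hV, hR⟩ := exists_max h (p := (R, V)) hRV
    by_cases hqB : q ∈ B
    · exact ⟨q, hqB, hV, hR⟩
    exfalso
    have hq2 : ∀ b ∈ B, q.2 ≤ b.1 := by
      intro b hb
      refine (eq_or_cross h (orbit_max hp hb) hq fun hbot => ?_).resolve_left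
        (fun e => hqB (e ▸ hb)) |>.1
      obtain ⟨yb, hyb⟩ := hbp b hb
      obtain ⟨yq, hyq⟩ := hq.1
      have h1 : Nat.card (b.1 × q.1) ≤ Nat.card (S : Subgroup G) := by
        refine Nat.card_le_card_of_injective
          (fun x => (⟨x.1.1 * x.2.1, mul_mem (hyb.le_left x.1.2) (hyq.le_left x.2.2)⟩ : (S : Subgroup G))) ?_
        intro x x' e
        exact Subgroup.mul_injective_of_disjoint (disjoint_iff.2 hbot) (congrArg Subtype.val e)
      rw [Nat.card_prod, ← pair_card h (hbp b hb)] at h1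
      have h2 : Nat.card q.1 ≤ Nat.card b.2 := Nat.le_of_mul_le_mul_left h1 Nat.card_pos
      have h3 := card_sq_le h hq
      have h4 := card_sq_le h (orbit_max hp hb)
      have h5 := pair_card h hq.1
      have h6 := pair_card h (hbp b hb)
      have h7 := pair_four h hq.1
      have h8 := pair_four h (hbp b hb)
      nlinarith
    have hinv : ∀ n ∈ normalizer ((S : Subgroup G) : Set G),
        ∀ w ∈ (⨅ b : B, (b : Subgroup G × Subgroup G).1), n * w * n⁻¹ ∈ ⨅ b : B, (b : Subgroup G × Subgroup G).1 := by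
      intro n hn w hw
      rw [Subgroup.mem_iInf] at hw ⊢
      intro b
      have h1 := hw ⟨cj n⁻¹ b.1, orbit_cj b.2 (inv_mem hn)⟩
      have h2 : MulAut.conj n w ∈ (cj n (cj n⁻¹ b.1)).1 := mem_map_of_mem _ h1
      rwa [← cj_mul, mul_inv_cancel, cj_one, MulAut.conj_apply] at h2
    rcases h.irr _ ((iInf_le _ (⟨p, mem_orbit_self _ _⟩ : B)).trans (hle p (mem_orbit_self _ _)).1) hinv
      with e | e
    · have h1 : q.2 ≤ ⊥ := e ▸ le_iInf fun b : B => hq2 b.1 b.2
      have h2 := pair_four h hq.1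
      rw [le_bot_iff.1 h1, Subgroup.card_bot] at h2
      omega
    · have h1 : (S : Subgroup G) ≤ p.1 := e ▸ iInf_le _ (⟨p, mem_orbit_self _ _⟩ : B)
      have h2 := Subgroup.card_le_of_le h1
      have h3 := pair_card h hp.1
      have h4 := pair_four h hp.1
      have h5 : 0 < Nat.card p.1 := Nat.card_pos
      nlinarith

end Blocks

end CfsgLib.Walter.Rank
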