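import Cfsg.Agent.Lib.Walter.Rank.Balance
import Cfsg.Agent.Lib.Walter.Rank.Criterion

/-!
# Rank at least four: `Δ(D) = 1`

The local criterion supplies the generation hypothesis of `delta_eq_bot_of`.
-/

set_option autoImplicit false

namespace CfsgLib.Walter.Rank

open Subgroup

universe u

variable {G : Type u} [Group G] [Finite G]

theorem localGenerates (hG : Setting G) (S : Sylow 2 G) (F : Frame (S : Subgroup G)) :
    LocalGenerates (S : Subgroup G) := fun _ hN hU hP =>
  top_of_local hG S F hN fun _ hy hy1 =>
    centralizer_le hG S (F.elem_sq hG) (F.four_le_card hG) hy hy1 (inf_le_left.trans hN) hU hP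

/-- With a frame, every `Δ(D)`, `D` of order eight in `S`, is trivial. -/
theorem delta_eq_bot (hG : Setting G) (S : Sylow 2 G) (F : Frame (S : Subgroup G)) {D : Subgroup G}
    (hD : D ≤ (S : Subgroup G)) (h8 : Nat.card D = 8) : Cfsg.signalizerDelta 2 D = ⊥ :=
  delta_eq_bot_of hG S (F.elem_sq hG) F (localGenerates hG S F) hD h8

end CfsgLib.Walter.Rank
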