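import Cfsg.Agent.Lib.Walter.Rank.Irred
import Cfsg.Agent.Lib.Coprime.PConstrained

/-!
# The torus of a pair

A generator of the torus of the component lifts to an element of `N(S)` fixing `R` pointwise and transitive on
the non-trivial elements of `V`.
-/

set_option autoImplicit false
set_option linter.style.haveILetI false

namespace CfsgLib.Walter.Rank

open Subgroup

universe u

variable {G : Type u} [Group G] [Finite G] {S : Sylow 2 G} {y : G} {R V : Subgroup G}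

theorem IsPairAt.exists_torus (hG : Setting G) (h : IsPairAt (S : Subgroup G) y R V) :
    ∃ n ∈ normalizer ((S : Subgroup G) : Set G), (∀ r ∈ R, n * r * n⁻¹ = r) ∧ (∀ v ∈ V, n * v * n⁻¹ ∈ V) ∧
      ∀ v ∈ V, v ≠ 1 → ∀ w ∈ V, w ≠ 1 → ∃ i : ℕ, n ^ i * v * (n ^ i)⁻¹ = w := by
  haveI : Fact (Nat.Prime 2) := ⟨Nat.prime_two⟩
  have h' := h
  obtain ⟨hy, ho, K, hK, rfl, rfl⟩ := h
  obtain ⟨hs, -, hc, hab⟩ := component_spec hG ho hK
  obtain ⟨Q, hQ, -⟩ := exists_sylow_of_component (S := S) hG hy hK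
  obtain ⟨k, hkN, htr⟩ := Rank.exists_torus hs hc hab Q
  set C := centralizer ({y} : Set G)
  obtain ⟨g, hg⟩ : ∃ g : C, proj y g = (k : CQ y) := QuotientGroup.mk'_surjective _ _
  set SC := (S : Subgroup G).subgroupOf C
  have hSC : (S : Subgroup G) ≤ C := fun s hs => mem_centralizer_of_mem hG hy hs
  have hkP : proj y g ∈ normalizer ((SC.map (proj y) : Subgroup (CQ y)) : Set (CQ y)) := by
    refine mem_normalizer_fintype ?_
    rintro _ ⟨⟨s, hsc⟩, hs', rfl⟩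
    obtain ⟨r, hr, v, hv, rfl⟩ := exists_mul_of_component (S := S) hG hy hK hs'
    have hrc := pre_le y _ hr.1
    have hvc := pre_le y K hv.1
    rw [show (⟨r * v, hsc⟩ : C) = ⟨r, hrc⟩ * ⟨v, hvc⟩ from rfl, map_mul, show proj y g = (k : CQ y) from hg]
    obtain ⟨w, hw, hwc, e⟩ := (hQ (k * ⟨proj y ⟨v, hvc⟩, (mem_pre_iff hvc).1 hv.1⟩ * k⁻¹)).1
      ((Subgroup.mem_normalizer_iff.1 hkN _).1 ((hQ _).2 ⟨v, hv, hvc, rfl⟩))
    refine ⟨⟨r * w, mul_mem hrc hwc⟩, Subgroup.mul_mem (S : Subgroup G) hr.2 hw.2, ?_⟩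
    have hcomm : (k : CQ y) * proj y ⟨r, hrc⟩ = proj y ⟨r, hrc⟩ * (k : CQ y) :=
      mem_centralizer_iff.1 ((mem_pre_iff hrc).1 hr.1) (k : CQ y) k.2
    rw [show (⟨r * w, mul_mem hrc hwc⟩ : C) = ⟨r, hrc⟩ * ⟨w, hwc⟩ from rfl, map_mul, e]
    push_cast
    rw [show proj y ⟨r, hrc⟩ * ((k : CQ y) * proj y ⟨v, hvc⟩ * (k : CQ y)⁻¹) =
      (proj y ⟨r, hrc⟩ * (k : CQ y)) * proj y ⟨v, hvc⟩ * (k : CQ y)⁻¹ by group, ← hcomm]
    group
  obtain ⟨o, ho', hn⟩ := CfsgLib.Coprime.exists_mem_normalizer_lift (O := Cfsg.pPrimeCore 2 ↥C) (P := SC)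
    (CfsgLib.Coprime.pPrimeCore_not_dvd Nat.prime_two)
    (S.2.comap_of_injective C.subtype C.subtype_injective) (g := g) hkP
  have hpk : proj y (o * g) = (k : CQ y) := by
    rw [map_mul, show proj y o = 1 from (QuotientGroup.eq_one_iff o).2 ho', one_mul]
    exact hg
  have hnS : ((o * g : C) : G) ∈ normalizer ((S : Subgroup G) : Set G) := by
    refine mem_normalizer_fintype fun s hs' => ?_
    exact (Subgroup.mem_normalizer_iff.1 hn ⟨s, hSC hs'⟩).1 hs'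
  set n : C := o * g with hndef
  have heq : ∀ {a b : C}, (a : G) ∈ (S : Subgroup G) → (b : G) ∈ (S : Subgroup G) →
      proj y a = proj y b → a = b := fun {a b} ha hb e => by
    refine mul_inv_eq_one.1 (Subtype.ext ?_)
    refine eq_one_of_proj (Subgroup.mul_mem _ ha (Subgroup.inv_mem _ hb)) (a * b⁻¹).2 ?_
    show proj y (a * b⁻¹) = 1
    rw [map_mul, map_inv, e, mul_inv_cancel]
  have hconjS : ∀ i : ℕ, ∀ s ∈ (S : Subgroup G), (n : G) ^ i * s * ((n : G) ^ i)⁻¹ ∈ (S : Subgroup G) :=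
    fun i s hs' => (Subgroup.mem_normalizer_iff.1 (pow_mem hnS i) s).1 hs'
  have hproj : ∀ i : ℕ, ∀ a : C, proj y (n ^ i * a * (n ^ i)⁻¹) =
      (k : CQ y) ^ i * proj y a * ((k : CQ y) ^ i)⁻¹ := fun i a => by
    rw [map_mul, map_mul, map_inv, map_pow, hpk]
  refine ⟨(n : G), hnS, fun r hr => ?_, fun v hv => ?_, fun v hv hv1 w hw hw1 => ?_⟩
  · have hrc := pre_le y _ hr.1
    refine congrArg Subtype.val (heq (a := n * ⟨r, hrc⟩ * n⁻¹) (b := ⟨r, hrc⟩) ?_ hr.2 ?_)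
    · exact (Subgroup.mem_normalizer_iff.1 hnS r).1 hr.2
    · have hcomm := mem_centralizer_iff.1 ((mem_pre_iff hrc).1 hr.1) (k : CQ y) k.2
      rw [map_mul, map_mul, map_inv, hpk, hcomm, mul_inv_cancel_right]
  · have hvc := pre_le y K hv.1
    refine ⟨(mem_pre_iff (n * ⟨v, hvc⟩ * n⁻¹).2).2 ?_, (Subgroup.mem_normalizer_iff.1 hnS v).1 hv.2⟩
    show proj y (n * ⟨v, hvc⟩ * n⁻¹) ∈ K
    rw [map_mul, map_mul, map_inv, hpk]
    exact mul_mem (mul_mem k.2 ((mem_pre_iff hvc).1 hv.1)) (inv_mem k.2)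
  · have hvc := pre_le y K hv.1
    have hwc := pre_le y K hw.1
    have hne : ∀ {z : G} (hzc : z ∈ C) (hzK : proj y ⟨z, hzc⟩ ∈ K), z ∈ (S : Subgroup G) → z ≠ 1 →
        (⟨proj y ⟨z, hzc⟩, hzK⟩ : K) ≠ 1 := fun hzc hzK hzS hz1 e =>
      hz1 (eq_one_of_proj hzS hzc (congrArg Subtype.val e))
    obtain ⟨i, hi⟩ := htr _ ((hQ ⟨proj y ⟨v, hvc⟩, (mem_pre_iff hvc).1 hv.1⟩).2 ⟨v, hv, hvc, rfl⟩)
      (hne hvc _ hv.2 hv1) _ ((hQ ⟨proj y ⟨w, hwc⟩, (mem_pre_iff hwc).1 hw.1⟩).2 ⟨w, hw, hwc, rfl⟩)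
      (hne hwc _ hw.2 hw1)
    have hi' : (k : CQ y) ^ i * proj y ⟨v, hvc⟩ * ((k : CQ y) ^ i)⁻¹ = proj y ⟨w, hwc⟩ := by
      simpa using congrArg Subtype.val hi
    refine ⟨i, ?_⟩
    have := congrArg Subtype.val (heq (a := n ^ i * ⟨v, hvc⟩ * (n ^ i)⁻¹) (b := ⟨w, hwc⟩)
      (by simpa using hconjS i v hv.2) hw.2 ((hproj i _).trans hi'))
    simpa using this

end CfsgLib.Walter.Rank
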