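import Cfsg.Agent.Lib.Walter.Rank.Blocks
import Cfsg.Agent.Lib.Walter.Rank.Torus
import Cfsg.Agent.Lib.Walter.Rank.Transfer

/-!
# The frame of blocks exists in rank at least four
-/

set_option autoImplicit false

namespace CfsgLib.Walter.Rank

universe u

theorem exists_frame {G : Type u} [Group G] [Finite G] (hG : Setting G) (S : Sylow 2 G)
    (h : ∃ R V, IsPair (S : Subgroup G) R V) (h16 : 16 ≤ Nat.card (S : Subgroup G)) :
    Nonempty (Frame (S : Subgroup G)) := by
  refine Blocks.exists_frame ?_ h
  obtain ⟨R, V, y, hy⟩ := h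
  exact
    { setting := hG
      sq := sylow_sq hG hy
      four_le := fun _ _ _ h' => h'.four_le hG
      torus := fun _ _ _ h' => h'.exists_torus hG
      transfer := fun _ _ _ h' _ hy' ho' => by
        obtain ⟨R', V', h1, h2, h3, -⟩ := h'.transfer hG hy' ho'
        exact ⟨R', V', h1, h2, h3⟩
      irr := fun _ hW hinv => irreducible hG hy hW hinv
      sixteen := h16 }

end CfsgLib.Walter.Rank
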