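import Cfsg.Agent.Lib.Walter.Rank.Residual
import Cfsg.Agent.Lib.Walter.Rank.Delta
import Cfsg.Agent.Lib.Walter.Rank.Frame

/-!
# Rank at least four is impossible

A nonsolvable involution centralizer forces Sylow `2`-subgroups elementary abelian of order eight.
-/

set_option autoImplicit false

namespace CfsgLib.Walter.Rank

open Subgroup

universe u

variable {G : Type u} [Group G] [Finite G]

theorem false_of_frame (hG : Setting G) (S : Sylow 2 G) (F : Frame (S : Subgroup G)) : False :=
  Frame.false_of_delta (fun _ hD h8 => delta_eq_bot hG S F hD h8) hG F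

theorem sylowEight_of_nonsolvable (hG : Setting G) {t : G} (ht : orderOf t = 2)
    (hns : ¬ Group.IsSolvable ↥(centralizer ({t} : Set G))) : SylowEight G := by
  haveI := Fact.mk Nat.prime_two
  intro S
  obtain ⟨R, V, y, h⟩ := exists_pair hG S ht hns
  refine ⟨?_, sylow_sq hG h⟩
  have hR : 2 ≤ Nat.card R := by
    haveI : Nontrivial R := ⟨⟨⟨y, h.mem_left hG⟩, 1, fun e => by
      have hy := h.2.1
      rw [show y = 1 from congrArg Subtype.val e, orderOf_one] at hy
      norm_num at hy⟩⟩
    exact Finite.one_lt_card_iff_nontrivial.2 inferInstance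
  have h8 : 8 ≤ Nat.card (S : Subgroup G) := h.card_eq hG ▸ Nat.mul_le_mul hR (h.four_le hG)
  have h16 : ¬ 16 ≤ Nat.card (S : Subgroup G) := fun h16 =>
    (exists_frame hG S ⟨R, V, y, h⟩ h16).elim (false_of_frame hG S)
  obtain ⟨k, hk⟩ := IsPGroup.iff_card.1 S.2
  have h3 : k = 3 := by
    have h1 : 2 ^ k < 2 ^ 4 := by rw [← hk]; omega
    have h2 : 2 ^ 3 ≤ 2 ^ k := by rw [← hk]; omega
    have := (Nat.pow_lt_pow_iff_right (a := 2) (by norm_num)).1 h1
    have := (Nat.pow_le_pow_iff_right (a := 2) (by norm_num)).1 h2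
    omega
  rw [hk, h3]
  norm_num

end CfsgLib.Walter.Rank
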