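import Cfsg.Agent.Lib.Walter.Rank.Setup
import Cfsg.Agent.Lib.Fusion.AbelianSylowAut
import Cfsg.Agent.Lib.Fusion.Abelian
import Cfsg.Agent.Lib.Coprime.Solvable
import Cfsg.Agent.Lib.Coprime.PComponent
import Cfsg.Agent.Lib.ProdFusion.Main
import Cfsg.Agent.Lib.LocalStructure.Kieler
import Cfsg.Agent.Lib.FT.NoMinSimple

/-!
# Groups without odd core with abelian Sylow `2`-subgroups

Components are simple, a Sylow `2`-subgroup fixes each of them and induces inner automorphisms on it, so it lies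
in `E(X) O_2(X)`, and the quotient by this subgroup is solvable.
-/

set_option autoImplicit false
set_option linter.style.haveILetI false

namespace CfsgLib.Walter.Rank

open Subgroup
open scoped commutatorElement

universe u

variable {X : Type u} [Group X] [Finite X]

theorem abTwo_of_injective {Y : Type u} [Group Y] [Finite Y] (f : X →* Y) (hf : Function.Injective f)
    (h : AbTwo Y) : AbTwo X := by
  intro S a b
  obtain ⟨T, hT⟩ := (S.2.map f).exists_le_sylow
  exact Subtype.ext (hf (by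
    rw [Subgroup.coe_mul, Subgroup.coe_mul, map_mul, map_mul]
    exact congrArg Subtype.val (h T ⟨f (a : X), hT (mem_map_of_mem f a.2)⟩ ⟨f (b : X), hT (mem_map_of_mem f b.2)⟩)))

theorem abTwo_of_surjective {Y : Type u} [Group Y] [Finite Y] (f : X →* Y) (hf : Function.Surjective f)
    (h : AbTwo X) : AbTwo Y := by
  haveI : Fact (Nat.Prime 2) := ⟨Nat.prime_two⟩
  intro T a b
  obtain ⟨S⟩ : Nonempty (Sylow 2 X) := inferInstance
  obtain ⟨g, hg⟩ := MulAction.exists_smul_eq Y (S.mapSurjective hf) T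
  obtain ⟨g', rfl⟩ := hf g
  have key : ∀ y ∈ (T : Subgroup Y), ∃ s ∈ ((g' • S : Sylow 2 X) : Subgroup X), f s = y := by
    intro y hy
    rw [← hg, Sylow.coe_subgroup_smul, Sylow.coe_mapSurjective] at hy
    obtain ⟨_, ⟨s, hs, rfl⟩, rfl⟩ := hy
    refine ⟨g' * s * g'⁻¹, ?_, by simp [map_mul, map_inv]⟩
    rw [Sylow.coe_subgroup_smul]
    exact mem_map_of_mem _ hs
  obtain ⟨s, hs, hsa⟩ := key a a.2
  obtain ⟨r, hr, hrb⟩ := key b b.2
  refine Subtype.ext ?_
  push_cast
  rw [← hsa, ← hrb, ← map_mul, ← map_mul]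
  exact congrArg f (congrArg Subtype.val (h (g' • S) ⟨s, hs⟩ ⟨r, hr⟩))

theorem abTwo_subgroup (h : AbTwo X) (H : Subgroup X) : AbTwo H :=
  abTwo_of_injective H.subtype H.subtype_injective h

theorem comm_of_mem (h : AbTwo X) (P : Sylow 2 X) {a b : X} (ha : a ∈ (P : Subgroup X))
    (hb : b ∈ (P : Subgroup X)) : a * b = b * a :=
  congrArg Subtype.val (h P ⟨a, ha⟩ ⟨b, hb⟩)

/-- In a perfect subgroup with abelian Sylow `2`-subgroups a central element of two-power order is trivial. -/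
theorem eq_one_of_central_perfect (hab : AbTwo X) {J : Subgroup X} (hJ : ⁅J, J⁆ = J) {z : X} (hz : z ∈ J)
    (hzc : ∀ j ∈ J, j * z = z * j) {k : ℕ} (hk : z ^ 2 ^ k = 1) : z = 1 := by
  haveI : Fact (Nat.Prime 2) := ⟨Nat.prime_two⟩
  obtain ⟨R, hR⟩ := (CfsgLib.Coprime.isPGroup_zpowers (p := 2) (x := (⟨z, hz⟩ : J)) (k := k)
    (Subtype.ext (by simpa using hk))).exists_le_sylow
  haveI : IsMulCommutative (R : Subgroup J) := ⟨⟨abTwo_subgroup hab J R⟩⟩
  have hperf : (⟨z, hz⟩ : J) ∈ commutator J := by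
    have h1 : (commutator J).map J.subtype = J := by rw [map_subtype_commutator, hJ]
    obtain ⟨w, hw, hwz⟩ := h1.symm ▸ hz
    rwa [show (⟨z, hz⟩ : J) = w from Subtype.ext hwz.symm]
  exact congrArg Subtype.val (CfsgLib.Fusion.central_inf_commutator_eq_one (R : Subgroup J) R.card_coprime_index
    (mem_center_iff.2 fun j => Subtype.ext (hzc j j.2)) hperf (hR (mem_zpowers _)))

variable (hO : Cfsg.pPrimeCore 2 X = ⊥) (hab : AbTwo X)

include hO hab in
theorem center_component {K : Subgroup X} (hK : Cfsg.IsComponent K) : center K = ⊥ := by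
  haveI : Fact (Nat.Prime 2) := ⟨Nat.prime_two⟩
  set Z := (center K).map K.subtype
  have hsn : Z.IsSubnormal :=
    (CfsgLib.Coprime.isSubnormal_map_subtype_iff hK.1 _).2 (Normal.isSubnormal inferInstance)
  have hcop : (Nat.card Z).Coprime 2 := by
    rw [Nat.coprime_comm, Nat.prime_two.coprime_iff_not_dvd]
    intro h2
    rw [card_map_of_injective K.subtype_injective] at h2
    obtain ⟨z, hz⟩ := exists_prime_orderOf_dvd_card' (G := center K) 2 h2
    have h1 : ((z : K) : X) ^ 2 ^ 1 = 1 := by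
      rw [pow_one, ← hz]
      exact_mod_cast congrArg (fun w : center K => ((w : K) : X)) (pow_orderOf_eq_one z)
    have := eq_one_of_central_perfect hab (CfsgLib.Coprime.commutator_self_of_isComponent hK) (z : K).2
      (fun j hj => congrArg Subtype.val (mem_center_iff.1 z.2 ⟨j, hj⟩)) h1
    have e : z = 1 := Subtype.ext (Subtype.ext this)
    rw [e, orderOf_one] at hz
    norm_num at hz
  have h1 : Z ≤ ⊥ := hO ▸ CfsgLib.Coprime.le_pPrimeCore_of_isSubnormal Nat.prime_two hsn hcop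
  exact (map_eq_bot_iff_of_injective _ K.subtype_injective).1 (le_bot_iff.1 h1)

include hO hab in
theorem simple_component {K : Subgroup X} (hK : Cfsg.IsComponent K) :
    IsSimpleGroup K ∧ ¬ IsMulCommutative K := by
  have hc := center_component hO hab hK
  haveI := hK.2.2
  haveI : Nontrivial K := CfsgLib.Coprime.nontrivial_of_isQuasisimple hK.2
  refine ⟨IsSimpleGroup.isSimpleGroup_of_surjective
    ((QuotientGroup.quotientMulEquivOfEq hc).trans QuotientGroup.quotientBot).toMonoidHom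
    (MulEquiv.surjective _), fun h => CfsgLib.Coprime.center_ne_top_of_isQuasisimple hK.2 ?_⟩
  exact top_unique fun x _ => mem_center_iff.2 fun y => h.is_comm.comm y x

include hO in
theorem exists_sylow_component (P : Sylow 2 X) {K : Subgroup X} (hK : Cfsg.IsComponent K) :
    ∃ R : Sylow 2 K, (R : Subgroup K).map K.subtype = (P : Subgroup X) ⊓ K ∧ (R : Subgroup K) ≠ ⊥ := by
  haveI : Fact (Nat.Prime 2) := ⟨Nat.prime_two⟩
  obtain ⟨R, hR⟩ := CfsgLib.LS.sylow_inf_subnormal P hK.1
  exact ⟨R, hR, R.ne_bot_of_dvd_card (CfsgLib.Coprime.dvd_card_of_isComponent hO hK)⟩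

include hO hab in
theorem sylow_normalizes_component (P : Sylow 2 X) {K : Subgroup X} (hK : Cfsg.IsComponent K) :
    (P : Subgroup X) ≤ normalizer (K : Set X) := by
  intro p hp
  obtain ⟨R, hR, hR1⟩ := exists_sylow_component hO P hK
  obtain ⟨z, hz, hz1⟩ := R.toSubgroup.bot_or_exists_ne_one.resolve_left hR1
  have hzP : (z : X) ∈ (P : Subgroup X) ⊓ K := hR ▸ mem_map_of_mem K.subtype hz
  rw [← CfsgLib.Coprime.conjBy_eq_self_iff]
  by_contra hne
  have hK' : Cfsg.IsComponent (CfsgLib.Coprime.conjBy p K) :=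
    CfsgLib.Coprime.isComponent_map_equiv (MulAut.conj p) hK
  have hc := CfsgLib.Coprime.commutator_eq_bot_iff_forall.1 (CfsgLib.Coprime.components_commute hK' hK hne)
  have hz' : (z : X) ∈ CfsgLib.Coprime.conjBy p K := by
    refine CfsgLib.Coprime.mem_conjBy.2 ?_
    rw [comm_of_mem hab P (inv_mem hp) hzP.1, inv_mul_cancel_right]
    exact hzP.2
  refine hz1 (Subgroup.mem_bot.1 (center_component hO hab hK ▸ mem_center_iff.2 fun j => Subtype.ext ?_))
  exact (hc _ hz' _ j.2).symm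

include hO hab in
theorem component_inf_centralizer {K : Subgroup X} (hK : Cfsg.IsComponent K) :
    K ⊓ centralizer (K : Set X) = ⊥ := by
  refine eq_bot_iff.2 fun x hx => Subgroup.mem_bot.2 ?_
  have : (⟨x, hx.1⟩ : K) ∈ center K := mem_center_iff.2 fun j =>
    Subtype.ext (mem_centralizer_iff.1 hx.2 j j.2)
  rw [center_component hO hab hK, Subgroup.mem_bot] at this
  exact congrArg Subtype.val this

include hO hab in
/-- An element of a Sylow `2`-subgroup is a product of one in a component and one centralizing it. -/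
theorem exists_split (P : Sylow 2 X) {K : Subgroup X} (hK : Cfsg.IsComponent K) {p : X}
    (hp : p ∈ (P : Subgroup X)) :
    ∃ v ∈ (P : Subgroup X) ⊓ K, p * v⁻¹ ∈ centralizer (K : Set X) := by
  haveI : Fact (Nat.Prime 2) := ⟨Nat.prime_two⟩
  obtain ⟨R, hR, -⟩ := exists_sylow_component hO P hK
  have hRm : ∀ r : K, r ∈ (R : Subgroup K) → (r : X) ∈ (P : Subgroup X) := fun r hr =>
    (hR ▸ mem_map_of_mem K.subtype hr : (r : X) ∈ (P : Subgroup X) ⊓ K).1
  have hcore : Cfsg.pPrimeCore 2 K = ⊥ := (map_eq_bot_iff_of_injective _ K.subtype_injective).1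
    (le_bot_iff.1 (hO ▸ CfsgLib.Coprime.le_pPrimeCore_of_isSubnormal Nat.prime_two
      ((CfsgLib.Coprime.isSubnormal_map_subtype_iff hK.1 _).2
        (Normal.isSubnormal (by haveI := CfsgLib.Coprime.pPrimeCore_characteristic (G := K) 2; infer_instance)))
      (by rw [card_map_of_injective K.subtype_injective]; exact CfsgLib.Coprime.pPrimeCore_coprime Nat.prime_two)))
  set α : MulAut K := normalizerMonoidHom K ⟨p, sylow_normalizes_component hO hab P hK hp⟩ with hα
  have hαv : ∀ x : K, (α x : X) = p * x * p⁻¹ := fun x => rfl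
  obtain ⟨k, hk⟩ := P.2 ⟨p, hp⟩
  have hp2 : p ^ 2 ^ k = 1 := by simpa using congrArg Subtype.val hk
  obtain ⟨j, -, hj⟩ := (Nat.dvd_prime_pow Nat.prime_two).1
    (orderOf_dvd_of_pow_eq_one (x := α) (n := 2 ^ k) (by
      rw [hα, ← map_pow, show (⟨p, sylow_normalizes_component hO hab P hK hp⟩ :
        normalizer (K : Set X)) ^ 2 ^ k = 1 from Subtype.ext (by simpa using hp2), map_one]))
  obtain ⟨g, hg⟩ := CfsgLib.Fusion.isInner_of_fixes_abelian_sylow (center_component hO hab hK) hcore R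
    ⟨⟨abTwo_subgroup hab K R⟩⟩ α hj fun x hx => Subtype.ext (by
      rw [hαv, comm_of_mem hab P hp (hRm x hx), mul_inv_cancel_right])
  -- the two-part of `g`
  obtain ⟨a, b, hbodd, hab'⟩ := Nat.exists_eq_two_pow_mul_odd (orderOf_pos g).ne'
  obtain ⟨m, hm1, hm0⟩ := Nat.chineseRemainder
    (show (2 ^ k).Coprime b from Nat.Coprime.pow_left k (Nat.coprime_two_left.2 hbodd)) 1 0
  have hgg : α g = g := by rw [hg]; group
  have hpg : Commute p (g : X) := mul_inv_eq_iff_eq_mul.1 ((hαv g).symm.trans (congrArg Subtype.val hgg))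
  have hgc : ∀ x ∈ K, Commute ((g : X)⁻¹ * p) x := fun x hx => by
    have h1 : p * x * p⁻¹ = g * x * (g : X)⁻¹ := (hαv ⟨x, hx⟩).symm.trans (congrArg Subtype.val (hg ⟨x, hx⟩))
    refine mul_inv_eq_iff_eq_mul.1 ?_
    rw [show (g : X)⁻¹ * p * x * ((g : X)⁻¹ * p)⁻¹ = (g : X)⁻¹ * (p * x * p⁻¹) * g by group, h1]
    group
  have hRc : ∀ r ∈ (R : Subgroup K), Commute g r := fun r hr => by
    have h1 : α r = r := Subtype.ext (by rw [hαv, comm_of_mem hab P hp (hRm r hr), mul_inv_cancel_right])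
    rw [hg] at h1
    exact mul_inv_eq_iff_eq_mul.1 h1
  have hgm : g ^ m ∈ (R : Subgroup K) := by
    obtain ⟨c, hc⟩ : b ∣ m := Nat.modEq_zero_iff_dvd.1 hm0
    have h1 : (g ^ m) ^ 2 ^ a = 1 := by
      rw [← pow_mul, show m * 2 ^ a = orderOf g * c by rw [hab', hc]; ring, pow_mul, pow_orderOf_eq_one,
        one_pow]
    have hle : (R : Subgroup K) ⊔ zpowers (g ^ m) = R := R.3
      ((R.2.to_sup_of_normal_left' (CfsgLib.Coprime.isPGroup_zpowers h1) (zpowers_le.2
        (mem_normalizer_iff.2 fun r => ?_)))) le_sup_left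
    · exact hle ▸ mem_sup_right (mem_zpowers _)
    · constructor
      · intro hr
        rwa [((hRc r hr).pow_left m).eq, mul_inv_cancel_right]
      · intro hr
        have := ((hRc _ hr).pow_left m).eq
        rw [inv_mul_cancel_right] at this
        exact (mul_left_cancel this) ▸ hr
  refine ⟨((g ^ m : K) : X), (hR ▸ mem_map_of_mem K.subtype hgm : _ ∈ (P : Subgroup X) ⊓ K), ?_⟩
  have hpm : p ^ m = p := by
    conv_rhs => rw [← pow_one p]
    exact pow_eq_pow_iff_modEq.2 (Nat.ModEq.of_dvd (orderOf_dvd_of_pow_eq_one hp2) hm1)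
  have e : p * ((g ^ m : K) : X)⁻¹ = ((g : X)⁻¹ * p) ^ m := by
    push_cast
    rw [hpg.symm.inv_left.mul_pow, hpm, inv_pow, (hpg.pow_right m).inv_right.eq]
  rw [e, mem_centralizer_iff]
  exact fun x hx => ((hgc x hx).pow_left m).eq.symm

include hO hab in
/-- A two-element normalizing a component acts on it as one of its elements. -/
theorem exists_inner_of_two {K : Subgroup X} (hK : Cfsg.IsComponent K) {x : X} {k : ℕ}
    (hx : x ^ 2 ^ k = 1) : ∃ v ∈ K, v ^ 2 ^ k = 1 ∧ x * v⁻¹ ∈ centralizer (K : Set X) := by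
  obtain ⟨P, hP⟩ := (CfsgLib.Coprime.isPGroup_zpowers (p := 2) hx).exists_le_sylow
  have hxP : x ∈ (P : Subgroup X) := hP (mem_zpowers x)
  obtain ⟨v, hv, hc⟩ := exists_split hO hab P hK hxP
  refine ⟨v, hv.2, ?_, hc⟩
  have h1 : v ^ 2 ^ k ∈ K ⊓ centralizer (K : Set X) := by
    refine ⟨pow_mem hv.2 _, ?_⟩
    have h2 : (x * v⁻¹) ^ 2 ^ k = (v ^ 2 ^ k)⁻¹ := by
      rw [(show Commute x v⁻¹ from comm_of_mem hab P hxP (inv_mem hv.1)).mul_pow, hx, one_mul, inv_pow]
    have h3 := inv_mem (pow_mem hc (2 ^ k))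
    rwa [h2, inv_inv] at h3
  rwa [component_inf_centralizer hO hab hK, Subgroup.mem_bot] at h1

include hO hab in
/-- A Sylow `2`-subgroup lies in `E(X) O_2(X)`. -/
theorem sylow_le (P : Sylow 2 X) : (P : Subgroup X) ≤ Cfsg.layer X ⊔ Cfsg.pCore 2 X := by
  classical
  haveI : Fact (Nat.Prime 2) := ⟨Nat.prime_two⟩
  intro p hp
  have hfin := Set.toFinite {K : Subgroup X | Cfsg.IsComponent K}
  have key : ∀ s : Finset (Subgroup X), (∀ K ∈ s, Cfsg.IsComponent K) →
      ∃ e ∈ (P : Subgroup X) ⊓ Cfsg.layer X, ∀ K ∈ s, p * e⁻¹ ∈ centralizer (K : Set X) := by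
    intro s
    induction s using Finset.induction_on with
    | empty => exact fun _ => ⟨1, one_mem _, fun K hK => absurd hK (Finset.notMem_empty K)⟩
    | insert K s hKs ih =>
      intro hs
      obtain ⟨e, he, hc⟩ := ih fun L hL => hs L (Finset.mem_insert_of_mem hL)
      obtain ⟨v, hv, hvc⟩ := exists_split hO hab P (hs K (Finset.mem_insert_self K s))
        (mul_mem hp (inv_mem he.1))
      refine ⟨v * e, ⟨mul_mem hv.1 he.1, mul_mem
        (CfsgLib.Coprime.component_le_layer (hs K (Finset.mem_insert_self K s)) hv.2) he.2⟩, ?_⟩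
      intro L hL
      rw [mul_inv_rev, ← mul_assoc]
      rcases Finset.mem_insert.1 hL with rfl | hL'
      · exact hvc
      · refine mul_mem (hc L hL') (inv_mem (mem_centralizer_iff.2 fun l hl => ?_))
        exact (CfsgLib.Coprime.commutator_eq_bot_iff_forall.1 (CfsgLib.Coprime.components_commute
          (hs K (Finset.mem_insert_self K s)) (hs L hL) fun e' => hKs (e' ▸ hL')) v hv.2 l hl).symm
  obtain ⟨e, he, hc⟩ := key hfin.toFinset fun K hK => hfin.mem_toFinset.1 hK
  have hf : Cfsg.fittingSubgroup X = Cfsg.pCore 2 X := CfsgLib.Coprime.fitting_eq_pCore_of_pPrimeCore_eq_bot hO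
  have h1 : p * e⁻¹ ∈ centralizer (Cfsg.layer X : Set X) := by
    rw [← zpowers_le, ← commutator_eq_bot_iff_le_centralizer, commutator_comm,
      CfsgLib.Coprime.commutator_layer_eq_bot_iff]
    intro K hK
    rw [commutator_comm, commutator_eq_bot_iff_le_centralizer, zpowers_le]
    exact hc K (hfin.mem_toFinset.2 hK)
  have h2 : p * e⁻¹ ∈ centralizer (Cfsg.generalizedFittingSubgroup X : Set X) := by
    refine mem_centralizer_iff.2 fun y hy => ?_
    obtain ⟨a, ha, b, hb, rfl⟩ := CfsgLib.Coprime.exists_mul_of_mem_generalizedFitting hy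
    rw [hf] at hb
    exact (Commute.mul_left (show Commute a (p * e⁻¹) from mem_centralizer_iff.1 h1 a ha)
      (comm_of_mem hab P (CfsgLib.Coprime.pCore_le_sylow P hb) (mul_mem hp (inv_mem he.1)))).eq
  have h3 : p * e⁻¹ ∈ Cfsg.pCore 2 X := by
    rw [← hf, ← CfsgLib.Coprime.generalizedFitting_inf_centralizer_layer]
    exact ⟨CfsgLib.Coprime.centralizer_generalizedFitting_le h2, h1⟩
  rw [show p = p * e⁻¹ * e by group]
  exact mul_mem (mem_sup_right h3) (mem_sup_left he.2)

include hO hab in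
/-- Perfect subgroups lie in the layer. -/
theorem perfect_le_layer {J : Subgroup X} (hJ : ⁅J, J⁆ = J) : J ≤ Cfsg.layer X := by
  haveI : Fact (Nat.Prime 2) := ⟨Nat.prime_two⟩
  haveI := CfsgLib.Coprime.layer_normal (G := X)
  haveI := CfsgLib.Coprime.pCore_normal' (G := X) 2
  obtain ⟨P⟩ : Nonempty (Sylow 2 X) := inferInstance
  set M := Cfsg.layer X ⊔ Cfsg.pCore 2 X
  have hodd : Odd (Nat.card (X ⧸ M)) := by
    rw [← Subgroup.index_eq_card, ← Nat.not_even_iff_odd, even_iff_two_dvd]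
    exact fun h => P.not_dvd_index (h.trans (index_dvd_of_le (sylow_le hO hab P)))
  haveI : Group.IsSolvable (X ⧸ M) := CfsgLib.FT.isSolvable_of_odd _ hodd
  have h1 : J.map (QuotientGroup.mk' M) = ⊥ := by
    have hp : ⁅J.map (QuotientGroup.mk' M), J.map (QuotientGroup.mk' M)⁆ = J.map (QuotientGroup.mk' M) := by
      rw [← map_commutator, hJ]
    have hall : ∀ i : ℕ, J.map (QuotientGroup.mk' M) ≤ derivedSeries (X ⧸ M) i := by
      intro i
      induction i with
      | zero => exact le_top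
      | succ i ih => rw [derivedSeries_succ]; exact hp.ge.trans (commutator_mono ih ih)
    obtain ⟨i, hi⟩ := (Group.isSolvable_def _).1 (inferInstance : Group.IsSolvable (X ⧸ M))
    exact le_bot_iff.1 (hi ▸ hall i)
  rw [Subgroup.map_eq_bot_iff, QuotientGroup.ker_mk'] at h1
  calc J = ⁅J, J⁆ := hJ.symm
    _ ≤ ⁅M, M⁆ := commutator_mono h1 h1
    _ ≤ Cfsg.layer X := by
      refine commutator_le.2 fun a ha b hb => ?_
      obtain ⟨a₁, ha₁, a₂, ha₂, rfl⟩ : ∃ u ∈ Cfsg.layer X, ∃ v ∈ Cfsg.pCore 2 X, u * v = a := by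
        rw [← SetLike.mem_coe, normal_mul] at ha; exact ha
      obtain ⟨b₁, hb₁, b₂, hb₂, rfl⟩ : ∃ u ∈ Cfsg.layer X, ∃ v ∈ Cfsg.pCore 2 X, u * v = b := by
        rw [← SetLike.mem_coe, normal_mul] at hb; exact hb
      rw [← QuotientGroup.eq_one_iff]
      have e : ∀ {u : X}, u ∈ Cfsg.layer X → (u : X ⧸ Cfsg.layer X) = 1 := fun hu =>
        (QuotientGroup.eq_one_iff _).2 hu
      show ((⁅a₁ * a₂, b₁ * b₂⁆ : X) : X ⧸ Cfsg.layer X) = 1
      simp only [commutatorElement_def, QuotientGroup.mk_mul, QuotientGroup.mk_inv, e ha₁, e hb₁, one_mul]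
      rw [← QuotientGroup.mk_mul, comm_of_mem hab P (CfsgLib.Coprime.pCore_le_sylow P ha₂)
        (CfsgLib.Coprime.pCore_le_sylow P hb₂), QuotientGroup.mk_mul, mul_inv_cancel_right, mul_inv_cancel]

include hO hab in
theorem layer_inf_centralizer : Cfsg.layer X ⊓ centralizer (Cfsg.layer X : Set X) = ⊥ := by
  haveI : Fact (Nat.Prime 2) := ⟨Nat.prime_two⟩
  refine eq_bot_iff.2 fun z hz => Subgroup.mem_bot.2 ?_
  have h1 := CfsgLib.Coprime.layer_inf_centralizer_layer_le_fitting hz
  rw [CfsgLib.Coprime.fitting_eq_pCore_of_pPrimeCore_eq_bot hO] at h1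
  obtain ⟨k, hk⟩ := CfsgLib.Coprime.pCore_isPGroup (G := X) 2 ⟨z, h1⟩
  exact eq_one_of_central_perfect hab CfsgLib.Coprime.layer_isPerfect hz.1
    (fun j hj => mem_centralizer_iff.1 hz.2 j hj) (by simpa using congrArg Subtype.val hk)

include hO hab in
/-- A nonsolvable group has a component. -/
theorem exists_component (hns : ¬ Group.IsSolvable X) : ∃ K : Subgroup X, Cfsg.IsComponent K := by
  by_contra hcon
  have he : Cfsg.layer X = ⊥ := le_bot_iff.1 (sSup_le fun K hK => absurd ⟨K, hK⟩ hcon)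
  refine hns ?_
  haveI := CfsgLib.Coprime.pCore_normal' (G := X) 2
  haveI : Fact (Nat.Prime 2) := ⟨Nat.prime_two⟩
  obtain ⟨P⟩ : Nonempty (Sylow 2 X) := inferInstance
  have hPle : (P : Subgroup X) ≤ Cfsg.pCore 2 X := by simpa [he] using sylow_le hO hab P
  have hodd : Odd (Nat.card (X ⧸ Cfsg.pCore 2 X)) := by
    rw [← Subgroup.index_eq_card, ← Nat.not_even_iff_odd, even_iff_two_dvd]
    exact fun h => P.not_dvd_index (h.trans (index_dvd_of_le hPle))
  have := CfsgLib.FT.isSolvable_of_odd _ hodd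
  haveI := (CfsgLib.Coprime.pCore_isPGroup (G := X) 2).isNilpotent
  exact Group.isSolvable_of_ker_le_range (Cfsg.pCore 2 X).subtype (QuotientGroup.mk' (Cfsg.pCore 2 X))
    (by simp)

end CfsgLib.Walter.Rank
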