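import Cfsg.Agent.Lib.Walter.Rank.Local
import Cfsg.Agent.Lib.Walter.Rank.Factor
import Cfsg.Agent.Lib.Coprime.AveragedComplement
import Cfsg.Agent.Lib.ProdFusion.Main
import Cfsg.Agent.Lib.Fusion.Transfer

/-!
# With a pair, `S` is elementary abelian and `N(S)` is irreducible on it

An invariant subgroup of `Ω₁(S)` has an invariant complement; both are strongly closed, so by product fusion
their normal closures commute. As a `V`-element is not a square, `S` is elementary abelian.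
-/

set_option autoImplicit false
set_option linter.style.haveILetI false

namespace CfsgLib.Walter.Rank

open Subgroup
open scoped commutatorElement

universe u

variable {G : Type u} [Group G] [Finite G] {S : Sylow 2 G} {y : G} {R V : Subgroup G}

/-- A subgroup of a group of exponent two has a complement. -/
theorem exists_compl_of_sq {O W : Subgroup G} (hWO : W ≤ O) (hO : ∀ x ∈ O, x * x = 1) :
    ∃ A : Subgroup G, A ≤ O ∧ W ⊓ A = ⊥ ∧ W ⊔ A = O := by
  have hc : ∀ a ∈ O, ∀ b ∈ O, a * b = b * a := fun a ha b hb => by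
    have h := eq_inv_of_mul_eq_one_left (hO _ (mul_mem ha hb))
    rwa [mul_inv_rev, ← eq_inv_of_mul_eq_one_left (hO a ha), ← eq_inv_of_mul_eq_one_left (hO b hb)] at h
  obtain ⟨A, -, hA⟩ := exists_maximal_ge_of_wellFoundedGT
    (fun A : Subgroup G => A ≤ O ∧ W ⊓ A = ⊥) ⊥ ⟨bot_le, inf_bot_eq _⟩
  obtain ⟨hAO, hAW⟩ := hA.prop
  refine ⟨A, hAO, hAW, le_antisymm (sup_le hWO hAO) fun x hx => ?_⟩
  by_contra hxn
  refine hxn (mem_sup_right ?_)
  let A' : Subgroup G :=
    { carrier := {z | z ∈ O ∧ (z ∈ A ∨ x * z ∈ A)}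
      one_mem' := ⟨one_mem _, Or.inl (one_mem _)⟩
      mul_mem' := by
        rintro a b ⟨haO, ha⟩ ⟨hbO, hb⟩
        refine ⟨mul_mem haO hbO, ?_⟩
        rcases ha with ha | ha <;> rcases hb with hb | hb
        · exact Or.inl (mul_mem ha hb)
        · exact Or.inr (by rw [← mul_assoc, hc x hx a haO, mul_assoc]; exact mul_mem ha hb)
        · exact Or.inr (by rw [← mul_assoc]; exact mul_mem ha hb)
        · refine Or.inl ?_
          have h := mul_mem ha hb
          rwa [mul_assoc, ← mul_assoc a x b, hc a haO x hx, mul_assoc x a b, ← mul_assoc x x,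
            hO x hx, one_mul] at h
      inv_mem' := by
        rintro a ⟨haO, ha⟩
        rw [show a⁻¹ = a from (eq_inv_of_mul_eq_one_left (hO a haO)).symm]
        exact ⟨haO, ha⟩ }
  have hle : A' ≤ A := by
    refine hA.2 ⟨fun z hz => hz.1, (Subgroup.eq_bot_iff_forall _).2 fun w hw => ?_⟩
      fun z hz => ⟨hAO hz, Or.inl hz⟩
    obtain ⟨hwW, -, hwA | hwA⟩ := hw
    · exact Subgroup.mem_bot.1 (hAW ▸ mem_inf.2 ⟨hwW, hwA⟩)
    · refine absurd ?_ hxn
      rw [show x = x * w * w by rw [mul_assoc, hO w (hWO hwW), mul_one]]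
      exact mul_mem (mem_sup_right hwA) (mem_sup_left hwW)
  exact hle ⟨hx, Or.inr (by rw [hO x hx]; exact one_mem _)⟩

/-- An invariant subgroup of `Ω₁(S)` is trivial or everything. -/
theorem irreducible_omega (hG : Setting G) (S : Sylow 2 G) {W : Subgroup G} (hW : W ≤ (S : Subgroup G))
    (hsq : ∀ w ∈ W, w * w = 1)
    (hinv : ∀ n ∈ normalizer ((S : Subgroup G) : Set G), ∀ w ∈ W, n * w * n⁻¹ ∈ W) :
    W = ⊥ ∨ ∀ x ∈ (S : Subgroup G), x * x = 1 → x ∈ W := by
  haveI : Fact (Nat.Prime 2) := ⟨Nat.prime_two⟩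
  let O : Subgroup G :=
    { carrier := {x | x ∈ (S : Subgroup G) ∧ x * x = 1}
      one_mem' := ⟨one_mem _, mul_one 1⟩
      mul_mem' := by
        rintro a b ⟨ha, ha2⟩ ⟨hb, hb2⟩
        refine ⟨Subgroup.mul_mem _ ha hb, ?_⟩
        rw [mul_assoc, ← mul_assoc b a b, sylow_comm hG hb ha, mul_assoc a b b, hb2, mul_one, ha2]
      inv_mem' := by
        rintro a ⟨ha, ha2⟩
        exact ⟨Subgroup.inv_mem _ ha, by rw [← mul_inv_rev, ha2, inv_one]⟩ }
  set N := normalizer ((S : Subgroup G) : Set G)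
  have hON : N ≤ normalizer (O : Set G) := fun n hn => by
    refine mem_normalizer_fintype ?_
    rintro x ⟨hx, hx2⟩
    refine ⟨(Subgroup.mem_normalizer_iff.1 hn x).1 hx, ?_⟩
    rw [show n * x * n⁻¹ * (n * x * n⁻¹) = n * (x * x) * n⁻¹ by group, hx2]
    group
  have hWN : N ≤ normalizer (W : Set G) := fun n hn => mem_normalizer_fintype (hinv n hn)
  obtain ⟨W₀, hW₀, hd, hs⟩ := exists_compl_of_sq (O := O) (fun w hw => ⟨hW hw, hsq w hw⟩) fun x hx => hx.2
  -- an odd complement of `S` in its normalizer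
  let SN := S.subtype (le_normalizer : (S : Subgroup G) ≤ N)
  haveI : (SN : Subgroup N).Normal := normal_in_normalizer
  obtain ⟨H, hH⟩ := exists_right_complement'_of_coprime SN.card_coprime_index
  have hHodd : ¬ 2 ∣ Nat.card H := fun h2 => SN.not_dvd_index (by rwa [hH.symm.index_eq_card])
  set A := H.map N.subtype
  have hA : Nat.card A = Nat.card H := card_map_of_injective N.subtype_injective
  have hAN : A ≤ N := map_subtype_le H
  have hO2 : IsPGroup 2 O := S.2.to_le fun x hx => hx.1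
  obtain ⟨k, hk⟩ := IsPGroup.iff_card.1 hO2
  have hcop : (Nat.card A).Coprime (Nat.card O) := by
    rw [hA, hk]
    exact ((Nat.prime_two.coprime_iff_not_dvd.2 hHodd).pow_left k).symm
  have hOc : IsMulCommutative O := ⟨⟨fun a b => Subtype.ext (sylow_comm hG a.2.1 b.2.1)⟩⟩
  obtain ⟨W', hW'O, hAW', hd', hs'⟩ := CfsgLib.Coprime.exists_averaged_complement hOc (hAN.trans hON) hcop
    (fun w hw => ⟨hW hw, hsq w hw⟩) (hAN.trans hWN) hW₀ hd hs
  have hNW' : N ≤ normalizer (W' : Set G) := by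
    have hSW' : (S : Subgroup G) ≤ normalizer (W' : Set G) := fun s hs => centralizer_le_normalizer _
      (mem_centralizer_iff.2 fun w hw => sylow_comm hG (hW'O hw).1 hs)
    intro n hn
    have h1 : (⟨n, hn⟩ : N) ∈ (SN : Subgroup N) ⊔ H := hH.sup_eq_top ▸ mem_top _
    rw [← SetLike.mem_coe, normal_mul] at h1
    obtain ⟨a, ha, b, hb, e⟩ := h1
    rw [show n = (a : G) * (b : G) from (congrArg Subtype.val e).symm]
    exact mul_mem (hSW' ha) (hAW' (mem_map_of_mem N.subtype hb))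
  have hclosed : ∀ U : Subgroup G, U ≤ O → N ≤ normalizer (U : Set G) →
      Cfsg.IsStronglyClosed U (S : Subgroup G) := by
    refine fun U hU hNU => ⟨fun x hx => (hU hx).1, fun x hx g hgS => ?_⟩
    have hcent : ∀ z ∈ (S : Subgroup G), (S : Subgroup G) ≤ centralizer {z} := fun z hz s hs =>
      mem_centralizer_singleton_iff.2 (sylow_comm hG hs hz)
    obtain ⟨n, hn, e⟩ := CfsgLib.Fusion.exists_normalizer_conj_eq_of_central S (hcent x (hU hx).1) g
      (hcent _ hgS)
    rw [← e]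
    exact (Subgroup.mem_normalizer_iff.1 (hNU hn) x).1 hx
  have key := CfsgLib.ProdFusion.commutator_normalClosure_le S (hclosed W (fun w hw => ⟨hW hw, hsq w hw⟩) hWN)
    (hclosed W' hW'O hNW') (fun a ha b hb => sylow_comm hG (hW ha) (hW'O hb).1) hd'
  rw [core_eq_bot hG] at key
  haveI := hG.simple
  have htop : ∀ U : Subgroup G, U ≠ ⊥ → normalClosure (U : Set G) = ⊤ := fun U hU => by
    refine (normalClosure_normal.eq_bot_or_eq_top).resolve_left fun e => hU (le_bot_iff.1 ?_)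
    rw [← e]
    exact le_normalClosure
  by_contra hcon
  obtain ⟨h1, h2⟩ := not_or.1 hcon
  refine h2 fun x hx hx2 => ?_
  by_contra hxW
  have hW' : W' ≠ ⊥ := fun e => hxW <| by
    rw [e, sup_bot_eq] at hs'
    exact hs' ▸ (⟨hx, hx2⟩ : x ∈ O)
  rw [htop W h1, htop W' hW'] at key
  exact hG.noncomm ⟨⟨fun a b => CfsgLib.Coprime.commutator_eq_bot_iff_forall.1 (le_bot_iff.1 key) a (mem_top a)
    b (mem_top b)⟩⟩

theorem IsPairAt.sq_right (hG : Setting G) (h : IsPairAt (S : Subgroup G) y R V) :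
    ∀ v ∈ V, v * v = 1 := by
  obtain ⟨hy, ho, K, hK, rfl, -⟩ := h
  obtain ⟨hs, -, hc, -⟩ := component_spec hG ho hK
  obtain ⟨Q, hQ, -⟩ := exists_sylow_of_component (S := S) hG hy hK
  intro v hv
  have hvc := pre_le y K hv.1
  have h1 := (sylow_elementary hs hc Q).2 ⟨proj y ⟨v, hvc⟩, (mem_pre_iff hvc).1 hv.1⟩
    ((hQ _).2 ⟨v, hv, hvc, rfl⟩)
  refine eq_one_of_proj (Subgroup.mul_mem _ hv.2 hv.2) (mul_mem hvc hvc) ?_
  rw [show (⟨v * v, mul_mem hvc hvc⟩ : centralizer ({y} : Set G)) = ⟨v, hvc⟩ * ⟨v, hvc⟩ from rfl, map_mul]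
  exact congrArg Subtype.val h1

theorem IsPairAt.four_le (hG : Setting G) (h : IsPairAt (S : Subgroup G) y R V) : 4 ≤ Nat.card V := by
  obtain ⟨hy, ho, K, hK, rfl, -⟩ := h
  obtain ⟨hs, -, hc, -⟩ := component_spec hG ho hK
  obtain ⟨Q, -, hQ⟩ := exists_sylow_of_component (S := S) hG hy hK
  exact hQ ▸ (sylow_elementary hs hc Q).1

/-- With a pair, `S` is elementary abelian. -/
theorem sylow_sq (hG : Setting G) (h : IsPairAt (S : Subgroup G) y R V) :
    ∀ s ∈ (S : Subgroup G), s * s = 1 := by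
  let W : Subgroup G :=
    { carrier := {w | w * w = 1 ∧ ∃ s ∈ (S : Subgroup G), s * s = w}
      one_mem' := ⟨mul_one 1, 1, one_mem _, mul_one 1⟩
      mul_mem' := by
        rintro _ _ ⟨ha, s, hs, rfl⟩ ⟨hb, t, ht, rfl⟩
        have e : ∀ {a b : G}, a ∈ (S : Subgroup G) → b ∈ (S : Subgroup G) →
            a * b * (a * b) = a * a * (b * b) := fun {a b} ha hb => by
          rw [mul_assoc, ← mul_assoc b a b, sylow_comm hG hb ha, mul_assoc a b b, ← mul_assoc]
        refine ⟨?_, s * t, Subgroup.mul_mem _ hs ht, e hs ht⟩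
        rw [e (Subgroup.mul_mem _ hs hs) (Subgroup.mul_mem _ ht ht), ha, hb, mul_one]
      inv_mem' := by
        rintro _ ⟨ha, s, hs, rfl⟩
        rw [show (s * s)⁻¹ = s * s from (eq_inv_of_mul_eq_one_left ha).symm]
        exact ⟨ha, s, hs, rfl⟩ }
  have hWS : W ≤ (S : Subgroup G) := by
    rintro _ ⟨-, s, hs, rfl⟩
    exact Subgroup.mul_mem _ hs hs
  have hW : W = ⊥ := by
    refine (irreducible_omega hG S hWS (fun w hw => hw.1) ?_).resolve_right fun hall => ?_
    · rintro n hn _ ⟨hw, s, hs, rfl⟩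
      refine ⟨?_, n * s * n⁻¹, (Subgroup.mem_normalizer_iff.1 hn s).1 hs, by group⟩
      rw [show n * (s * s) * n⁻¹ * (n * (s * s) * n⁻¹) = n * (s * s * (s * s)) * n⁻¹ by group, hw]
      group
    · obtain ⟨v, hv, hv1⟩ := V.bot_or_exists_ne_one.resolve_left (h.right_ne_bot hG)
      obtain ⟨-, s, hs, e⟩ := hall v (h.le_right hv) (h.sq_right hG v hv)
      obtain ⟨r, hr, w, hw, rfl⟩ := CfsgLib.Coprime.mem_sup_exists (N := R) (H := V)
        (fun w hw => centralizer_le_normalizer _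
          (mem_centralizer_iff.2 fun r hr => sylow_comm hG (h.le_left hr) (h.le_right hw)))
        ((h.sup_eq hG).symm ▸ hs)
      refine hv1 (Subgroup.mem_bot.1 (h.inf_eq hG ▸ mem_inf.2 ⟨?_, hv⟩))
      rw [← e, mul_assoc, ← mul_assoc w r w, sylow_comm hG (h.le_right hw) (h.le_left hr), mul_assoc r w w,
        h.sq_right hG w hw, mul_one]
      exact mul_mem hr hr
  have key : ∀ k : ℕ, ∀ s ∈ (S : Subgroup G), s ^ 2 ^ k = 1 → s * s = 1 := by
    intro k
    induction k with
    | zero =>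
      intro s _ hk
      rw [pow_zero, pow_one] at hk
      rw [hk, mul_one]
    | succ k ih =>
      intro s hs hk
      have h1 := ih (s * s) (Subgroup.mul_mem _ hs hs) (by
        rw [← pow_two, ← pow_mul, ← pow_succ']
        exact hk)
      have h2 : s * s ∈ W := ⟨h1, s, hs, rfl⟩
      rwa [hW, Subgroup.mem_bot] at h2
  intro s hs
  obtain ⟨k, hk⟩ := S.2 ⟨s, hs⟩
  exact key k s hs (by simpa using congrArg Subtype.val hk)

/-- With a pair, `N(S)` is irreducible on `S`. -/
theorem irreducible (hG : Setting G) (h : IsPairAt (S : Subgroup G) y R V) {W : Subgroup G}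
    (hW : W ≤ (S : Subgroup G))
    (hinv : ∀ n ∈ normalizer ((S : Subgroup G) : Set G), ∀ w ∈ W, n * w * n⁻¹ ∈ W) :
    W = ⊥ ∨ W = (S : Subgroup G) :=
  (irreducible_omega hG S hW (fun w hw => sylow_sq hG h w (hW hw)) hinv).imp_right fun hall =>
    le_antisymm hW fun x hx => hall x hx (sylow_sq hG h x hx)

end CfsgLib.Walter.Rank
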