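import Cfsg.Agent.Lib.Walter.Rank.Criterion
import Cfsg.Agent.Lib.Walter.Rank.Factor
import Cfsg.Agent.Lib.Coprime.BalancedFamily

/-!
# The residuals of the blocks

With a frame whose `Δ(D)` are trivial, the groups `res C(R_b)` commute pairwise and are normalized by
`N(S)` and by the centralizers of the hyperplanes of `S`, so there is no frame.

In `C(d)` modulo its core the block of a component `K` is the block containing the trace of `K` in `S`. The
image of `res C(W)`, `W` of index at most two in `R_b`, centralizes the components of the other blocks, since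
the centralizer in such a component of at least half of a Sylow `2`-subgroup is solvable.
-/

set_option autoImplicit false
set_option linter.style.haveILetI false

namespace CfsgLib.Walter.Rank

open Subgroup
open scoped commutatorElement

universe u

section Algebra

variable {X : Type u} [Group X] [Finite X]

theorem eq_bot_of_perfect_le_solvable {H J : Subgroup X} [Group.IsSolvable H] (hle : J ≤ H)
    (hJ : ⁅J, J⁆ = J) : J = ⊥ := by
  have hJ' : ⁅J.subgroupOf H, J.subgroupOf H⁆ = J.subgroupOf H := by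
    refine map_injective H.subtype_injective ?_
    rw [map_commutator, subgroupOf_map_subtype, inf_of_le_left hle, hJ]
  have hall : ∀ i : ℕ, J.subgroupOf H ≤ derivedSeries H i := by
    intro i
    induction i with
    | zero => exact le_top
    | succ i ih => rw [derivedSeries_succ]; exact hJ'.ge.trans (commutator_mono ih ih)
  obtain ⟨i, hi⟩ := (Group.isSolvable_def _).1 (inferInstance : Group.IsSolvable H)
  refine (eq_bot_iff_forall _).2 fun x hx => ?_
  have := (hi ▸ hall i) (mem_subgroupOf.2 hx : (⟨x, hle hx⟩ : H) ∈ J.subgroupOf H)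
  exact congrArg Subtype.val (mem_bot.1 this)

/-- In a group of the list the centralizer of a subgroup of index at most two of a Sylow `2`-subgroup is
solvable. -/
theorem solvable_centralizer_half (hs : IsSimpleGroup X) (hc : CentForm X) (hab : AbTwo X) (P : Sylow 2 X)
    {Q : Subgroup X} (hQ : Q ≤ P) (hcard : Nat.card (P : Subgroup X) ≤ 2 * Nat.card Q) :
    Group.IsSolvable ↥(centralizer (Q : Set X)) := by
  haveI := Fact.mk Nat.prime_two
  obtain ⟨h4, hsq⟩ := sylow_elementary hs hc P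
  have hinv : ∀ u ∈ Q, u ≠ 1 → orderOf u = 2 := fun u hu h1 =>
    orderOf_eq_prime (by rw [sq]; exact hsq u (hQ hu)) h1
  haveI : Nontrivial Q := Finite.one_lt_card_iff_nontrivial.1 (by omega)
  obtain ⟨⟨u, hu⟩, hu1⟩ := exists_ne (1 : Q)
  have hu1' : u ≠ 1 := fun h => hu1 (Subtype.ext h)
  by_cases hns : Group.IsSolvable ↥(centralizer ({u} : Set X))
  · exact Group.isSolvable_of_isSolvable_injective
      (f := Subgroup.inclusion (Subgroup.centralizer_le (Set.singleton_subset_iff.2 hu) :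
        centralizer (Q : Set X) ≤ centralizer ({u} : Set X))) (Subgroup.inclusion_injective _)
  obtain ⟨v, hv, hvu⟩ : ∃ v ∈ Q, v ∉ zpowers u := by
    by_contra! h
    have h1 : Nat.card Q ≤ Nat.card (zpowers u) := card_le_of_le h
    rw [Nat.card_zpowers, hinv u hu hu1'] at h1
    have h8 := (centralizer_structure hs hc hab (hinv u hu hu1') hns).1 P
    omega
  have hv1 : v ≠ 1 := fun h => hvu (h ▸ one_mem _)
  haveI := centralizer_two_isSolvable hs hc hab (hinv u hu hu1') (hinv v hv hv1)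
    (comm_of_mem hab P (hQ hu) (hQ hv)) fun h => hvu (h ▸ mem_zpowers u)
  exact Group.isSolvable_of_isSolvable_injective
    (f := Subgroup.inclusion (Subgroup.centralizer_le (Set.insert_subset hu (Set.singleton_subset_iff.2 hv)) :
      centralizer (Q : Set X) ≤ centralizer ({u, v} : Set X))) (Subgroup.inclusion_injective _)

theorem layer_le_component_sup {K : Subgroup X} (hK : Cfsg.IsComponent K) :
    Cfsg.layer X ≤ K ⊔ centralizer (K : Set X) := by
  refine sSup_le fun L hL => ?_
  rcases eq_or_ne L K with rfl | hne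
  · exact le_sup_left
  · exact le_trans (commutator_eq_bot_iff_le_centralizer.1
      (CfsgLib.Coprime.components_commute hL hK hne)) le_sup_right

/-- A perfect subgroup of the layer commuting with `Q ≤ K`, where `C_K(Q)` is solvable, centralizes `K`. -/
theorem perfect_le_centralizer_component {K : Subgroup X} (hK : Cfsg.IsComponent K) {Q : Subgroup K}
    (hsol : Group.IsSolvable ↥(centralizer (Q : Set K))) {J : Subgroup X} (hJ : ⁅J, J⁆ = J)
    (hJL : J ≤ Cfsg.layer X) (hJQ : ∀ j ∈ J, ∀ q ∈ Q, Commute j (q : X)) :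
    J ≤ centralizer (K : Set X) := by
  set N := normalizer (K : Set X)
  have hJN : J ≤ N := hJL.trans (CfsgLib.Coprime.layer_le_normalizer_component hK)
  set φ := normalizerMonoidHom K
  set ι : centralizer (Q : Set K) →* MulAut K := MulAut.conj.comp (centralizer (Q : Set K)).subtype
  haveI := hsol
  haveI : Group.IsSolvable ι.range :=
    Group.isSolvable_of_surjective (f := ι.rangeRestrict) ι.rangeRestrict_surjective
  haveI : Finite (MulAut K) :=
    Finite.of_injective (fun σ : MulAut K => (σ : _ → _)) DFunLike.coe_injective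
  have hle : (J.subgroupOf N).map φ ≤ ι.range := by
    rintro _ ⟨⟨j, hjN⟩, hj, rfl⟩
    obtain ⟨k, hk, z, hz, rfl⟩ := CfsgLib.Coprime.mem_sup_exists
      (CfsgLib.Coprime.centralizer_le_normalizer_self K) (layer_le_component_sup hK (hJL (mem_subgroupOf.1 hj)))
    have hkQ : (⟨k, hk⟩ : K) ∈ centralizer (Q : Set K) := mem_centralizer_iff.2 fun q hq => Subtype.ext (by
      have h2 : Commute (k * z * z⁻¹) (q : X) := Commute.mul_left (hJQ _ (mem_subgroupOf.1 hj) q hq)
        (show Commute z (q : X) from (mem_centralizer_iff.1 hz q q.2).symm).inv_left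
      rw [mul_inv_cancel_right] at h2
      exact h2.eq.symm)
    refine ⟨⟨⟨k, hk⟩, hkQ⟩, MulEquiv.ext fun x => Subtype.ext ?_⟩
    show k * (x : X) * k⁻¹ = k * z * (x : X) * (k * z)⁻¹
    have hzx : z * (x : X) * z⁻¹ = x := by
      rw [← mem_centralizer_iff.1 hz x x.2, mul_inv_cancel_right]
    calc k * (x : X) * k⁻¹ = k * (z * (x : X) * z⁻¹) * k⁻¹ := by rw [hzx]
      _ = _ := by group
  have hperf : ⁅(J.subgroupOf N).map φ, (J.subgroupOf N).map φ⁆ = (J.subgroupOf N).map φ := by
    rw [← map_commutator]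
    congr 1
    refine map_injective N.subtype_injective ?_
    rw [map_commutator, subgroupOf_map_subtype, inf_of_le_left hJN, hJ]
  have h1 := eq_bot_of_perfect_le_solvable hle hperf
  intro j hj
  have h2 : φ ⟨j, hJN hj⟩ = 1 := mem_bot.1
    (h1 ▸ mem_map_of_mem φ (mem_subgroupOf.2 hj : (⟨j, hJN hj⟩ : N) ∈ J.subgroupOf N))
  refine mem_centralizer_iff.2 fun x hx => ?_
  have h3 : ((φ ⟨j, hJN hj⟩ (⟨x, hx⟩ : K) : K) : X) = x := by rw [h2]; rfl
  change j * x * j⁻¹ = x at h3
  exact (mul_inv_eq_iff_eq_mul.1 h3).symm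

/-- An odd subgroup normalized by a component centralizes it. -/
theorem odd_le_centralizer_component (hO : Cfsg.pPrimeCore 2 X = ⊥) (hab : AbTwo X) {K Y : Subgroup X}
    (hK : Cfsg.IsComponent K) (hY : ¬ 2 ∣ Nat.card Y) (hn : K ≤ normalizer (Y : Set X)) :
    Y ≤ centralizer (K : Set X) := by
  haveI := Fact.mk Nat.prime_two
  haveI := CfsgLib.Coprime.layer_normal (G := X)
  set Z := Y ⊓ Cfsg.layer X
  have hKL := CfsgLib.Coprime.component_le_layer hK
  have hKZ : K ≤ normalizer (Z : Set X) := CfsgLib.Coprime.inf_le_normalizer hn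
    (by rw [Subgroup.normalizer_eq_top]; exact le_top)
  have hcomm : ⁅Y, K⁆ ≤ Z := le_inf
    (commutator_le.2 fun a ha b hb => by
      rw [show ⁅a, b⁆ = a * (b * a⁻¹ * b⁻¹) by rw [commutatorElement_def]; group]
      exact mul_mem ha ((mem_normalizer_iff.1 (hn hb) _).1 (inv_mem ha)))
    ((commutator_mono le_top hKL).trans (commutator_le_right _ _))
  -- the part in `K` is trivial
  have hZK : Z ⊓ K = ⊥ := by
    haveI : ((Z ⊓ K).subgroupOf K).Normal := (normal_subgroupOf_iff_le_normalizer inf_le_right).2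
      (CfsgLib.Coprime.inf_le_normalizer hKZ le_normalizer)
    haveI := (simple_component hO hab hK).1
    rcases (inferInstance : ((Z ⊓ K).subgroupOf K).Normal).eq_bot_or_eq_top with h | h
    · rwa [subgroupOf_eq_bot, disjoint_iff, inf_assoc, inf_idem] at h
    · exact absurd ((CfsgLib.Coprime.dvd_card_of_isComponent hO hK).trans
        (card_dvd_of_le ((subgroupOf_eq_top.1 h).trans (inf_le_left.trans inf_le_left)))) hY
  have h1 : ⁅⁅Y, K⁆, K⁆ = ⊥ := by
    refine le_bot_iff.1 ((commutator_mono hcomm le_rfl).trans ?_)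
    rw [← hZK]
    refine commutator_le.2 fun a ha b hb => Subgroup.mem_inf.2 ⟨?_, ?_⟩
    · rw [show ⁅a, b⁆ = a * (b * a⁻¹ * b⁻¹) by rw [commutatorElement_def]; group]
      exact mul_mem ha ((mem_normalizer_iff.1 (hKZ hb) _).1 (inv_mem ha))
    · exact K.mul_mem ((mem_normalizer_iff.1
        (CfsgLib.Coprime.layer_le_normalizer_component hK ha.2) b).1 hb) (K.inv_mem hb)
  have h2 : ⁅⁅K, Y⁆, K⁆ = ⊥ := by rwa [commutator_comm K Y]
  have h3 := commutator_commutator_eq_bot_of_rotate (H₁ := K) (H₂ := K) (H₃ := Y) h2 h1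
  rw [CfsgLib.Coprime.commutator_self_of_isComponent hK] at h3
  exact commutator_eq_bot_iff_le_centralizer.1 (by rwa [commutator_comm] at h3)

/-- An element of the layer centralizing the components outside a family lies in the family's join. -/
theorem mem_sSup_of_centralizes (hO : Cfsg.pPrimeCore 2 X = ⊥) (hab : AbTwo X) (p : Subgroup X → Prop)
    {x : X} (hx : x ∈ Cfsg.layer X)
    (h : ∀ K : Subgroup X, Cfsg.IsComponent K → ¬ p K → x ∈ centralizer (K : Set X)) :
    x ∈ sSup {K : Subgroup X | Cfsg.IsComponent K ∧ p K} := by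
  set A := sSup {K : Subgroup X | Cfsg.IsComponent K ∧ p K}
  set B := sSup {K : Subgroup X | Cfsg.IsComponent K ∧ ¬ p K}
  have hKA : ∀ K : Subgroup X, Cfsg.IsComponent K → p K → K ≤ A := fun K hK hp =>
    le_sSup (Set.mem_ofPred_eq ▸ ⟨hK, hp⟩)
  have hKB : ∀ K : Subgroup X, Cfsg.IsComponent K → ¬ p K → K ≤ B := fun K hK hp =>
    le_sSup (Set.mem_ofPred_eq ▸ ⟨hK, hp⟩)
  have hle : Cfsg.layer X ≤ A ⊔ B := sSup_le fun K hK => by
    by_cases hp : p K
    · exact (hKA K hK hp).trans le_sup_left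
    · exact (hKB K hK hp).trans le_sup_right
  have hBA : B ≤ centralizer (A : Set X) := by
    rw [le_centralizer_iff]
    refine sSup_le fun K hK => ?_
    rw [le_centralizer_iff]
    exact sSup_le fun L hL => commutator_eq_bot_iff_le_centralizer.1
      (CfsgLib.Coprime.components_commute hL.1 hK.1 fun e => hL.2 (e ▸ hK.2))
  obtain ⟨a, ha, b, hb, rfl⟩ := CfsgLib.Coprime.mem_sup_exists
    (hBA.trans (CfsgLib.Coprime.centralizer_le_normalizer_self A)) (hle hx)
  have hAL : A ≤ Cfsg.layer X := sSup_le fun K hK => CfsgLib.Coprime.component_le_layer hK.1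
  have hbc : Cfsg.layer X ≤ centralizer ({b} : Set X) := sSup_le fun K hK k hk => by
    refine mem_centralizer_singleton_iff.2 ?_
    by_cases hp : p K
    · exact mem_centralizer_iff.1 (hBA hb) k (hKA K hK hp hk)
    · have h1 : Commute k a := mem_centralizer_iff.1
        (hBA (hKB K hK hp hk)) a ha |>.symm
      have h2 : Commute k (a * b) := mem_centralizer_iff.1 (h K hK hp) k hk
      have h3 := h1.inv_right.mul_right h2
      rw [inv_mul_cancel_left] at h3
      exact h3.eq
  have hb1 : b = 1 := by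
    have : b ∈ Cfsg.layer X ⊓ centralizer (Cfsg.layer X : Set X) :=
      ⟨by have := mul_mem (inv_mem (hAL ha)) hx; rwa [inv_mul_cancel_left] at this,
        mem_centralizer_iff.2 fun l hl => mem_centralizer_singleton_iff.1 (hbc hl)⟩
    rwa [layer_inf_centralizer hO hab, mem_bot] at this
  rw [hb1, mul_one]
  exact ha

end Algebra

variable {G : Type u} [Group G] [Finite G]

theorem commutator_map_res {X : Type u} [Group X] {H C : Subgroup G} (h : res H ≤ C) (f : C →* X) :
    ⁅((res H).subgroupOf C).map f, ((res H).subgroupOf C).map f⁆ = ((res H).subgroupOf C).map f := by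
  rw [← map_commutator]
  congr 1
  refine map_injective C.subtype_injective ?_
  rw [map_commutator, subgroupOf_map_subtype, inf_of_le_left h, commutator_res]

theorem res_map_conj (H : Subgroup G) (n : G) :
    (res H).map (MulAut.conj n).toMonoidHom ≤ res (H.map (MulAut.conj n).toMonoidHom) :=
  le_res (map_mono (res_le H)) (by rw [← map_commutator, commutator_res])

/-- An element normalizing `H` normalizes `res H`. -/
theorem mem_normalizer_res {H : Subgroup G} {n : G} (hn : n ∈ normalizer (H : Set G)) :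
    n ∈ normalizer (res H : Set G) := by
  refine mem_normalizer_fintype fun x hx => ?_
  have h1 := res_map_conj H n (mem_map_of_mem _ hx)
  refine res_mono ?_ h1
  rintro _ ⟨h, hh, rfl⟩
  exact (mem_normalizer_iff.1 hn h).1 hh

theorem not_dvd_map_subgroupOf {X : Type u} [Group X] {C H : Subgroup G} (f : C →* X) {p : ℕ}
    (hH : ¬ p ∣ Nat.card H) : ¬ p ∣ Nat.card ((H.subgroupOf C).map f) := fun h => hH (h.trans
  ((Subgroup.card_map_dvd (H := H.subgroupOf C) f).trans (by
    rw [← card_map_of_injective C.subtype_injective (K := H.subgroupOf C), subgroupOf_map_subtype]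
    exact card_dvd_of_le inf_le_left)))

theorem core_odd (a : G) : ¬ 2 ∣ Nat.card (Cfsg.centralizerPPrimeCore 2 a) := by
  unfold Cfsg.centralizerPPrimeCore
  rw [card_map_of_injective (Subgroup.subtype_injective _), ← Nat.prime_two.coprime_iff_not_dvd]
  exact (CfsgLib.Coprime.pPrimeCore_coprime Nat.prime_two).symm

theorem core_conj_mem {a c o : G} (hc : c ∈ centralizer ({a} : Set G))
    (ho : o ∈ Cfsg.centralizerPPrimeCore 2 a) : c * o * c⁻¹ ∈ Cfsg.centralizerPPrimeCore 2 a := by
  obtain ⟨o', ho', rfl⟩ := ho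
  exact ⟨⟨c, hc⟩ * o' * ⟨c, hc⟩⁻¹, Subgroup.Normal.conj_mem inferInstance o' ho' _, rfl⟩

variable {S : Sylow 2 G}

namespace Frame

variable (F : Frame (S : Subgroup G))

/-- The join of the components of `CQ d` belonging to the block `b`. -/
def blockLayer (_F : Frame (S : Subgroup G)) (d : G) (b : Subgroup G × Subgroup G) : Subgroup (CQ d) :=
  sSup {K : Subgroup (CQ d) | Cfsg.IsComponent K ∧ pre d K ⊓ (S : Subgroup G) ≤ b.2}

theorem component_pair {d : G} (hd : d ∈ (S : Subgroup G)) (hd2 : orderOf d = 2) {K : Subgroup (CQ d)}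
    (hK : Cfsg.IsComponent K) : IsPairAt (S : Subgroup G) d
      (pre d (centralizer (K : Set (CQ d))) ⊓ (S : Subgroup G)) (pre d K ⊓ (S : Subgroup G)) :=
  ⟨hd, hd2, K, hK, rfl, rfl⟩

include F in
theorem invol (hG : Setting G) {d : G} (hd : d ∈ (S : Subgroup G)) (hd1 : d ≠ 1) : orderOf d = 2 := by
  haveI := Fact.mk Nat.prime_two
  exact orderOf_eq_prime (by rw [sq]; exact F.elem_sq hG d hd) hd1

/-- The block of a component. -/
theorem exists_block (hG : Setting G) {d : G} (hd : d ∈ (S : Subgroup G)) (hd1 : d ≠ 1)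
    {K : Subgroup (CQ d)} (hK : Cfsg.IsComponent K) :
    ∃ b ∈ F.B, pre d K ⊓ (S : Subgroup G) ≤ b.2 ∧
      b.1 ≤ pre d (centralizer (K : Set (CQ d))) ⊓ (S : Subgroup G) :=
  F.cover _ _ ⟨d, component_pair hd (F.invol hG hd hd1) hK⟩

theorem block_unique (hG : Setting G) {d : G} (hd : d ∈ (S : Subgroup G)) (hd1 : d ≠ 1)
    {K : Subgroup (CQ d)} (hK : Cfsg.IsComponent K) {b c : Subgroup G × Subgroup G} (hb : b ∈ F.B)
    (hc : c ∈ F.B) (hKb : pre d K ⊓ (S : Subgroup G) ≤ b.2) (hKc : pre d K ⊓ (S : Subgroup G) ≤ c.2) :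
    b = c := by
  by_contra hne
  have h4 := (component_pair hd (F.invol hG hd hd1) hK).four_le hG
  have h1 := card_le_of_le (le_inf hKb hKc)
  rw [F.disjoint_blocks hG hb hc hne, Subgroup.card_bot] at h1
  omega

theorem blockLayer_commute (hG : Setting G) {d : G} (hd : d ∈ (S : Subgroup G)) (hd1 : d ≠ 1)
    {b c : Subgroup G × Subgroup G} (hb : b ∈ F.B) (hc : c ∈ F.B) (hne : b ≠ c) :
    F.blockLayer d b ≤ centralizer (F.blockLayer d c : Set (CQ d)) := by
  rw [le_centralizer_iff]
  refine sSup_le fun K hK => ?_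
  rw [le_centralizer_iff]
  exact sSup_le fun L hL => commutator_eq_bot_iff_le_centralizer.1
    (CfsgLib.Coprime.components_commute hL.1 hK.1 fun e =>
      hne (F.block_unique hG hd hd1 hK.1 hb hc (e ▸ hL.2) hK.2))

/-- `R_b` centralizes the components of the block `b`. -/
theorem commute_blockLayer (hG : Setting G) {d : G} (hd : d ∈ (S : Subgroup G)) (hd1 : d ≠ 1)
    {b : Subgroup G × Subgroup G} (hb : b ∈ F.B) {r : G} (hr : r ∈ b.1)
    (hrc : r ∈ centralizer ({d} : Set G)) {x : CQ d} (hx : x ∈ F.blockLayer d b) :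
    Commute x (proj d ⟨r, hrc⟩) := by
  suffices h : F.blockLayer d b ≤ centralizer ({proj d ⟨r, hrc⟩} : Set (CQ d)) from
    mem_centralizer_singleton_iff.1 (h hx)
  refine sSup_le fun K hK k hk => mem_centralizer_singleton_iff.2 ?_
  obtain ⟨b', hb', h1, h2⟩ := F.exists_block hG hd hd1 hK.1
  obtain rfl := F.block_unique hG hd hd1 hK.1 hb hb' hK.2 h1
  obtain ⟨hr', hrK⟩ := mem_pre.1 (h2 hr).1
  exact mem_centralizer_iff.1 hrK k hk

include F in
theorem res_le_centralizer_of_mem (hG : Setting G) {W : Subgroup G} (hW : W ≤ (S : Subgroup G)) {d : G}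
    (hd : d ∈ W) : res (centralizer (W : Set G)) ≤ centralizer ({d} : Set G) :=
  (res_le _).trans (Subgroup.centralizer_le (Set.singleton_subset_iff.2 hd))

/-- The image of `res C(W)` lies in the block of `b` when `W` has index at most two in `R_b`. -/
theorem image_le_blockLayer (hG : Setting G) {b : Subgroup G × Subgroup G} (hb : b ∈ F.B) {W : Subgroup G}
    (hW : W ≤ b.1) (hW2 : W.relIndex b.1 ≤ 2) {d : G} (hd : d ∈ W) (hd1 : d ≠ 1) :
    ((res (centralizer (W : Set G))).subgroupOf (centralizer ({d} : Set G))).map (proj d) ≤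
      F.blockLayer d b := by
  haveI := Fact.mk Nat.prime_two
  obtain ⟨y, hy⟩ := F.pair b hb
  have hWS : W ≤ (S : Subgroup G) := hW.trans hy.le_left
  have hdS := hWS hd
  have hd2 := F.invol hG hdS hd1
  set C := centralizer ({d} : Set G)
  set J := ((res (centralizer (W : Set G))).subgroupOf C).map (proj d)
  have hJ : ⁅J, J⁆ = J := commutator_map_res (F.res_le_centralizer_of_mem hG hWS hd) _
  have hJL : J ≤ Cfsg.layer (CQ d) := perfect_le_layer (cq_core d) (cq_ab hG d) hJ
  intro j hj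
  refine mem_sSup_of_centralizes (cq_core d) (cq_ab hG d) _ (hJL hj) fun K hK hKb => ?_
  obtain ⟨b', hb', h1, -⟩ := F.exists_block hG hdS hd1 hK
  have hne : b' ≠ b := fun e => hKb (e ▸ h1)
  set Vk := pre d K ⊓ (S : Subgroup G) with hVk
  have hVb : Vk ≤ b.1 := h1.trans (F.cross b hb b' hb' (Ne.symm hne))
  -- the projection of `S` into `CQ d`
  have hSC : (S : Subgroup G) ≤ C := fun s hs => mem_centralizer_of_mem hG hdS hs
  set π : (S : Subgroup G) →* CQ d := (proj d).comp (Subgroup.inclusion hSC)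
  have hπi : Function.Injective π := (injective_iff_map_eq_one π).2 fun s hs =>
    Subtype.ext (eq_one_of_proj s.2 (hSC s.2) hs)
  obtain ⟨P, hP⟩ := exists_sylow_cq (S := S) hG hdS
  have hPK : (P : Subgroup (CQ d)) ⊓ K = (Vk.subgroupOf (S : Subgroup G)).map π := by
    refine le_antisymm ?_ ?_
    · rintro x ⟨hxP, hxK⟩
      obtain ⟨s, hs, hc, rfl⟩ := (hP x).1 hxP
      exact ⟨⟨s, hs⟩, mem_subgroupOf.2 ⟨mem_pre.2 ⟨hc, hxK⟩, hs⟩, rfl⟩
    · rintro _ ⟨s, hs, rfl⟩
      obtain ⟨hc, hsK⟩ := mem_pre.1 (mem_subgroupOf.1 hs).1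
      exact ⟨(hP _).2 ⟨s, s.2, hSC s.2, rfl⟩, hsK⟩
  obtain ⟨R, hR, -⟩ := exists_sylow_component (cq_core d) P hK
  set Q₀ := ((W ⊓ Vk).subgroupOf (S : Subgroup G)).map π with hQ₀
  have hQ₀K : Q₀ ≤ (P : Subgroup (CQ d)) ⊓ K :=
    hPK ▸ map_mono (comap_mono inf_le_right)
  have hcardR : Nat.card (R : Subgroup K) = Nat.card Vk := by
    rw [← card_map_of_injective K.subtype_injective, hR, hPK, card_map_of_injective hπi,
      Nat.card_congr (subgroupOfEquivOfLe (inf_le_right : Vk ≤ S)).toEquiv]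
  have hcardQ : Nat.card (Q₀.subgroupOf K) = Nat.card ↥(W ⊓ Vk) := by
    rw [Nat.card_congr (subgroupOfEquivOfLe (hQ₀K.trans inf_le_right)).toEquiv, hQ₀,
      card_map_of_injective hπi,
      Nat.card_congr (subgroupOfEquivOfLe (inf_le_left.trans hWS : W ⊓ Vk ≤ S)).toEquiv]
  have hhalf : Nat.card Vk ≤ 2 * Nat.card ↥(W ⊓ Vk) := by
    have hne0 : W.relIndex b.1 ≠ 0 := Subgroup.index_ne_zero_of_finite
    have hle : (W ⊓ Vk).relIndex Vk ≤ 2 := by
      rw [inf_relIndex_right]
      exact (relIndex_le_of_le_right hVb hne0).trans hW2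
    have h2 : Nat.card ↥(W ⊓ Vk) * (W ⊓ Vk).relIndex Vk = Nat.card Vk := by
      rw [← relIndex_bot_left (H := W ⊓ Vk), ← relIndex_bot_left (H := Vk)]
      exact relIndex_mul_relIndex ⊥ _ _ bot_le inf_le_right
    rw [← h2, mul_comm 2]
    exact Nat.mul_le_mul_left _ hle
  obtain ⟨hs, -, hc, hab⟩ := component_spec hG hd2 hK
  refine perfect_le_centralizer_component hK
    (solvable_centralizer_half hs hc hab R (Q := Q₀.subgroupOf K) ?_ (by rw [hcardR, hcardQ]; exact hhalf))
    hJ hJL ?_ hj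
  · intro q hq
    obtain ⟨r, hr, hrq⟩ := (hR.symm ▸ hQ₀K hq : (q : CQ d) ∈ (R : Subgroup K).map K.subtype)
    exact Subtype.ext hrq ▸ hr
  · rintro _ ⟨p, hp, rfl⟩ q hq
    obtain ⟨s, hs', hsq⟩ := (mem_subgroupOf.1 hq : (q : CQ d) ∈ Q₀)
    rw [← hsq]
    refine Commute.map ?_ (proj d)
    exact Subtype.ext (mem_centralizer_iff.1 (res_le _ hp) s (mem_subgroupOf.1 hs').1).symm

theorem le_signalizerDelta {D : Subgroup G} {x : G}
    (h : ∀ d ∈ D, d ≠ 1 → x ∈ Cfsg.centralizerPPrimeCore 2 d) : x ∈ Cfsg.signalizerDelta 2 D := by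
  simp only [Cfsg.signalizerDelta, mem_iInf]
  exact fun a => h a a.2.1 a.2.2

/-- In a subgroup of order at least eight of `S` an element in all the cores is trivial. -/
theorem eq_one_of_cores (hΔ : ∀ D : Subgroup G, D ≤ S → Nat.card D = 8 → Cfsg.signalizerDelta 2 D = ⊥)
    (hG : Setting G) (_F : Frame (S : Subgroup G)) {W : Subgroup G} (hW : W ≤ (S : Subgroup G))
    (h8 : 8 ≤ Nat.card W) {x : G} (h : ∀ d ∈ W, d ≠ 1 → x ∈ Cfsg.centralizerPPrimeCore 2 d) : x = 1 := by
  haveI := Fact.mk Nat.prime_two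
  obtain ⟨⟨D, hD, hD8⟩, hDW⟩ := CfsgLib.Coprime.BalFam.exists_sub (k := 3)
    (isElementary_of_sq fun w hw => _F.elem_sq hG w (hW hw)) le_rfl (by simpa using h8)
  exact mem_bot.1 (hΔ D (hD.trans hW) (by simpa using hD8) ▸
    le_signalizerDelta fun d hd => h d (hDW hd))

theorem eight_le (hG : Setting G) {b : Subgroup G × Subgroup G} (hb : b ∈ F.B) {W : Subgroup G}
    (hW : W ≤ b.1) (hW2 : W.relIndex b.1 ≤ 2) : 8 ≤ Nat.card W := by
  have h16 := F.sixteen b hb
  have h1 : Nat.card W * W.relIndex b.1 = Nat.card b.1 := by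
    rw [← relIndex_bot_left (H := W), ← relIndex_bot_left (H := b.1)]
    exact relIndex_mul_relIndex ⊥ _ _ bot_le hW
  have h2 : Nat.card W * W.relIndex b.1 ≤ Nat.card W * 2 := Nat.mul_le_mul_left _ hW2
  omega

/-- For `W` of index at most two in `R_b`, `res C(W) = res C(R_b)`. -/
theorem res_eq (hΔ : ∀ D : Subgroup G, D ≤ S → Nat.card D = 8 → Cfsg.signalizerDelta 2 D = ⊥)
    (hG : Setting G) {b : Subgroup G × Subgroup G} (hb : b ∈ F.B) {W : Subgroup G} (hW : W ≤ b.1)
    (hW2 : W.relIndex b.1 ≤ 2) : res (centralizer (W : Set G)) = res (centralizer (b.1 : Set G)) := by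
  obtain ⟨y, hy⟩ := F.pair b hb
  have hWS : W ≤ (S : Subgroup G) := hW.trans hy.le_left
  refine le_antisymm (le_res (fun p hp => mem_centralizer_iff.2 fun r hr => ?_) (commutator_res _))
    (res_mono (Subgroup.centralizer_le hW))
  rw [← mul_inv_eq_one, mul_inv_rev, ← mul_assoc, ← commutatorElement_def]
  refine eq_one_of_cores hΔ hG F hWS (F.eight_le hG hb hW hW2) fun d hd hd1 => ?_
  have hdS := hWS hd
  have hpc := F.res_le_centralizer_of_mem hG hWS hd hp
  have hrc := mem_centralizer_of_mem hG hdS (hy.le_left hr)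
  have hxc : ⁅r, p⁆ ∈ centralizer ({d} : Set G) := by
    rw [commutatorElement_def]; exact mul_mem (mul_mem (mul_mem hrc hpc) (inv_mem hrc)) (inv_mem hpc)
  refine (proj_eq_one_iff hxc).1 ?_
  have hmem : proj d ⟨p, hpc⟩ ∈
      ((res (centralizer (W : Set G))).subgroupOf (centralizer ({d} : Set G))).map (proj d) :=
    mem_map_of_mem _ (mem_subgroupOf.2 hp)
  have h1 := F.commute_blockLayer hG hdS hd1 hb hr hrc (F.image_le_blockLayer hG hb hW hW2 hd hd1 hmem)
  rw [show (⟨⁅r, p⁆, hxc⟩ : centralizer ({d} : Set G)) = ⁅(⟨r, hrc⟩ : centralizer ({d} : Set G)), ⟨p, hpc⟩⁆ from rfl, map_commutatorElement]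
  exact commutatorElement_eq_one_iff_commute.2 h1.symm

/-- For `a ∈ R_b` the block `b` in `C(u)` centralizes the image of `O(C(a)) ∩ C(u)`. -/
theorem blockLayer_centralizes_core (hG : Setting G) {b : Subgroup G × Subgroup G} (hb : b ∈ F.B) {a u : G}
    (ha : a ∈ b.1) (haS : a ∈ (S : Subgroup G)) (huS : u ∈ (S : Subgroup G)) (hu1 : u ≠ 1) :
    F.blockLayer u b ≤ centralizer ((((Cfsg.centralizerPPrimeCore 2 a).subgroupOf
      (centralizer ({u} : Set G))).map (proj u) : Subgroup (CQ u)) : Set (CQ u)) := by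
  haveI := Fact.mk Nat.prime_two
  have hYodd := not_dvd_map_subgroupOf (proj u) (C := centralizer ({u} : Set G)) (core_odd a)
  refine sSup_le fun K hK => le_centralizer_iff.1
    (odd_le_centralizer_component (cq_core u) (cq_ab hG u) hK.1 hYodd ?_)
  -- the block normalizes the image of the core of `C(a)`
  have hauC : a ∈ centralizer ({u} : Set G) := mem_centralizer_of_mem hG huS haS
  have hpa : IsPGroup 2 (zpowers a) := S.2.to_le (zpowers_le.2 haS)
  have hcomm : ∀ k ∈ K, ∀ (q : G) (hq : q ∈ zpowers a),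
      Commute k (proj u ⟨q, (zpowers_le.2 hauC) hq⟩) := by
    intro k hk q hq
    have hqb : q ∈ b.1 := (zpowers_le.2 ha) hq
    exact F.commute_blockLayer hG huS hu1 hb hqb ((zpowers_le.2 hauC) hq)
      ((le_sSup hK : K ≤ F.blockLayer u b) hk)
  have h1 := le_map_res_centralizer hpa (zpowers_le.2 hauC)
    (CfsgLib.Coprime.commutator_self_of_isComponent hK.1) hcomm
  refine h1.trans ?_
  rintro _ ⟨c, hc', rfl⟩
  have hca : (c : G) ∈ centralizer ({a} : Set G) :=
    mem_centralizer_singleton_iff.2 (mem_centralizer_iff.1 (res_le _ (mem_subgroupOf.1 hc')) a (mem_zpowers a)).symm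
  refine mem_normalizer_fintype ?_
  rintro _ ⟨o, ho, rfl⟩
  refine ⟨c * o * c⁻¹, mem_subgroupOf.2 ?_, by rw [map_mul, map_mul, map_inv]⟩
  exact core_conj_mem hca (mem_subgroupOf.1 ho)

/-- `res C(R_b)` centralizes the cores of the centralizers of the involutions of `R_b`. -/
theorem core_le_centralizer (hΔ : ∀ D : Subgroup G, D ≤ S → Nat.card D = 8 → Cfsg.signalizerDelta 2 D = ⊥)
    (hG : Setting G) {b : Subgroup G × Subgroup G} (hb : b ∈ F.B) {a : G} (ha : a ∈ b.1) :
    Cfsg.centralizerPPrimeCore 2 a ≤ centralizer (res (centralizer (b.1 : Set G)) : Set G) := by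
  haveI := Fact.mk Nat.prime_two
  obtain ⟨y, hy⟩ := F.pair b hb
  have haS := hy.le_left ha
  have hOodd := core_odd a
  have hnorm : b.1 ≤ normalizer (Cfsg.centralizerPPrimeCore 2 a : Set G) := fun r hr =>
    mem_normalizer_fintype fun o ho => core_conj_mem (mem_centralizer_of_mem hG haS (hy.le_left hr)) ho
  have h4 : 2 ^ 2 ≤ Nat.card b.1 := le_trans (by norm_num) (F.sixteen b hb)
  refine CfsgLib.Coprime.le_of_hyperplanes (p := 2) (B := b.1)
    (isElementary_of_sq fun r hr => F.elem_sq hG r (hy.le_left hr)) h4 hOodd hnorm ?_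
  intro U hU hU2 x hx
  refine mem_centralizer_iff.2 fun l hl => ?_
  rw [← commutatorElement_eq_one_iff_mul_comm]
  refine eq_one_of_cores hΔ hG F (hU.trans hy.le_left) (F.eight_le hG hb hU hU2.le) fun u hu hu1 => ?_
  have huS := hy.le_left (hU hu)
  have hxu : x ∈ centralizer ({u} : Set G) :=
    mem_centralizer_singleton_iff.2 (mem_centralizer_iff.1 hx.2 u hu).symm
  have hlu : l ∈ centralizer ({u} : Set G) := F.res_le_centralizer_of_mem hG hy.le_left (hU hu) hl
  have hc : ⁅l, x⁆ ∈ centralizer ({u} : Set G) := by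
    rw [commutatorElement_def]; exact mul_mem (mul_mem (mul_mem hlu hxu) (inv_mem hlu)) (inv_mem hxu)
  refine (proj_eq_one_iff hc).1 ?_
  rw [show (⟨⁅l, x⁆, hc⟩ : centralizer ({u} : Set G)) = ⁅(⟨l, hlu⟩ : centralizer ({u} : Set G)), ⟨x, hxu⟩⁆
    from rfl, map_commutatorElement, commutatorElement_eq_one_iff_commute]
  have hl' : proj u ⟨l, hlu⟩ ∈
      ((res (centralizer (b.1 : Set G))).subgroupOf (centralizer ({u} : Set G))).map (proj u) :=
    mem_map_of_mem _ (mem_subgroupOf.2 hl)
  have hx' : proj u ⟨x, hxu⟩ ∈ ((Cfsg.centralizerPPrimeCore 2 a).subgroupOf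
      (centralizer ({u} : Set G))).map (proj u) := mem_map_of_mem _ (mem_subgroupOf.2 hx.1)
  have h2 : b.1.relIndex b.1 ≤ 2 := by rw [relIndex_self]; norm_num
  have hl'' := F.image_le_blockLayer hG hb le_rfl h2 (hU hu) hu1 hl'
  exact (mem_centralizer_iff.1 (F.blockLayer_centralizes_core hG hb ha haS huS hu1 hl'') _ hx').symm

/-- The residuals of two blocks commute. -/
theorem residuals_commute (hΔ : ∀ D : Subgroup G, D ≤ S → Nat.card D = 8 → Cfsg.signalizerDelta 2 D = ⊥)
    (hG : Setting G) {b c : Subgroup G × Subgroup G} (hb : b ∈ F.B) (hc : c ∈ F.B) (hne : b ≠ c) :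
    res (centralizer (b.1 : Set G)) ≤ centralizer (res (centralizer (c.1 : Set G)) : Set G) := by
  obtain ⟨e, he, heb, hec⟩ : ∃ e ∈ F.B, e ≠ b ∧ e ≠ c := by
    obtain ⟨p, hp, q, hq, r, hr, hpq, hpr, hqr⟩ := F.exists_three
    by_cases h1 : p ≠ b ∧ p ≠ c
    · exact ⟨p, hp, h1⟩
    by_cases h2 : q ≠ b ∧ q ≠ c
    · exact ⟨q, hq, h2⟩
    refine ⟨r, hr, ?_⟩
    grind
  obtain ⟨d, hd, hd1⟩ := F.exists_ne_one hG he
  have hdb : d ∈ b.1 := F.cross b hb e he (Ne.symm heb) hd
  have hdc : d ∈ c.1 := F.cross c hc e he (Ne.symm hec) hd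
  have hdS := F.mem_S he hd
  obtain ⟨y, hy⟩ := F.pair b hb
  obtain ⟨z, hz⟩ := F.pair c hc
  set Lb := res (centralizer (b.1 : Set G))
  set Lc := res (centralizer (c.1 : Set G))
  have hle : ⁅Lb, Lc⁆ ≤ Cfsg.centralizerPPrimeCore 2 d := by
    refine commutator_le.2 fun l hl m hm => ?_
    have hlc := F.res_le_centralizer_of_mem hG hy.le_left hdb hl
    have hmc := F.res_le_centralizer_of_mem hG hz.le_left hdc hm
    have hxc : ⁅l, m⁆ ∈ centralizer ({d} : Set G) := by
      rw [commutatorElement_def]; exact mul_mem (mul_mem (mul_mem hlc hmc) (inv_mem hlc)) (inv_mem hmc)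
    refine (proj_eq_one_iff hxc).1 ?_
    rw [show (⟨⁅l, m⁆, hxc⟩ : centralizer ({d} : Set G)) = ⁅(⟨l, hlc⟩ : centralizer ({d} : Set G)), ⟨m, hmc⟩⁆ from rfl,
      map_commutatorElement, commutatorElement_eq_one_iff_commute]
    have hl' : proj d ⟨l, hlc⟩ ∈ (Lb.subgroupOf (centralizer ({d} : Set G))).map (proj d) :=
      mem_map_of_mem _ (mem_subgroupOf.2 hl)
    have hm' : proj d ⟨m, hmc⟩ ∈ (Lc.subgroupOf (centralizer ({d} : Set G))).map (proj d) :=
      mem_map_of_mem _ (mem_subgroupOf.2 hm)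
    exact (mem_centralizer_iff.1 (F.blockLayer_commute hG hdS hd1 hb hc hne
      (F.image_le_blockLayer hG hb le_rfl (by simp) hdb hd1 hl')) _
      (F.image_le_blockLayer hG hc le_rfl (by simp) hdc hd1 hm')).symm
  have h1 : ⁅⁅Lb, Lc⁆, Lb⁆ = ⊥ :=
    commutator_eq_bot_iff_le_centralizer.2 (hle.trans (F.core_le_centralizer hΔ hG hb hdb))
  have h2 := commutator_commutator_eq_bot_of_rotate (H₁ := Lb) (H₂ := Lb) (H₃ := Lc) h1
    (by rwa [commutator_comm Lc Lb])
  rw [commutator_res] at h2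
  exact commutator_eq_bot_iff_le_centralizer.1 h2

theorem map_res_block (hG : Setting G) {n : G} (hn : n ∈ normalizer ((S : Subgroup G) : Set G))
    {b : Subgroup G × Subgroup G} (hb : b ∈ F.B) :
    ∃ c ∈ F.B, (res (centralizer (b.1 : Set G))).map (MulAut.conj n).toMonoidHom ≤
      res (centralizer (c.1 : Set G)) := by
  refine ⟨_, F.invariant n hn b hb, (res_map_conj _ n).trans (res_mono ?_)⟩
  rintro _ ⟨x, hx, rfl⟩
  refine mem_centralizer_iff.2 ?_
  rintro _ ⟨r, hr, rfl⟩
  exact ((show Commute r x from mem_centralizer_iff.1 hx r hr).map (MulAut.conj n).toMonoidHom).eq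

theorem hyperplane_normalizes_res (hΔ : ∀ D : Subgroup G, D ≤ S → Nat.card D = 8 → Cfsg.signalizerDelta 2 D = ⊥)
    (hG : Setting G) {U : Subgroup G} (hU2 : U.relIndex (S : Subgroup G) = 2) {c : G}
    (hc : c ∈ centralizer (U : Set G)) {b : Subgroup G × Subgroup G} (hb : b ∈ F.B) :
    c ∈ normalizer (res (centralizer (b.1 : Set G)) : Set G) := by
  obtain ⟨y, hy⟩ := F.pair b hb
  have hne : U.relIndex (S : Subgroup G) ≠ 0 := by rw [hU2]; norm_num
  have hW2 : (U ⊓ b.1).relIndex b.1 ≤ 2 := by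
    rw [inf_relIndex_right]
    exact (relIndex_le_of_le_right hy.le_left hne).trans hU2.le
  have hc' : c ∈ centralizer ((U ⊓ b.1 : Subgroup G) : Set G) :=
    mem_centralizer_iff.2 fun x hx => mem_centralizer_iff.1 hc x hx.1
  have hn := mem_normalizer_res (H := centralizer ((U ⊓ b.1 : Subgroup G) : Set G)) (le_normalizer hc')
  rwa [F.res_eq hΔ hG hb inf_le_right hW2] at hn

theorem res_block_ne_bot (hG : Setting G) {b : Subgroup G × Subgroup G} (hb : b ∈ F.B) :
    res (centralizer (b.1 : Set G)) ≠ ⊥ := by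
  intro h0
  obtain ⟨y, hyS, hy2, K, hK, -, hR⟩ := F.pair b hb
  have haC : b.1 ≤ centralizer ({y} : Set G) := hR.le.trans (inf_le_left.trans (pre_le y _))
  have haP : IsPGroup 2 b.1 := S.2.to_le (hR.le.trans inf_le_right)
  have h1 := le_map_res_centralizer haP haC (CfsgLib.Coprime.commutator_self_of_isComponent hK)
    fun j hj q hq => by
      obtain ⟨hq', hqK⟩ := mem_pre.1 (hR.le hq).1
      exact mem_centralizer_iff.1 hqK j hj
  rw [h0, bot_subgroupOf, Subgroup.map_bot, le_bot_iff] at h1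
  haveI := CfsgLib.Coprime.nontrivial_of_isQuasisimple hK.2
  exact (Subgroup.nontrivial_iff_ne_bot K).1 inferInstance h1

include F in
theorem centralizer_le_of_blocks (hG : Setting G) {M : Subgroup G}
    (hN : normalizer ((S : Subgroup G) : Set G) ≤ M)
    (hU : ∀ U : Subgroup G, U ≤ S → U.relIndex (S : Subgroup G) = 2 → centralizer (U : Set G) ≤ M)
    (hL : ∀ b ∈ F.B, res (centralizer (b.1 : Set G)) ≤ M) {y : G} (hy : y ∈ (S : Subgroup G)) (hy1 : y ≠ 1) :
    centralizer ({y} : Set G) ≤ M :=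
  CfsgLib.Walter.Rank.centralizer_le hG S (F.elem_sq hG) (F.four_le_card hG) hy hy1 (inf_le_left.trans hN) hU
    fun R V hRV => by
      obtain ⟨b, hb, -, hbR⟩ := F.cover R V hRV
      refine le_trans (res_mono ?_) (hL b hb)
      exact fun x hx => mem_centralizer_iff.2 fun r hr => mem_centralizer_iff.1 hx r (hbR hr)

/-- There is no frame with trivial `Δ`. -/
theorem false_of_delta (hΔ : ∀ D : Subgroup G, D ≤ S → Nat.card D = 8 → Cfsg.signalizerDelta 2 D = ⊥)
    (hG : Setting G) (F : Frame (S : Subgroup G)) : False := by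
  haveI := hG.simple
  obtain ⟨D, hD⟩ : ∃ D : Subgroup G, (∀ b ∈ F.B, res (centralizer (b.1 : Set G)) ≤ D) ∧
      ∀ M : Subgroup G, (∀ b ∈ F.B, res (centralizer (b.1 : Set G)) ≤ M) → D ≤ M :=
    ⟨sSup ((fun b : Subgroup G × Subgroup G => res (centralizer (b.1 : Set G))) '' F.B),
      fun b hb => le_sSup (Set.mem_image_of_mem _ hb), fun M hM => sSup_le (by
        rintro _ ⟨b, hb, rfl⟩; exact hM b hb)⟩
  obtain ⟨hLD, hmin⟩ := hD
  have hinv : ∀ n : G, (∀ b ∈ F.B, (res (centralizer (b.1 : Set G))).map (MulAut.conj n).toMonoidHom ≤ D) →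
      n ∈ normalizer (D : Set G) := by
    intro n h
    refine mem_normalizer_fintype fun x hx => ?_
    have h1 : D ≤ D.comap (MulAut.conj n).toMonoidHom :=
      hmin _ fun b hb => map_le_iff_le_comap.1 (h b hb)
    exact h1 hx
  have hN : normalizer ((S : Subgroup G) : Set G) ≤ normalizer (D : Set G) := fun n hn => hinv n fun b hb => by
    obtain ⟨c, hc, hle⟩ := F.map_res_block hG hn hb
    exact hle.trans (hLD c hc)
  have hU : ∀ U : Subgroup G, U ≤ S → U.relIndex (S : Subgroup G) = 2 →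
      centralizer (U : Set G) ≤ normalizer (D : Set G) := by
    intro U _ hU2 c hc
    refine hinv c fun b hb => ?_
    rintro _ ⟨x, hx, rfl⟩
    exact hLD b hb ((mem_normalizer_iff.1 (F.hyperplane_normalizes_res hΔ hG hU2 hc hb) x).1 hx)
  have htop : normalizer (D : Set G) = ⊤ := top_of_local hG S F hN fun y hy hy1 =>
    F.centralizer_le_of_blocks hG hN hU (fun b hb => (hLD b hb).trans le_normalizer) hy hy1
  obtain ⟨a, ha, -⟩ := F.exists_three
  obtain ⟨y, hy⟩ := F.pair a ha
  have hLa := F.res_block_ne_bot hG ha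
  have hDn : D.Normal := normalizer_eq_top_iff.1 htop
  have hDtop : D = ⊤ := hDn.eq_bot_or_eq_top.resolve_left fun h =>
    hLa (le_bot_iff.1 ((hLD a ha).trans h.le))
  have hLn : (res (centralizer (a.1 : Set G))).Normal := by
    refine normalizer_eq_top_iff.1 (top_unique (hDtop.ge.trans (hmin _ fun b hb => ?_)))
    rcases eq_or_ne b a with h | h
    · rw [h]; exact le_normalizer
    · exact (F.residuals_commute hΔ hG hb ha h).trans (CfsgLib.Coprime.centralizer_le_normalizer_self _)
  have hy1 : y ≠ 1 := fun e => by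
    have := hy.2.1
    rw [e, orderOf_one] at this
    norm_num at this
  exact centralizer_ne_top hG hy1 (top_unique ((hLn.eq_bot_or_eq_top.resolve_left hLa).ge.trans
    (F.res_le_centralizer_of_mem hG hy.le_left (hy.mem_left hG))))

end Frame

end CfsgLib.Walter.Rank
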